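import Groth.Agent.QCoh.DevissageSum
import Groth.Agent.QCoh.Support
import Groth.Agent.QCoh.FT
import Groth.Agent.ModStLib.FibGrpd

/-!
# Criteria on an affine cover
-/

universe u

set_option backward.isDefEq.respectTransparency false
set_option backward.isDefEq.respectTransparency.types false

open CategoryTheory CategoryTheory.Limits AlgebraicGeometry TopologicalSpace Opposite

namespace Groth.Agent.LimMod

open Groth.Agent

variable {X : Scheme.{u}} {M N : X.Modules} (f : M ⟶ N) {ι : Type*} (U : ι → X.Opens)
  (hU : ∀ i, IsAffineOpen (U i)) (hcov : ∀ x : X, ∃ i, x ∈ U i)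

include hU hcov in
/-- A morphism surjective over the opens of an affine cover is an epimorphism. -/
theorem epi_of_surjective (hM : Coh.IsQCoh M) (hN : Coh.IsQCoh N)
    (h : ∀ i, Function.Surjective (f.app (U i))) : Epi f := by
  refine Preadditive.epi_of_cokernel_zero ?_
  refine (QCoh.isZero_of_cover (QCoh.isQCoh_cokernel hM hN f) U hU hcov
    fun i => subsingleton_of_forall_eq 0 fun z => ?_).eq_of_tgt _ _
  obtain ⟨y, rfl⟩ := QCoh.app_surjective_of_epi hN (QCoh.isQCoh_cokernel hM hN f) (cokernel.π f) (hU i) z
  obtain ⟨w, rfl⟩ := h i y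
  exact congrArg (fun ψ => Scheme.Modules.Hom.app ψ (U i) w) (cokernel.condition f)

include hU hcov in
/-- A morphism injective over the opens of an affine cover is a monomorphism. -/
theorem mono_of_injective (hM : Coh.IsQCoh M) (hN : Coh.IsQCoh N)
    (h : ∀ i, Function.Injective (f.app (U i))) : Mono f := by
  refine Preadditive.mono_of_kernel_zero ?_
  refine (QCoh.isZero_of_cover (QCoh.isQCoh_kernel hM hN f) U hU hcov
    fun i => subsingleton_of_forall_eq 0 fun z => ?_).eq_of_src _ _
  refine QCoh.app_injective (kernel.ι f) (U i) (h i ?_)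
  have := congrArg (fun ψ => Scheme.Modules.Hom.app ψ (U i) z) (kernel.condition f)
  rw [map_zero, map_zero]
  exact this

/-- The kernel of a surjection from finite type onto finite presentation is of finite type. -/
theorem isFT_kernel_of_epi (hM : Coh.IsQCoh M) (hMt : CohB1.IsFT M) (hN : CohB1.IsFP N) [Epi f] :
    CohB1.IsFT (kernel f) := by
  have hNq := QCoh.isQCoh_of_isFP hN
  refine QCoh.isFT_of_finite (QCoh.isQCoh_kernel hM hNq f) (fun V : X.affineOpens => V.1)
    (iSup_affineOpens_eq_top X) (fun V => V.2) fun V => ?_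
  haveI := QCoh.finite_of_isFT hM hMt V.2
  haveI := QCoh.finitePresentation_of_isFP hN V.2
  let l : Γ(M, V.1) →ₗ[Γ(X, V.1)] Γ(N, V.1) :=
    { toFun := f.app V.1
      map_add' := map_add _
      map_smul' := Scheme.Modules.Hom.app_smul _ }
  let k : Γ(kernel f, V.1) →ₗ[Γ(X, V.1)] Γ(M, V.1) :=
    { toFun := (kernel.ι f).app V.1
      map_add' := map_add _
      map_smul' := Scheme.Modules.Hom.app_smul _ }
  have hl : Function.Surjective l := QCoh.app_surjective_of_epi hM hNq f V.2
  have hr : LinearMap.range k = LinearMap.ker l := by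
    refine le_antisymm ?_ fun x hx => ?_
    · rintro _ ⟨w, rfl⟩
      exact congrArg (fun ψ => Scheme.Modules.Hom.app ψ V.1 w) (kernel.condition f)
    · obtain ⟨w, hw⟩ := QCoh.exists_kernel_lift f V.1 x hx
      exact ⟨w, hw⟩
  have hk : (LinearMap.range k).FG := hr ▸ Module.FinitePresentation.fg_ker l hl
  haveI : Module.Finite Γ(X, V.1) (LinearMap.range k) := Module.Finite.iff_fg.2 hk
  exact Module.Finite.equiv (LinearEquiv.ofInjective k (QCoh.app_injective (kernel.ι f) V.1)).symm

/-- A cokernel of zero is an isomorphism. -/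
theorem isIso_of_kernel_eq_zero {C : Type*} [Category C] [Abelian C] {A B : C} (g : A ⟶ B)
    {C' : Type*} [Category C'] [Preadditive C'] (L : C ⥤ C') [L.PreservesZeroMorphisms]
    [PreservesColimitsOfShape WalkingParallelPair L] [Epi g] (h : L.map (kernel.ι g) = 0) :
    IsIso (L.map g) := by
  have hcol := Abelian.epiIsCokernelOfKernel _ (kernelIsKernel g)
  exact CokernelCofork.IsColimit.isIso_π _ (CokernelCofork.mapIsColimit _ hcol L) h

end Groth.Agent.LimMod
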