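import Groth.Agent.LimMod.LocBij
import Groth.Agent.LimMod.Crit
import Groth.Agent.QCoh.Qcqs
import Groth.Agent.QCoh.SpecFT
import Groth.Agent.QCoh.CokerQC
import Groth.Agent.QCoh.Extension

/-!
# Modifying a quasi-coherent module on an affine open
-/

universe u

set_option backward.isDefEq.respectTransparency false
set_option backward.isDefEq.respectTransparency.types false

open CategoryTheory CategoryTheory.Limits AlgebraicGeometry TopologicalSpace Opposite

noncomputable section

namespace Groth.Agent.LimMod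

open Groth.Agent

section pullbackObj

variable {X : Scheme.{u}} {G J L : X.Modules} (a : G ⟶ L) (b : J ⟶ L)

/-- A fibre product of modules. -/
abbrev fibObj : X.Modules := kernel (biprod.desc a (-b))

/-- Its first projection. -/
abbrev fibFst : fibObj a b ⟶ G := kernel.ι _ ≫ biprod.fst

/-- Its second projection. -/
abbrev fibSnd : fibObj a b ⟶ J := kernel.ι _ ≫ biprod.snd

theorem fib_comm (O : X.Opens) (w : Γ(fibObj a b, O)) :
    a.app O ((fibFst a b).app O w) = b.app O ((fibSnd a b).app O w) := by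
  have h : fibFst a b ≫ a = fibSnd a b ≫ b := by
    rw [← sub_eq_zero]
    calc fibFst a b ≫ a - fibSnd a b ≫ b
        = kernel.ι (biprod.desc a (-b)) ≫ (biprod.fst ≫ a + biprod.snd ≫ (-b)) := by
          rw [Preadditive.comp_add, Preadditive.comp_neg, Preadditive.comp_neg, Category.assoc, Category.assoc,
            sub_eq_add_neg]
      _ = kernel.ι (biprod.desc a (-b)) ≫ biprod.desc a (-b) := congrArg _ biprod.desc_eq.symm
      _ = 0 := kernel.condition _
  exact congrArg (fun φ => Scheme.Modules.Hom.app φ O w) h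

theorem fib_ext (O : X.Opens) (w w' : Γ(fibObj a b, O)) (h₁ : (fibFst a b).app O w = (fibFst a b).app O w')
    (h₂ : (fibSnd a b).app O w = (fibSnd a b).app O w') : w = w' := by
  refine QCoh.app_injective (kernel.ι (biprod.desc a (-b))) O ?_
  have e : ∀ z : Γ(G ⊞ J, O), z = (biprod.inl : G ⟶ G ⊞ J).app O ((biprod.fst : G ⊞ J ⟶ G).app O z) +
      (biprod.inr : J ⟶ G ⊞ J).app O ((biprod.snd : G ⊞ J ⟶ J).app O z) := fun z => by
    conv_lhs => rw [show z = Scheme.Modules.Hom.app (biprod.fst ≫ biprod.inl + biprod.snd ≫ biprod.inr : G ⊞ J ⟶ G ⊞ J) O z by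
      rw [biprod.total]; rfl]
    rfl
  rw [e ((kernel.ι (biprod.desc a (-b))).app O w), e ((kernel.ι (biprod.desc a (-b))).app O w')]
  exact congrArg₂ (· + ·) (congrArg _ h₁) (congrArg _ h₂)

theorem fib_lift (O : X.Opens) (g : Γ(G, O)) (j : Γ(J, O)) (h : a.app O g = b.app O j) :
    ∃ w, (fibFst a b).app O w = g ∧ (fibSnd a b).app O w = j := by
  let z : Γ(G ⊞ J, O) := (biprod.inl : G ⟶ G ⊞ J).app O g + (biprod.inr : J ⟶ G ⊞ J).app O j
  have hz : (biprod.desc a (-b)).app O z = 0 := by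
    rw [map_add]
    refine (congrArg₂ (· + ·) (congrArg (fun φ => Scheme.Modules.Hom.app φ O g) (biprod.inl_desc a (-b)))
      (congrArg (fun φ => Scheme.Modules.Hom.app φ O j) (biprod.inr_desc a (-b)))).trans ?_
    show a.app O g + -(b.app O j) = 0
    rw [h, add_neg_cancel]
  obtain ⟨w, hw⟩ := QCoh.exists_kernel_lift (biprod.desc a (-b)) O z hz
  refine ⟨w, ?_, ?_⟩
  · show (biprod.fst : G ⊞ J ⟶ G).app O ((kernel.ι (biprod.desc a (-b))).app O w) = g
    rw [hw, map_add]
    refine (congrArg₂ (· + ·) (congrArg (fun φ => Scheme.Modules.Hom.app φ O g) biprod.inl_fst)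
      (congrArg (fun φ => Scheme.Modules.Hom.app φ O j) biprod.inr_fst)).trans ?_
    show g + 0 = g
    rw [add_zero]
  · show (biprod.snd : G ⊞ J ⟶ J).app O ((kernel.ι (biprod.desc a (-b))).app O w) = j
    rw [hw, map_add]
    refine (congrArg₂ (· + ·) (congrArg (fun φ => Scheme.Modules.Hom.app φ O g) biprod.inl_snd)
      (congrArg (fun φ => Scheme.Modules.Hom.app φ O j) biprod.inr_snd)).trans ?_
    show 0 + j = j
    rw [zero_add]

theorem fibFst_bijective (O : X.Opens) (hb : Function.Bijective (b.app O)) :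
    Function.Bijective ((fibFst a b).app O) := by
  refine ⟨fun w w' h => fib_ext a b O w w' h (hb.1 ?_), fun g => ?_⟩
  · rw [← fib_comm, ← fib_comm, h]
  · obtain ⟨j, hj⟩ := hb.2 (a.app O g)
    obtain ⟨w, hw, -⟩ := fib_lift a b O g j hj.symm
    exact ⟨w, hw⟩

theorem fibSnd_bijective (O : X.Opens) (ha : Function.Bijective (a.app O)) :
    Function.Bijective ((fibSnd a b).app O) := by
  refine ⟨fun w w' h => fib_ext a b O w w' (ha.1 ?_) h, fun j => ?_⟩
  · rw [fib_comm, fib_comm, h]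
  · obtain ⟨g, hg⟩ := ha.2 (b.app O j)
    obtain ⟨w, -, hw⟩ := fib_lift a b O g j hg
    exact ⟨w, hw⟩

end pullbackObj

variable {X : Scheme.{u}}

/-- The unit of restriction is bijective on opens inside the image. -/
theorem bijective_unit_app {U : Scheme.{u}} (j : U ⟶ X) [IsOpenImmersion j] (G : X.Modules) (O : X.Opens)
    (hO : O ≤ j.opensRange) :
    Function.Bijective (((Scheme.Modules.restrictAdjunction j).unit.app G).app O) := by
  have he : j ''ᵁ (j ⁻¹ᵁ O) = O := by
    rw [Scheme.Hom.image_preimage_eq_opensRange_inf, inf_eq_right]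
    exact hO
  show Function.Bijective (G.presheaf.map (homOfLE (j.image_preimage_le O)).op)
  have : IsIso (homOfLE (j.image_preimage_le O)) := ⟨homOfLE he.ge, Subsingleton.elim _ _, Subsingleton.elim _ _⟩
  exact ConcreteCategory.bijective_of_isIso _

variable [QuasiSeparatedSpace X]

/-- A quasi-coherent module modified on an affine open along a map of modules. -/
theorem exists_chart_modify {G : X.Modules} (hG : Coh.IsQCoh G) {V : X.Opens} (hV : IsAffineOpen V)
    {P : Type u} [AddCommGroup P] [Module Γ(X, V) P] (α : P →ₗ[Γ(X, V)] Γ(G, V)) :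
    ∃ (E : X.Modules) (q : E ⟶ G) (e : Γ(E, V) ≃ₗ[Γ(X, V)] P), Coh.IsQCoh E ∧
      (∀ w, q.app V w = α (e w)) ∧
      ∀ (ι : Type u) (f : ι → Γ(X, V)), (∀ l m, ∃ N : ℕ, f l ^ N • m ∈ LinearMap.range α) →
        (∀ l p, α p = 0 → ∃ N : ℕ, f l ^ N • p = 0) →
        ∀ O : X.Opens, (∀ x ∈ O, x ∈ V → ∃ l, x ∈ X.basicOpen (f l)) → Function.Bijective (q.app O) := by
  let j := hV.fromSpec
  let Pt : (Spec Γ(X, V)).Modules := tilde (ModuleCat.of Γ(X, V) P)
  have hPt : Coh.IsQCoh Pt := QCoh.isQCoh_spec_iff.2 ⟨_, ⟨Iso.refl _⟩⟩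
  let G₁ : (Spec Γ(X, V)).Modules := G.restrict j
  have hG₁ : Coh.IsQCoh G₁ := QCoh.isQCoh_restrict j hG
  let isoP : P ≃ₗ[Γ(X, V)] moduleSpecΓFunctor.obj Pt := (tilde.isoTop (ModuleCat.of Γ(X, V) P)).toLinearEquiv
  let αs : moduleSpecΓFunctor.obj Pt →ₗ[Γ(X, V)] moduleSpecΓFunctor.obj G₁ :=
    ((QCoh.chartEquiv hV G).toLinearMap.comp α).comp isoP.symm.toLinearMap
  obtain ⟨β, hβ⟩ := (QCoh.bijective_ΓMap hPt G₁).2
    (@ModuleCat.ofHom _ _ (moduleSpecΓFunctor.obj Pt) (moduleSpecΓFunctor.obj G₁) _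
      (moduleSpecΓFunctor.obj Pt).isModule _ (moduleSpecΓFunctor.obj G₁).isModule αs)
  have hβ' : ∀ z, moduleSpecΓFunctor.map β z = αs z := fun z => ConcreteCategory.congr_hom hβ z
  haveI : CompactSpace (Spec Γ(X, V)) := inferInstance
  haveI : QuasiCompact j := quasiCompact_of_compactSpace j
  let a : G ⟶ (Scheme.Modules.pushforward j).obj G₁ := (Scheme.Modules.restrictAdjunction j).unit.app G
  let b := (Scheme.Modules.pushforward j).map β
  let J := (Scheme.Modules.pushforward j).obj Pt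
  have hJ : Coh.IsQCoh J := QCoh.isQCoh_pushforward j hPt
  have hL : Coh.IsQCoh ((Scheme.Modules.pushforward j).obj G₁) := QCoh.isQCoh_pushforward j hG₁
  have hsum : Coh.IsQCoh (G ⊞ J) := QCoh.isQCoh_X₂
    (S := ShortComplex.mk (biprod.inl : G ⟶ G ⊞ J) biprod.snd biprod.inl_snd)
    (ShortComplex.Splitting.ofHasBinaryBiproduct G J).shortExact hG hJ
  let E := fibObj a b
  have hE : Coh.IsQCoh E := QCoh.isQCoh_kernel hsum hL _
  have hbij : Function.Bijective ((fibSnd a b).app V) :=
    fibSnd_bijective a b V (bijective_unit_app j G V (by rw [hV.opensRange_fromSpec]))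
  let cou : J.restrict j ≅ Pt := asIso ((Scheme.Modules.restrictAdjunction j).counit.app Pt)
  let e₁ : Γ(E, V) ≃ₗ[Γ(X, V)] Γ(J, V) := LinearEquiv.ofBijective
    { toFun := (fibSnd a b).app V
      map_add' := map_add _
      map_smul' := Scheme.Modules.Hom.app_smul _ } hbij
  let e : Γ(E, V) ≃ₗ[Γ(X, V)] P :=
    e₁ ≪≫ₗ QCoh.chartEquiv hV J ≪≫ₗ (moduleSpecΓFunctor.mapIso cou).toLinearEquiv ≪≫ₗ isoP.symm
  have htri : ((Scheme.Modules.restrictFunctor j).map a) ≫
      (Scheme.Modules.restrictAdjunction j).counit.app G₁ = 𝟙 G₁ :=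
    (Scheme.Modules.restrictAdjunction j).left_triangle_components G
  have hnat : (Scheme.Modules.restrictFunctor j).map b ≫
      (Scheme.Modules.restrictAdjunction j).counit.app G₁ = cou.hom ≫ β :=
    (Scheme.Modules.restrictAdjunction j).counit.naturality β
  have hchart : ∀ {M N : X.Modules} (φ : M ⟶ N) (x : Γ(M, V)),
      QCoh.toChart hV N (φ.app V x) = moduleSpecΓFunctor.map ((Scheme.Modules.restrictFunctor j).map φ) (QCoh.toChart hV M x) :=
    fun φ x => (QCoh.map_app_comm φ (homOfLE (QCoh.image_top_fromSpec hV).le) x).symm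
  have hq : ∀ w, (fibFst a b).app V w = α (e w) := by
    intro w
    refine (QCoh.bijective_toChart hV G).1 ?_
    have h1 := congrArg (fun z => moduleSpecΓFunctor.map ((Scheme.Modules.restrictAdjunction j).counit.app G₁)
      (QCoh.toChart hV _ z)) (fib_comm a b V w)
    rw [hchart a, hchart b] at h1
    have k1 : ∀ z, moduleSpecΓFunctor.map ((Scheme.Modules.restrictAdjunction j).counit.app G₁)
        (moduleSpecΓFunctor.map ((Scheme.Modules.restrictFunctor j).map a) z) = z := fun z =>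
      ConcreteCategory.congr_hom ((moduleSpecΓFunctor.map_comp _ _).symm.trans
        ((congrArg moduleSpecΓFunctor.map htri).trans (moduleSpecΓFunctor.map_id _))) z
    have k2 : ∀ z, moduleSpecΓFunctor.map ((Scheme.Modules.restrictAdjunction j).counit.app G₁)
        (moduleSpecΓFunctor.map ((Scheme.Modules.restrictFunctor j).map b) z) =
          αs (moduleSpecΓFunctor.map cou.hom z) := fun z =>
      (ConcreteCategory.congr_hom ((moduleSpecΓFunctor.map_comp _ _).symm.trans
        ((congrArg moduleSpecΓFunctor.map hnat).trans (moduleSpecΓFunctor.map_comp _ _))) z).trans (hβ' _)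
    refine (k1 _).symm.trans (h1.trans ((k2 _).trans ?_))
    rfl
  refine ⟨E, fibFst a b, e, hE, hq, fun ι f hsurj hinj O hO => fibFst_bijective a b O ?_⟩
  show Function.Bijective (β.app (j ⁻¹ᵁ O))
  have hbs : ∀ (l : ι) (y : Γ(G₁, ⊤)), ∃ (N : ℕ) (x : Γ(Pt, ⊤)),
      β.app ⊤ x = ((Scheme.ΓSpecIso Γ(X, V)).inv (f l)) ^ N • y := by
    intro l y
    obtain ⟨m, hm⟩ := (QCoh.chartEquiv hV G).surjective (show moduleSpecΓFunctor.obj G₁ from y)
    obtain ⟨N, p, hp⟩ := hsurj l m
    refine ⟨N, (show moduleSpecΓFunctor.obj Pt from isoP p), ?_⟩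
    have h2 : moduleSpecΓFunctor.map β (isoP p) = f l ^ N • (show moduleSpecΓFunctor.obj G₁ from y) := by
      rw [hβ']
      show QCoh.chartEquiv hV G (α (isoP.symm (isoP p))) = _
      rw [LinearEquiv.symm_apply_apply, hp, map_smul, hm]
    rw [← map_pow]
    exact h2
  have hbi : ∀ (l : ι) (x : Γ(Pt, ⊤)), β.app ⊤ x = 0 →
      ∃ N : ℕ, ((Scheme.ΓSpecIso Γ(X, V)).inv (f l)) ^ N • x = 0 := by
    intro l x hx
    obtain ⟨p, hp⟩ := isoP.surjective (show moduleSpecΓFunctor.obj Pt from x)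
    have h2 : moduleSpecΓFunctor.map β (isoP p) = 0 := by rw [hp]; exact hx
    rw [hβ'] at h2
    have h3 : α p = 0 := by
      refine (QCoh.chartEquiv hV G).injective ?_
      rw [map_zero]
      have h5 : QCoh.chartEquiv hV G (α (isoP.symm (isoP p))) = 0 := h2
      rwa [LinearEquiv.symm_apply_apply] at h5
    obtain ⟨N, hN⟩ := hinj l p h3
    refine ⟨N, ?_⟩
    have h4 : f l ^ N • (show moduleSpecΓFunctor.obj Pt from x) = 0 := by
      rw [← hp, ← map_smul, hN, map_zero]
    rw [← map_pow]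
    exact h4
  refine bijective_app_of_loc β (isAffineOpen_top (Spec Γ(X, V))) _ hPt hG₁ hbs hbi (j ⁻¹ᵁ O) le_top fun y hy => ?_
  have hyV : j y ∈ V := by
    have : j y ∈ j.opensRange := ⟨y, rfl⟩
    rwa [hV.opensRange_fromSpec] at this
  obtain ⟨l, hl⟩ := hO (j y) hy hyV
  exact ⟨l, by rw [← hV.fromSpec_preimage_basicOpen']; exact hl⟩

end Groth.Agent.LimMod
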