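import Groth.Agent.LimMod.ApproxAlg
import Groth.Agent.LimMod.ChartModify
import Mathlib.RingTheory.Localization.BaseChange

/-!
# Extending finitely presented modules on quasi-compact quasi-separated schemes
-/

universe u

set_option backward.isDefEq.respectTransparency false
set_option backward.isDefEq.respectTransparency.types false

open CategoryTheory CategoryTheory.Limits AlgebraicGeometry TopologicalSpace Opposite

noncomputable section

namespace Groth.Agent.LimMod

open Groth.Agent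

variable {X : Scheme.{u}}

/-- Finitely presented near every point of an open, by affines inside it. -/
def FPOn (G : X.Modules) (W : X.Opens) : Prop :=
  ∀ x ∈ W, ∃ O : X.Opens, IsAffineOpen O ∧ x ∈ O ∧ O ≤ W ∧ Module.FinitePresentation Γ(X, O) Γ(G, O)

theorem fp_basicOpen {G : X.Modules} (hG : Coh.IsQCoh G) {U : X.Opens} (hU : IsAffineOpen U)
    (h : Module.FinitePresentation Γ(X, U) Γ(G, U)) (g : Γ(X, U)) :
    Module.FinitePresentation Γ(X, X.basicOpen g) Γ(G, X.basicOpen g) := by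
  letI := QCoh.basicModule g G
  haveI := hU.isLocalization_basicOpen g
  haveI := QCoh.isLocalizedModule_basicRes g hG hU
  haveI : IsScalarTower Γ(X, U) Γ(X, X.basicOpen g) Γ(G, X.basicOpen g) :=
    IsScalarTower.of_algebraMap_smul fun _ _ => rfl
  exact Module.FinitePresentation.of_equiv
    (IsLocalizedModule.isBaseChange (Submonoid.powers g) Γ(X, X.basicOpen g) (QCoh.basicRes g G)).equiv

/-- Bijective on sections gives a linear equivalence. -/
def appEquiv {E G : X.Modules} (q : E ⟶ G) {O : X.Opens} (h : Function.Bijective (q.app O)) :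
    Γ(E, O) ≃ₗ[Γ(X, O)] Γ(G, O) :=
  LinearEquiv.ofBijective
    { toFun := q.app O, map_add' := map_add _, map_smul' := Scheme.Modules.Hom.app_smul _ } h

theorem isFP_of_fpOn {G : X.Modules} (hG : Coh.IsQCoh G) (h : FPOn G ⊤) : CohB1.IsFP G := by
  choose O hO hxO _ hfp using fun x : X => h x trivial
  exact QCoh.isFP_of_finitePresentation hG O (top_unique fun x _ => Opens.mem_iSup.2 ⟨x, hxO x⟩) hO hfp

variable [QuasiSeparatedSpace X]

/-- Finite presentation extends over one more affine open. -/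
theorem exists_fpOn_step {G : X.Modules} (hG : Coh.IsQCoh G) {W : X.Opens} (hWc : IsCompact (W : Set X))
    (hW : FPOn G W) {V : X.Opens} (hV : IsAffineOpen V) :
    ∃ (E : X.Modules) (q : E ⟶ G), Coh.IsQCoh E ∧ FPOn E (W ⊔ V) ∧
      ∀ O ≤ W, Function.Bijective (q.app O) := by
  classical
  have hloc : ∀ x : ↥(W ⊓ V : X.Opens), ∃ f : Γ(X, V), x.1 ∈ X.basicOpen f ∧
      Module.FinitePresentation Γ(X, X.basicOpen f) Γ(G, X.basicOpen f) := by
    rintro ⟨x, hxW, hxV⟩
    obtain ⟨O, hO, hxO, -, hfp⟩ := hW x hxW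
    obtain ⟨f, g, hfg, hxf⟩ := exists_basicOpen_le_affine_inter hV hO x ⟨hxV, hxO⟩
    refine ⟨f, hxf, ?_⟩
    rw [hfg]
    exact fp_basicOpen hG hO hfp g
  choose f hxf hfp using hloc
  obtain ⟨t, ht⟩ := (QuasiSeparatedSpace.inter_isCompact (W : Set X) (V : Set X) W.2 hWc V.2 hV.isCompact).elim_finite_subcover
    (fun x => (X.basicOpen (f x) : Set X)) (fun x => (X.basicOpen (f x)).2)
    (fun x hx => Set.mem_iUnion.2 ⟨⟨x, hx⟩, hxf _⟩)
  letI := fun l : t => QCoh.basicModule (f l.1) G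
  haveI := fun l : t => hV.isLocalization_basicOpen (f l.1)
  haveI := fun l : t => QCoh.isLocalizedModule_basicRes (f l.1) hG hV
  haveI : ∀ l : t, IsScalarTower Γ(X, V) Γ(X, X.basicOpen (f l.1)) Γ(G, X.basicOpen (f l.1)) :=
    fun l => IsScalarTower.of_algebraMap_smul fun _ _ => rfl
  haveI := fun l : t => hfp l.1
  obtain ⟨P, iP, mP, hP, α, hsurj, hinj⟩ := exists_fp_approx (M := Γ(G, V)) (fun l : t => f l.1)
    (fun l => Γ(X, X.basicOpen (f l.1))) (fun l => Γ(G, X.basicOpen (f l.1))) (fun l => QCoh.basicRes (f l.1) G)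
  obtain ⟨E, q, e, hE, -, hbij⟩ := exists_chart_modify hG hV α
  have hb : ∀ O ≤ W, Function.Bijective (q.app O) := fun O hO =>
    hbij t (fun l => f l.1) hsurj hinj O fun x hxO hxV => by
      obtain ⟨l, hl, hxl⟩ := Set.mem_iUnion₂.1 (ht ⟨hO hxO, hxV⟩)
      exact ⟨⟨l, hl⟩, hxl⟩
  refine ⟨E, q, hE, ?_, hb⟩
  rintro x (hx | hx)
  · obtain ⟨O, hO, hxO, hOW, hfp⟩ := hW x hx
    exact ⟨O, hO, hxO, hOW.trans le_sup_left, Module.FinitePresentation.of_equiv (appEquiv q (hb O hOW)).symm⟩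
  · exact ⟨V, hV, hx, le_sup_right, Module.FinitePresentation.of_equiv e.symm⟩

/-- Finite presentation on a quasi-compact open extends to the whole scheme. -/
theorem exists_fp_extend [CompactSpace X] {G : X.Modules} (hG : Coh.IsQCoh G) {W : X.Opens}
    (hWc : IsCompact (W : Set X)) (hW : FPOn G W) :
    ∃ (E : X.Modules) (q : E ⟶ G), CohB1.IsFP E ∧ ∀ O ≤ W, Function.Bijective (q.app O) := by
  have key : ∀ (n : ℕ) (U : Fin n → X.Opens), (∀ a, IsAffineOpen (U a)) →
      ∀ (G : X.Modules), Coh.IsQCoh G → ∀ W : X.Opens, IsCompact (W : Set X) → FPOn G W →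
      ∃ (E : X.Modules) (q : E ⟶ G), Coh.IsQCoh E ∧ FPOn E (W ⊔ ⨆ a, U a) ∧
        ∀ O ≤ W, Function.Bijective (q.app O) := by
    intro n
    induction n with
    | zero => exact fun U _ G hG W _ hW => ⟨G, 𝟙 G, hG, by rwa [iSup_of_empty, sup_bot_eq],
        fun O _ => Function.bijective_id⟩
    | succ n ih =>
      intro U hU G hG W hWc hW
      obtain ⟨E₁, q₁, h₁, hfp₁, hb₁⟩ := exists_fpOn_step hG hWc hW (hU 0)
      obtain ⟨E, q, hE, hfp, hb⟩ := ih (fun a => U a.succ) (fun a => hU a.succ) E₁ h₁ (W ⊔ U 0)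
        (by rw [Opens.coe_sup]; exact hWc.union (hU 0).isCompact) hfp₁
      have he : W ⊔ U 0 ⊔ ⨆ a : Fin n, U a.succ = W ⊔ ⨆ a, U a := by
        rw [sup_assoc]
        congr 1
        refine le_antisymm (sup_le (le_iSup U 0) (iSup_le fun a => le_iSup U a.succ)) (iSup_le fun a => ?_)
        induction a using Fin.cases with
        | zero => exact le_sup_left
        | succ a => exact le_sup_of_le_right (le_iSup (fun a : Fin n => U a.succ) a)
      rw [he] at hfp
      exact ⟨E, q ≫ q₁, hE, hfp, fun O hO =>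
        (hb₁ O hO).comp (hb O (hO.trans le_sup_left))⟩
  obtain ⟨s, hs⟩ := isCompact_univ.elim_finite_subcover (fun U : X.affineOpens => (U.1 : Set X))
    (fun U => U.1.2) (fun x _ => by
      obtain ⟨_, ⟨U, hU, rfl⟩, hxU, -⟩ := X.isBasis_affineOpens.exists_subset_of_mem_open
        (Set.mem_univ x) isOpen_univ
      exact Set.mem_iUnion.2 ⟨⟨U, hU⟩, hxU⟩)
  obtain ⟨E, q, hE, hfp, hb⟩ := key s.card (fun a => (s.equivFin.symm a).1.1)
    (fun a => (s.equivFin.symm a).1.2) G hG W hWc hW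
  refine ⟨E, q, isFP_of_fpOn hE fun x _ => ?_, hb⟩
  have hx : x ∈ W ⊔ ⨆ a : Fin s.card, (s.equivFin.symm a).1.1 := by
    obtain ⟨U, hU, hxU⟩ := Set.mem_iUnion₂.1 (hs (Set.mem_univ x))
    exact Or.inr (Opens.mem_iSup.2 ⟨s.equivFin ⟨U, hU⟩, by simpa using hxU⟩)
  obtain ⟨O, hO, hxO, -, h⟩ := hfp x hx
  exact ⟨O, hO, hxO, le_top, h⟩

/-- Finitely many sections on an affine come from a finitely presented module. -/
theorem exists_fp_hom_mem [CompactSpace X] {F : X.Modules} (hF : Coh.IsQCoh F) {V : X.Opens}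
    (hV : IsAffineOpen V) {n : ℕ} (s : Fin n → Γ(F, V)) :
    ∃ (G : X.Modules) (p : G ⟶ F), CohB1.IsFP G ∧ ∀ a, s a ∈ Set.range (p.app V) := by
  classical
  obtain ⟨E, q, e, hE, hq, -⟩ := exists_chart_modify hF hV (Fintype.linearCombination Γ(X, V) s)
  have hfp : FPOn E V := fun x hx => ⟨V, hV, hx, le_rfl, Module.FinitePresentation.of_equiv e.symm⟩
  obtain ⟨G, r, hG, hb⟩ := exists_fp_extend hE hV.isCompact hfp
  refine ⟨G, r ≫ q, hG, fun a => ?_⟩
  obtain ⟨z, hz⟩ := (hb V le_rfl).2 (e.symm (Pi.single a 1))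
  refine ⟨z, ?_⟩
  show q.app V (r.app V z) = s a
  rw [hz, hq, e.apply_symm_apply, Fintype.linearCombination_apply_single, one_smul]

theorem isFP_biprod {A B : X.Modules} (hA : CohB1.IsFP A) (hB : CohB1.IsFP B) : CohB1.IsFP (A ⊞ B) := by
  have hq : Coh.IsQCoh (A ⊞ B) := QCoh.isQCoh_X₂
    (S := ShortComplex.mk (biprod.inl : A ⟶ A ⊞ B) biprod.snd biprod.inl_snd)
    (ShortComplex.Splitting.ofHasBinaryBiproduct A B).shortExact (QCoh.isQCoh_of_isFP hA) (QCoh.isQCoh_of_isFP hB)
  refine QCoh.isFP_of_finitePresentation hq (fun V : X.affineOpens => V.1) (iSup_affineOpens_eq_top X)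
    (fun V => V.2) fun V => ?_
  haveI := QCoh.finitePresentation_of_isFP hA V.2
  haveI := QCoh.finitePresentation_of_isFP hB V.2
  let e : Γ(A ⊞ B, V.1) ≃ₗ[Γ(X, V.1)] Γ(A, V.1) × Γ(B, V.1) :=
    { toFun := fun z => ((biprod.fst : A ⊞ B ⟶ A).app V.1 z, (biprod.snd : A ⊞ B ⟶ B).app V.1 z)
      map_add' := fun x y => Prod.ext (map_add _ x y) (map_add _ x y)
      map_smul' := fun r x => Prod.ext (Scheme.Modules.Hom.app_smul _ r x) (Scheme.Modules.Hom.app_smul _ r x)
      invFun := fun w => (biprod.inl : A ⟶ A ⊞ B).app V.1 w.1 + (biprod.inr : B ⟶ A ⊞ B).app V.1 w.2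
      left_inv := fun z =>
        (congrArg (fun φ : A ⊞ B ⟶ A ⊞ B => Scheme.Modules.Hom.app φ V.1 z) (biprod.total (X := A) (Y := B)))
      right_inv := fun w => by
        refine Prod.ext ?_ ?_
        · show (biprod.fst : A ⊞ B ⟶ A).app V.1 (_ + _) = w.1
          rw [map_add]
          refine (congrArg₂ (· + ·) (congrArg (fun φ => Scheme.Modules.Hom.app φ V.1 w.1) biprod.inl_fst)
            (congrArg (fun φ => Scheme.Modules.Hom.app φ V.1 w.2) biprod.inr_fst)).trans ?_
          show w.1 + 0 = w.1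
          rw [add_zero]
        · show (biprod.snd : A ⊞ B ⟶ B).app V.1 (_ + _) = w.2
          rw [map_add]
          refine (congrArg₂ (· + ·) (congrArg (fun φ => Scheme.Modules.Hom.app φ V.1 w.1) biprod.inl_snd)
            (congrArg (fun φ => Scheme.Modules.Hom.app φ V.1 w.2) biprod.inr_snd)).trans ?_
          show 0 + w.2 = w.2
          rw [zero_add] }
  exact Module.FinitePresentation.of_equiv e.symm

/-- Finitely many sections on finitely many affines come from one finitely presented module. -/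
theorem exists_fp_hom_mem_fin [CompactSpace X] {F : X.Modules} (hF : Coh.IsQCoh F) {m : ℕ}
    (V : Fin (m + 1) → X.Opens) (hV : ∀ b, IsAffineOpen (V b)) (S : ∀ b, Finset Γ(F, V b)) :
    ∃ (G : X.Modules) (p : G ⟶ F), CohB1.IsFP G ∧ ∀ b, ∀ s ∈ S b, s ∈ Set.range (p.app (V b)) := by
  induction m with
  | zero =>
    obtain ⟨G, p, hG, hp⟩ := exists_fp_hom_mem hF (hV 0) fun a => ((S 0).equivFin.symm a).1
    refine ⟨G, p, hG, fun b s hs => ?_⟩
    obtain rfl : b = 0 := Fin.ext (by omega)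
    simpa using hp ((S 0).equivFin ⟨s, hs⟩)
  | succ m ih =>
    obtain ⟨G, p, hG, hp⟩ := ih (fun b => V b.succ) (fun b => hV b.succ) fun b => S b.succ
    obtain ⟨G₀, p₀, hG₀, hp₀⟩ := exists_fp_hom_mem hF (hV 0) fun a => ((S 0).equivFin.symm a).1
    refine ⟨G₀ ⊞ G, biprod.desc p₀ p, isFP_biprod hG₀ hG, fun b => ?_⟩
    induction b using Fin.cases with
    | zero =>
      intro s hs
      obtain ⟨z, hz⟩ := hp₀ ((S 0).equivFin ⟨s, hs⟩)
      refine ⟨(biprod.inl : G₀ ⟶ G₀ ⊞ G).app _ z,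
        (congrArg (fun φ => Scheme.Modules.Hom.app φ (V 0) z) (biprod.inl_desc p₀ p)).trans ?_⟩
      simpa using hz
    | succ b =>
      intro s hs
      obtain ⟨z, hz⟩ := hp b s hs
      exact ⟨(biprod.inr : G ⟶ G₀ ⊞ G).app _ z,
        (congrArg (fun φ => Scheme.Modules.Hom.app φ (V b.succ) z) (biprod.inr_desc p₀ p)).trans hz⟩

end Groth.Agent.LimMod
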