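import Groth.Agent.LimMod.Epi
import Groth.Agent.MorLib.LimFlat
import Groth.Agent.KFlatLib.Scheme.Pullback
import Mathlib.Algebra.Category.ModuleCat.Descent
import Mathlib.Algebra.Homology.ShortComplex.ExactFunctor

/-!
# Exactness descends to a stage
-/

universe u

set_option backward.isDefEq.respectTransparency false
set_option backward.isDefEq.respectTransparency.types false

open CategoryTheory CategoryTheory.Limits AlgebraicGeometry TopologicalSpace Opposite

noncomputable section

namespace Groth.Agent.LimMod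

open Groth.Agent

theorem mono_of_stalks {X : Scheme.{u}} {M N : X.Modules} (f : M ⟶ N)
    (h : ∀ x, Mono ((DerSch.stalkFunctor X x).map f)) : Mono f := by
  refine Preadditive.mono_of_cancel_zero _ fun {W} z hz => ?_
  refine Scheme.Modules.hom_ext _ _ fun U => ?_
  ext s
  refine TopCat.Presheaf.section_ext ⟨M.presheaf, M.isSheaf⟩ _ _ _ fun x hx => ?_
  haveI := h x
  haveI : (DerSch.stalkFunctor X x).Additive := Functor.additive_of_preserves_binary_products _
  have h0 : (DerSch.stalkFunctor X x).map z = 0 := by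
    rw [← cancel_mono ((DerSch.stalkFunctor X x).map f), ← CategoryTheory.Functor.map_comp, hz, Functor.map_zero,
      zero_comp]
  refine ((DerSch.stalkFunctor_map_germ x z U hx s).symm.trans ?_).trans (map_zero (M.presheaf.germ U x hx).hom).symm
  rw [h0]
  rfl


theorem pullback_preservesColimits {X Y : Scheme.{u}} (g : X ⟶ Y) :
    PreservesFiniteColimits (Scheme.Modules.pullback g) :=
  haveI := (Scheme.Modules.pullbackPushforwardAdjunction g).leftAdjoint_preservesColimits
  inferInstance

/-- Inverse image by a flat morphism is exact. -/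
theorem preservesHomology_pullback {X Y : Scheme.{u}} (g : X ⟶ Y) [Flat g] :
    (Scheme.Modules.pullback g).PreservesHomology := by
  haveI := pullback_preservesColimits g
  refine ((Functor.exact_tfae (Scheme.Modules.pullback g)).out 0 2 rfl rfl).1 fun S hS => ?_
  have hr := ((Functor.preservesFiniteColimits_tfae (Scheme.Modules.pullback g)).out 3 0 rfl rfl).1
    ‹_› S hS
  haveI : Mono ((Scheme.Modules.pullback g).map S.f) := by
    refine mono_of_stalks _ fun x => ?_
    haveI := hS.mono_f
    haveI : (DerSch.stalkFunctor Y (g.base x)).Additive := Functor.additive_of_preserves_binary_products _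
    haveI : Mono ((DerSch.stalkFunctor Y (g.base x)).map S.f) :=
      (hS.map_of_exact (DerSch.stalkFunctor Y (g.base x))).mono_f
    haveI := ModuleCat.preservesFiniteLimits_extendScalars_of_flat (Flat.stalkMap g x)
    haveI : Mono ((ModuleCat.extendScalars (g.stalkMap x).hom).map
      ((DerSch.stalkFunctor Y (g.base x)).map S.f)) := inferInstance
    exact ((MorphismProperty.monomorphisms _).arrow_mk_iso_iff
      (Arrow.isoMk ((KFlatLib.stalkPullbackIso g x).app S.X₁) ((KFlatLib.stalkPullbackIso g x).app S.X₂)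
        ((KFlatLib.stalkPullbackIso g x).hom.naturality S.f).symm)).2 ‹_›
  exact { exact := hr.1, mono_f := ‹Mono ((Scheme.Modules.pullback g).map S.f)›, epi_g := hr.2 }

/-- An inverse image of a complex is exact iff the composite of kernel and cokernel dies. -/
theorem exact_map_iff {X Y : Scheme.{u}} (g : X ⟶ Y) [Flat g] {A B C : Y.Modules} (f : A ⟶ B) (h : B ⟶ C)
    (w : (Scheme.Modules.pullback g).map f ≫ (Scheme.Modules.pullback g).map h = 0) :
    (ShortComplex.mk _ _ w).Exact ↔ (Scheme.Modules.pullback g).map (kernel.ι h ≫ cokernel.π f) = 0 := by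
  haveI := preservesHomology_pullback g
  haveI := Functor.preservesFiniteLimits_of_preservesHomology (Scheme.Modules.pullback g)
  haveI := pullback_preservesColimits g
  let L := Scheme.Modules.pullback g
  rw [ShortComplex.exact_iff_kernel_ι_comp_cokernel_π_zero]
  show kernel.ι (L.map h) ≫ cokernel.π (L.map f) = 0 ↔ _
  have e₁ : (PreservesKernel.iso L h).hom ≫ kernel.ι (L.map h) = L.map (kernel.ι h) := by
    rw [PreservesKernel.iso_hom, kernelComparison_comp_ι]
  have e₂ : cokernel.π (L.map f) ≫ (PreservesCokernel.iso L f).inv = L.map (cokernel.π f) := by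
    rw [PreservesCokernel.iso_inv, π_comp_cokernelComparison]
  rw [Functor.map_comp, ← e₁, ← e₂]
  constructor
  · intro h0
    rw [Category.assoc, ← Category.assoc (kernel.ι _), h0, zero_comp, comp_zero]
  · intro h0
    rwa [Category.assoc, Preadditive.IsIso.comp_left_eq_zero, ← Category.assoc,
      Preadditive.IsIso.comp_right_eq_zero] at h0

/-- The quotient of a module of finite type is of finite type. -/
theorem isFT_cokernel {X : Scheme.{u}} {M N : X.Modules} (hM : Coh.IsQCoh M) (hN : Coh.IsQCoh N)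
    (hNt : CohB1.IsFT N) (f : M ⟶ N) : CohB1.IsFT (cokernel f) := by
  have hC := QCoh.isQCoh_cokernel hM hN f
  refine QCoh.isFT_of_finite hC (fun V : X.affineOpens => V.1) (iSup_affineOpens_eq_top X) (fun V => V.2)
    fun V => ?_
  haveI := QCoh.finite_of_isFT hN hNt V.2
  exact Module.Finite.of_surjective
    ({ toFun := (cokernel.π f).app V.1
       map_add' := map_add _
       map_smul' := Scheme.Modules.Hom.app_smul _ } : Γ(N, V.1) →ₗ[Γ(X, V.1)] Γ(cokernel f, V.1))
    (QCoh.app_surjective_of_epi hN hC (cokernel.π f) V.2)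

/-- Right exactness after inverse image, by the map out of the cokernel. -/
theorem rightExact_map_iff {X Y : Scheme.{u}} (g : X ⟶ Y) {A B C : Y.Modules} (f : A ⟶ B) (h : B ⟶ C)
    (w₀ : f ≫ h = 0) (w : (Scheme.Modules.pullback g).map f ≫ (Scheme.Modules.pullback g).map h = 0) :
    ((ShortComplex.mk _ _ w).Exact ∧ Epi ((Scheme.Modules.pullback g).map h)) ↔
      IsIso ((Scheme.Modules.pullback g).map (cokernel.desc f h w₀)) := by
  haveI := pullback_preservesColimits g
  let L := Scheme.Modules.pullback g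
  have hcol := CokernelCofork.mapIsColimit _ (cokernelIsCokernel f) L
  have hfac : L.map (cokernel.π f) ≫ L.map (cokernel.desc f h w₀) = L.map h := by
    rw [← L.map_comp, cokernel.π_desc]
  rw [(ShortComplex.mk _ _ w).exact_and_epi_g_iff_g_is_cokernel]
  constructor
  · rintro ⟨hc⟩
    have e := hcol.coconePointUniqueUpToIso hc
    have he : L.map (cokernel.desc f h w₀) = (hcol.coconePointUniqueUpToIso hc).hom :=
      Cofork.IsColimit.hom_ext hcol
        (hfac.trans (hcol.comp_coconePointUniqueUpToIso_hom hc WalkingParallelPair.one).symm)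
    rw [he]
    infer_instance
  · intro hiso
    exact ⟨IsColimit.ofIsoColimit hcol (Cofork.ext (asIso (L.map (cokernel.desc f h w₀))) hfac)⟩

/-- Exactness is insensitive to the identification of iterated inverse images. -/
def mapIso {T T₁ T₀ : Scheme.{u}} (a : T ⟶ T₁) (b : T₁ ⟶ T₀) (c : T ⟶ T₀) (h : a ≫ b = c)
    {A B C : T₀.Modules} (f : A ⟶ B) (g : B ⟶ C)
    (w : (Scheme.Modules.pullback a).map ((Scheme.Modules.pullback b).map f) ≫
      (Scheme.Modules.pullback a).map ((Scheme.Modules.pullback b).map g) = 0)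
    (w' : (Scheme.Modules.pullback c).map f ≫ (Scheme.Modules.pullback c).map g = 0) :
    ShortComplex.mk _ _ w ≅ ShortComplex.mk _ _ w' :=
  ShortComplex.isoMk ((trIso a b c h).app A) ((trIso a b c h).app B) ((trIso a b c h).app C)
    ((trIso a b c h).hom.naturality f).symm ((trIso a b c h).hom.naturality g).symm

theorem comp_eq_zero_of {T T₁ T₀ : Scheme.{u}} (a : T ⟶ T₁) (b : T₁ ⟶ T₀) (c : T ⟶ T₀) (h : a ≫ b = c)
    {A B : T₀.Modules} (f : A ⟶ B) :
    (Scheme.Modules.pullback a).map ((Scheme.Modules.pullback b).map f) = 0 ↔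
      (Scheme.Modules.pullback c).map f = 0 := by
  have := (trIso a b c h).hom.naturality f
  constructor
  · intro h0
    rw [← cancel_epi ((trIso a b c h).hom.app A), ← this, comp_zero, Functor.comp_map, h0, zero_comp]
  · intro h0
    rw [← cancel_mono ((trIso a b c h).hom.app B), zero_comp]
    exact this.trans (by rw [h0, comp_zero])

variable {I : Type u} [SmallCategory I] (D : I ⥤ Scheme.{u}) (c : Cone D) {i : I}
  {F G H : (D.obj i).Modules}
  (hc : IsLimit c) [IsCofiltered I] [∀ (i j : I) (f : i ⟶ j), IsAffineHom (D.map f)]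
  [CompactSpace (D.obj i)]

include hc in
/-- A morphism zero in the limit is zero at a stage. -/
theorem exists_map_eq_zero (hF : Coh.IsQCoh F) (hFt : CohB1.IsFT F) (hG : Coh.IsQCoh G) (f : F ⟶ G)
    (h : (Scheme.Modules.pullback (c.π.app i)).map f = 0) :
    ∃ (j : I) (φ : j ⟶ i), (Scheme.Modules.pullback (D.map φ)).map f = 0 := by
  obtain ⟨k, ψ, hψ⟩ := exists_trStageHom_eq D c hc hF hFt hG (𝟙 i)
    ((Scheme.Modules.pullback (D.map (𝟙 i))).map f) ((Scheme.Modules.pullback (D.map (𝟙 i))).map 0)
    (by rw [trLimHom_map, trLimHom_map, h, Functor.map_zero])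
  rw [trStageHom_map, trStageHom_map, Functor.map_zero] at hψ
  exact ⟨k, ψ ≫ 𝟙 i, hψ⟩

include hc in
/-- Right exactness descends to a stage. -/
theorem rightExact_iff_eventually (hF : Coh.IsQCoh F) (hG : Coh.IsQCoh G) (hFt : CohB1.IsFT F)
    (hGt : CohB1.IsFT G) (hH : CohB1.IsFP H) (f : F ⟶ G) (g : G ⟶ H) :
    (∃ w : (Scheme.Modules.pullback (c.π.app i)).map f ≫ (Scheme.Modules.pullback (c.π.app i)).map g = 0,
        (ShortComplex.mk _ _ w).Exact ∧ Epi ((Scheme.Modules.pullback (c.π.app i)).map g)) ↔
      ∃ (j : I) (φ : j ⟶ i) (w : (Scheme.Modules.pullback (D.map φ)).map f ≫ (Scheme.Modules.pullback (D.map φ)).map g = 0),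
        (ShortComplex.mk _ _ w).Exact ∧ Epi ((Scheme.Modules.pullback (D.map φ)).map g) := by
  have hHq := QCoh.isQCoh_of_isFP hH
  constructor
  · rintro ⟨w, hex, hepi⟩
    obtain ⟨j, φ, hj⟩ := exists_map_eq_zero D c hc hF hFt hHq (f ≫ g) ((Functor.map_comp _ _ _).trans w)
    rw [Functor.map_comp] at hj
    have hFj := QCoh.isQCoh_pullback (D.map φ) hF
    have hGj := QCoh.isQCoh_pullback (D.map φ) hG
    have hHj := QCoh.isQCoh_pullback (D.map φ) hHq
    haveI : CompactSpace (D.obj j) := QuasiCompact.compactSpace_of_compactSpace (D.map φ)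
    have w' : (Scheme.Modules.pullback (c.π.app j)).map ((Scheme.Modules.pullback (D.map φ)).map f) ≫
        (Scheme.Modules.pullback (c.π.app j)).map ((Scheme.Modules.pullback (D.map φ)).map g) = 0 := by
      rw [← Functor.map_comp, hj, Functor.map_zero]
    haveI := (rightExact_map_iff (c.π.app j) _ _ hj w').1
      ⟨(ShortComplex.exact_iff_of_iso (mapIso (c.π.app j) (D.map φ) (c.π.app i) (c.w φ) f g w' w)).2 hex,
        (map_eq_map_iff _ g (trIso (c.π.app j) (D.map φ) (c.π.app i) (c.w φ))).2 hepi⟩
    obtain ⟨k, ψ, hψ⟩ := exists_isIso_stage D c hc (QCoh.isQCoh_cokernel hFj hGj _)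
      (isFT_cokernel hFj hGj (FittX.isFT_pullback (D.map φ) hG hGt) _) hHj (ModStLib.isFP_pullback (D.map φ) hH)
      (cokernel.desc _ _ hj)
    have w'' : (Scheme.Modules.pullback (D.map ψ)).map ((Scheme.Modules.pullback (D.map φ)).map f) ≫
        (Scheme.Modules.pullback (D.map ψ)).map ((Scheme.Modules.pullback (D.map φ)).map g) = 0 := by
      rw [← Functor.map_comp, hj, Functor.map_zero]
    obtain ⟨hex', hepi'⟩ := (rightExact_map_iff (D.map ψ) _ _ hj w'').2 hψ
    have wk : (Scheme.Modules.pullback (D.map (ψ ≫ φ))).map f ≫ (Scheme.Modules.pullback (D.map (ψ ≫ φ))).map g = 0 := by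
      rw [← Functor.map_comp]
      exact (comp_eq_zero_of _ _ _ (D.map_comp ψ φ).symm (f ≫ g)).1
        (by rw [Functor.map_comp, Functor.map_comp, w''])
    exact ⟨k, ψ ≫ φ, wk,
      (ShortComplex.exact_iff_of_iso (mapIso _ _ _ (D.map_comp ψ φ).symm f g w'' wk)).1 hex',
      (map_eq_map_iff _ g (trIso _ _ _ (D.map_comp ψ φ).symm)).1 hepi'⟩
  · rintro ⟨j, φ, w, hex, hepi⟩
    haveI := pullback_preservesColimits (c.π.app j)
    have w' : (Scheme.Modules.pullback (c.π.app j)).map ((Scheme.Modules.pullback (D.map φ)).map f) ≫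
        (Scheme.Modules.pullback (c.π.app j)).map ((Scheme.Modules.pullback (D.map φ)).map g) = 0 := by
      rw [← Functor.map_comp, w, Functor.map_zero]
    have wl : (Scheme.Modules.pullback (c.π.app i)).map f ≫ (Scheme.Modules.pullback (c.π.app i)).map g = 0 := by
      rw [← Functor.map_comp]
      exact (comp_eq_zero_of _ _ _ (c.w φ) (f ≫ g)).1 (by rw [Functor.map_comp, Functor.map_comp, w'])
    haveI : IsIso (cokernel.desc _ _ w) := by
      obtain ⟨hc'⟩ := (ShortComplex.mk _ _ w).exact_and_epi_g_iff_g_is_cokernel.1 ⟨hex, hepi⟩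
      rw [show cokernel.desc _ _ w = ((cokernelIsCokernel _).coconePointUniqueUpToIso hc').hom from
        Cofork.IsColimit.hom_ext (cokernelIsCokernel _) ((cokernel.π_desc _ _ _).trans
          ((cokernelIsCokernel _).comp_coconePointUniqueUpToIso_hom hc' WalkingParallelPair.one).symm)]
      infer_instance
    obtain ⟨hex', hepi'⟩ := (rightExact_map_iff (c.π.app j) _ _ w w').2 inferInstance
    exact ⟨wl, (ShortComplex.exact_iff_of_iso (mapIso _ _ _ (c.w φ) f g w' wl)).1 hex',
      (map_eq_map_iff _ g (trIso _ _ _ (c.w φ))).1 hepi'⟩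

include hc in
/-- Injectivity descends to a stage for flat transition maps. -/
theorem mono_iff_eventually_of_flat (hfl : ∀ (i j : I) (φ : i ⟶ j), Flat (D.map φ)) (hF : Coh.IsQCoh F)
    (hG : Coh.IsQCoh G) (f : F ⟶ G) (hker : CohB1.IsFT (kernel f)) :
    Mono ((Scheme.Modules.pullback (c.π.app i)).map f) ↔
      ∃ (j : I) (φ : j ⟶ i), Mono ((Scheme.Modules.pullback (D.map φ)).map f) := by
  constructor
  · intro hm
    obtain ⟨j, φ, hj⟩ := exists_map_eq_zero D c hc (QCoh.isQCoh_kernel hF hG f) hker hF (kernel.ι f) (by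
      rw [← cancel_mono ((Scheme.Modules.pullback (c.π.app i)).map f), ← Functor.map_comp, kernel.condition,
        Functor.map_zero, zero_comp])
    haveI := hfl j i φ
    haveI := preservesHomology_pullback (D.map φ)
    haveI := Functor.preservesFiniteLimits_of_preservesHomology (Scheme.Modules.pullback (D.map φ))
    refine ⟨j, φ, Preadditive.mono_of_kernel_zero ?_⟩
    rw [← cancel_epi (PreservesKernel.iso (Scheme.Modules.pullback (D.map φ)) f).hom, comp_zero,
      PreservesKernel.iso_hom, kernelComparison_comp_ι, hj]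
  · rintro ⟨j, φ, hj⟩
    haveI : ∀ {j k : I} (f : j ⟶ k), IsAffineHom (D.map f) := fun f => inferInstance
    haveI : Flat (c.π.app j) := MorLib.LimFlat.flat_π hc j fun k ψ => hfl k j ψ
    haveI := preservesHomology_pullback (c.π.app j)
    haveI := Functor.preservesFiniteLimits_of_preservesHomology (Scheme.Modules.pullback (c.π.app j))
    exact ((MorphismProperty.monomorphisms _).arrow_mk_iso_iff
      (Arrow.isoMk ((trIso (c.π.app j) (D.map φ) (c.π.app i) (c.w φ)).app F)
        ((trIso (c.π.app j) (D.map φ) (c.π.app i) (c.w φ)).app G)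
        ((trIso (c.π.app j) (D.map φ) (c.π.app i) (c.w φ)).hom.naturality f).symm)).1
      ((Scheme.Modules.pullback (c.π.app j)).map_mono ((Scheme.Modules.pullback (D.map φ)).map f))

include hc in
/-- Exactness descends to a stage for flat transition maps. -/
theorem exact_iff_eventually_of_flat [∀ (i j : I) (f : i ⟶ j), Flat (D.map f)] (hF : Coh.IsQCoh F)
    (hG : Coh.IsQCoh G) (hH : Coh.IsQCoh H) (f : F ⟶ G) (g : G ⟶ H) (hIm : CohB1.IsFT (Limits.image f))
    (hKer : CohB1.IsFT (kernel g)) :
    (∃ w : (Scheme.Modules.pullback (c.π.app i)).map f ≫ (Scheme.Modules.pullback (c.π.app i)).map g = 0,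
        (ShortComplex.mk _ _ w).Exact) ↔
      ∃ (j : I) (φ : j ⟶ i) (w : (Scheme.Modules.pullback (D.map φ)).map f ≫ (Scheme.Modules.pullback (D.map φ)).map g = 0),
        (ShortComplex.mk _ _ w).Exact := by
  haveI : ∀ {j k : I} (f : j ⟶ k), IsAffineHom (D.map f) := fun f => inferInstance
  have hπ : ∀ j, Flat (c.π.app j) := fun j => MorLib.LimFlat.flat_π hc j fun k ψ => inferInstance
  haveI := hπ i
  constructor
  · rintro ⟨w, hex⟩
    haveI : (Scheme.Modules.pullback (c.π.app i)).PreservesEpimorphisms :=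
      Functor.preservesEpimorphisms_of_adjunction (Scheme.Modules.pullbackPushforwardAdjunction _)
    have h1 : (Scheme.Modules.pullback (c.π.app i)).map (image.ι f ≫ g) = 0 := by
      rw [← cancel_epi ((Scheme.Modules.pullback (c.π.app i)).map (factorThruImage f)), comp_zero,
        ← Functor.map_comp, image.fac_assoc, Functor.map_comp, w]
    have hImq : Coh.IsQCoh (Limits.image f) :=
      (QCoh.isQCoh_iff_iso (Abelian.imageIsoImage f)).1
        (QCoh.isQCoh_kernel hG (QCoh.isQCoh_cokernel hF hG f) (cokernel.π f))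
    obtain ⟨j, φ, hj⟩ := exists_map_eq_zero D c hc hImq hIm hH _ h1
    obtain ⟨k, φ', hk⟩ := exists_map_eq_zero D c hc (QCoh.isQCoh_kernel hG hH g) hKer
      (QCoh.isQCoh_cokernel hF hG f) (kernel.ι g ≫ cokernel.π f) ((exact_map_iff (c.π.app i) f g w).1 hex)
    obtain ⟨l, a, b, hab⟩ := exists_common φ φ'
    haveI := pullback_preservesColimits (D.map a)
    have hl : (Scheme.Modules.pullback (D.map (a ≫ φ))).map (image.ι f ≫ g) = 0 :=
      (comp_eq_zero_of _ _ _ (D.map_comp a φ).symm _).1 (by rw [hj, Functor.map_zero])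
    have hl' : (Scheme.Modules.pullback (D.map (b ≫ φ'))).map (kernel.ι g ≫ cokernel.π f) = 0 :=
      (comp_eq_zero_of _ _ _ (D.map_comp b φ').symm _).1 (by rw [hk, Functor.map_zero])
    rw [← hab] at hl'
    have wl : (Scheme.Modules.pullback (D.map (a ≫ φ))).map f ≫ (Scheme.Modules.pullback (D.map (a ≫ φ))).map g = 0 := by
      rw [← Functor.map_comp, ← image.fac f, Category.assoc, (Scheme.Modules.pullback (D.map (a ≫ φ))).map_comp, hl, comp_zero]
    exact ⟨l, a ≫ φ, wl, (exact_map_iff _ f g wl).2 hl'⟩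
  · rintro ⟨j, φ, w, hex⟩
    haveI := hπ j
    haveI := preservesHomology_pullback (c.π.app j)
    have w' : (Scheme.Modules.pullback (c.π.app j)).map ((Scheme.Modules.pullback (D.map φ)).map f) ≫
        (Scheme.Modules.pullback (c.π.app j)).map ((Scheme.Modules.pullback (D.map φ)).map g) = 0 := by
      rw [← Functor.map_comp, w, Functor.map_zero]
    have wl : (Scheme.Modules.pullback (c.π.app i)).map f ≫ (Scheme.Modules.pullback (c.π.app i)).map g = 0 := by
      rw [← Functor.map_comp]
      exact (comp_eq_zero_of _ _ _ (c.w φ) (f ≫ g)).1 (by rw [Functor.map_comp, Functor.map_comp, w'])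
    exact ⟨wl, (ShortComplex.exact_iff_of_iso (mapIso _ _ _ (c.w φ) f g w' wl)).1
      (hex.map (Scheme.Modules.pullback (c.π.app j)))⟩

end Groth.Agent.LimMod
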