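import Groth.Agent.LimMod.Hom
import Groth.Agent.LimMod.Crit
import Groth.Agent.FittX.Sheaf

/-!
# Epimorphisms and isomorphisms descend to a stage
-/

universe u

set_option backward.isDefEq.respectTransparency false
set_option backward.isDefEq.respectTransparency.types false

open CategoryTheory CategoryTheory.Limits AlgebraicGeometry TopologicalSpace Opposite

noncomputable section

namespace Groth.Agent.LimMod

open Groth.Agent

variable {I : Type u} [SmallCategory I] (D : I ⥤ Scheme.{u}) (c : Cone D) {i : I}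
  {F G : (D.obj i).Modules}

theorem map_eq_map_iff {X Y : Scheme.{u}} (L : Y.Modules ⥤ X.Modules) {A B : Y.Modules} (f : A ⟶ B)
    {L' : Y.Modules ⥤ X.Modules} (e : L ≅ L') : Epi (L.map f) ↔ Epi (L'.map f) :=
  (MorphismProperty.epimorphisms _).arrow_mk_iso_iff
    (Arrow.isoMk (e.app A) (e.app B) (e.hom.naturality f).symm)

theorem epi_lim_of_stage {j : I} (φ : j ⟶ i) (f : F ⟶ G)
    [Epi ((Scheme.Modules.pullback (D.map φ)).map f)] : Epi ((Scheme.Modules.pullback (c.π.app i)).map f) := by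
  haveI : (Scheme.Modules.pullback (c.π.app j)).PreservesEpimorphisms :=
    Functor.preservesEpimorphisms_of_adjunction (Scheme.Modules.pullbackPushforwardAdjunction _)
  exact (map_eq_map_iff _ f (trIso (c.π.app j) (D.map φ) (c.π.app i) (c.w φ))).1
    ((Scheme.Modules.pullback (c.π.app j)).map_epi ((Scheme.Modules.pullback (D.map φ)).map f))

theorem isIso_lim_of_stage {j : I} (φ : j ⟶ i) (f : F ⟶ G)
    [IsIso ((Scheme.Modules.pullback (D.map φ)).map f)] : IsIso ((Scheme.Modules.pullback (c.π.app i)).map f) :=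
  (NatIso.isIso_map_iff (trIso (c.π.app j) (D.map φ) (c.π.app i) (c.w φ)) f).1
    (inferInstance : IsIso ((Scheme.Modules.pullback (c.π.app j)).map ((Scheme.Modules.pullback (D.map φ)).map f)))

variable (hc : IsLimit c) [IsCofiltered I] [∀ (i j : I) (f : i ⟶ j), IsAffineHom (D.map f)]
  [CompactSpace (D.obj i)]

include hc in
/-- A surjection in the limit onto a module of finite type is one at a stage. -/
theorem exists_epi_stage (hF : Coh.IsQCoh F) (hG : Coh.IsQCoh G) (hGt : CohB1.IsFT G) (f : F ⟶ G)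
    [Epi ((Scheme.Modules.pullback (c.π.app i)).map f)] :
    ∃ (j : I) (φ : j ⟶ i), Epi ((Scheme.Modules.pullback (D.map φ)).map f) := by
  classical
  obtain ⟨n, U, hU, hcov⟩ := exists_fin_affine_cover (D.obj i)
  haveI hfin : ∀ a, Module.Finite Γ(D.obj i, U a) Γ(G, U a) := fun a => QCoh.finite_of_isFT hG hGt (hU a)
  choose S hS using fun a => (hfin a).fg_top
  let P := Σ a : Fin n, {m : Γ(G, U a) // m ∈ S a}
  have key : ∀ p : P, ∃ (j : I) (φ : j ⟶ i) (z : Γ((Scheme.Modules.pullback (D.map φ)).obj F, D.map φ ⁻¹ᵁ U p.1)),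
      ((Scheme.Modules.pullback (D.map φ)).map f).app _ z = QCoh.pullSec (D.map φ) G le_rfl p.2.1 := by
    intro p
    obtain ⟨y, hy⟩ := QCoh.app_surjective_of_epi (QCoh.isQCoh_pullback _ hF) (QCoh.isQCoh_pullback _ hG)
      ((Scheme.Modules.pullback (c.π.app i)).map f) (isAffineOpen_lim D c hc (hU p.1))
      (QCoh.pullSec (c.π.app i) G le_rfl p.2.1)
    obtain ⟨j, φ, z, rfl⟩ := exists_trLim_eq D c hc hF (hU p.1) y
    have h0 : trLim D c φ (lim_le D c φ (U p.1))
        (((Scheme.Modules.pullback (D.map φ)).map f).app _ z - QCoh.pullSec (D.map φ) G le_rfl p.2.1) = 0 := by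
      rw [map_sub, trLim_pullSec D c φ le_rfl (lim_le D c φ (U p.1)) le_rfl, sub_eq_zero, ← hy]
      exact (tr_natural _ _ _ _ f _ z).symm
    obtain ⟨k, ψ, hψ⟩ := exists_trStage_eq_zero D c hc hG φ (isAffineOpen_stage D φ (hU p.1)) _
      (by rw [← Scheme.Hom.comp_preimage, c.w]) _ h0
    refine ⟨k, ψ ≫ φ, trStage D ψ φ (stage_le D ψ φ (U p.1)) z, ?_⟩
    have h1 := hψ (stage_le D ψ φ (U p.1))
    rw [map_sub, sub_eq_zero, trStage_pullSec D ψ φ le_rfl (stage_le D ψ φ (U p.1)) le_rfl] at h1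
    rw [← h1]
    exact tr_natural _ _ _ _ f _ z
  choose j φ z hz using key
  let e := Fintype.equivFin P
  obtain ⟨l, χ, hl⟩ := exists_below_fin (fun q => j (e.symm q)) (fun q => φ (e.symm q))
  refine ⟨l, χ, epi_of_surjective _ (fun a => D.map χ ⁻¹ᵁ U a) (fun a => isAffineOpen_stage D χ (hU a))
    (fun x => hcov (D.map χ x)) (QCoh.isQCoh_pullback _ hF) (QCoh.isQCoh_pullback _ hG) fun a y => ?_⟩
  refine pullSec_induction (D.map χ) hG (isAffineOpen_stage D χ (hU a)) (hU a) le_rfl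
    (fun y => ∃ x, ((Scheme.Modules.pullback (D.map χ)).map f).app (D.map χ ⁻¹ᵁ U a) x = y)
    ⟨0, map_zero _⟩ (fun m => ?_)
    (fun r y ⟨x, hx⟩ => ⟨r • x, by rw [Scheme.Modules.Hom.app_smul, hx]⟩)
    (fun y y' ⟨x, hx⟩ ⟨x', hx'⟩ => ⟨x + x', by rw [map_add, hx, hx']⟩) y
  have hm : m ∈ Submodule.span Γ(D.obj i, U a) (S a : Set Γ(G, U a)) := by rw [hS]; trivial
  induction hm using Submodule.span_induction with
  | zero => exact ⟨0, by rw [map_zero, pullSec_zero]⟩
  | add x y _ _ hx hy =>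
    obtain ⟨u, hu⟩ := hx
    obtain ⟨v, hv⟩ := hy
    exact ⟨u + v, by rw [map_add, hu, hv, QCoh.pullSec_add]⟩
  | smul r x _ hx =>
    obtain ⟨u, hu⟩ := hx
    exact ⟨(D.map χ).appLE (U a) _ le_rfl r • u, by rw [Scheme.Modules.Hom.app_smul, hu, QCoh.pullSec_smul]⟩
  | mem m hm =>
    obtain ⟨q, hq⟩ := e.symm.surjective ⟨a, m, hm⟩
    obtain ⟨g, rfl⟩ := hl q
    have h1 := congrArg (trStage D g (φ (e.symm q)) (stage_le D g (φ (e.symm q)) (U (e.symm q).1)))
      (hz (e.symm q))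
    rw [trStage_pullSec D g _ le_rfl (stage_le D g _ _) le_rfl] at h1
    have h2 : ∃ x, ((Scheme.Modules.pullback (D.map (g ≫ φ (e.symm q)))).map f).app
        (D.map (g ≫ φ (e.symm q)) ⁻¹ᵁ U (e.symm q).1) x =
        QCoh.pullSec (D.map (g ≫ φ (e.symm q))) G le_rfl (e.symm q).2.1 :=
      ⟨_, (tr_natural _ _ _ _ f _ _).trans h1⟩
    generalize g ≫ φ (e.symm q) = χ' at h2 ⊢
    rw [hq] at h2
    exact h2

include hc in
/-- An isomorphism in the limit, from finite type onto finite presentation, is one at a stage. -/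
theorem exists_isIso_stage (hF : Coh.IsQCoh F) (hFt : CohB1.IsFT F) (hG : Coh.IsQCoh G) (hGp : CohB1.IsFP G)
    (f : F ⟶ G) [IsIso ((Scheme.Modules.pullback (c.π.app i)).map f)] :
    ∃ (j : I) (φ : j ⟶ i), IsIso ((Scheme.Modules.pullback (D.map φ)).map f) := by
  obtain ⟨j, φ, hj⟩ := exists_epi_stage D c hc hF hG (QCoh.isFT_of_isFP hGp) f
  let g := (Scheme.Modules.pullback (D.map φ)).map f
  have hFj := QCoh.isQCoh_pullback (D.map φ) hF
  have hGj := QCoh.isQCoh_pullback (D.map φ) hG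
  haveI : Epi g := hj
  haveI : CompactSpace (D.obj j) := QuasiCompact.compactSpace_of_compactSpace (D.map φ)
  haveI : IsIso ((Scheme.Modules.pullback (c.π.app j)).map g) :=
    (NatIso.isIso_map_iff (trIso (c.π.app j) (D.map φ) (c.π.app i) (c.w φ)) f).2 inferInstance
  have hker : (Scheme.Modules.pullback (c.π.app j)).map (kernel.ι g) = 0 := by
    rw [← cancel_mono ((Scheme.Modules.pullback (c.π.app j)).map g), ← Functor.map_comp, kernel.condition,
      Functor.map_zero, zero_comp]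
  obtain ⟨k, ψ, hψ⟩ := exists_trStageHom_eq D c hc (QCoh.isQCoh_kernel hFj hGj g)
    (isFT_kernel_of_epi g hFj (FittX.isFT_pullback (D.map φ) hF hFt) (ModStLib.isFP_pullback (D.map φ) hGp))
    hFj (𝟙 j) ((Scheme.Modules.pullback (D.map (𝟙 j))).map (kernel.ι g)) 0
    (by rw [trLimHom_map, hker]; simp [trLimHom, trHom])
  rw [trStageHom_map] at hψ
  have h0 : (Scheme.Modules.pullback (D.map (ψ ≫ 𝟙 j))).map (kernel.ι g) = 0 := by
    rw [hψ]; simp [trStageHom, trHom]
  haveI : PreservesColimitsOfShape WalkingParallelPair (Scheme.Modules.pullback (D.map (ψ ≫ 𝟙 j))) :=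
    (Scheme.Modules.pullbackPushforwardAdjunction (D.map (ψ ≫ 𝟙 j))).leftAdjoint_preservesColimits.preservesColimitsOfShape
  haveI := isIso_of_kernel_eq_zero g (Scheme.Modules.pullback (D.map (ψ ≫ 𝟙 j))) h0
  refine ⟨k, (ψ ≫ 𝟙 j) ≫ φ, ?_⟩
  exact (NatIso.isIso_map_iff (trIso (D.map (ψ ≫ 𝟙 j)) (D.map φ) (D.map ((ψ ≫ 𝟙 j) ≫ φ))
    (D.map_comp (ψ ≫ 𝟙 j) φ).symm) f).1 this

end Groth.Agent.LimMod
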