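import Groth.Agent.LimMod.Surj
import Groth.Agent.LimMod.Epi

/-!
# Isomorphisms and factorisations through quotients descend to a stage
-/

universe u

set_option backward.isDefEq.respectTransparency false
set_option backward.isDefEq.respectTransparency.types false

open CategoryTheory CategoryTheory.Limits AlgebraicGeometry TopologicalSpace Opposite

noncomputable section

namespace Groth.Agent.LimMod

open Groth.Agent

theorem isIso_of_isIso_trHom {T T₁ T₀ : Scheme.{u}} (a : T ⟶ T₁) (b : T₁ ⟶ T₀) (c : T ⟶ T₀) (h : a ≫ b = c)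
    {F G : T₀.Modules} (v : (Scheme.Modules.pullback b).obj F ⟶ (Scheme.Modules.pullback b).obj G)
    [IsIso (trHom a b c h v)] : IsIso ((Scheme.Modules.pullback a).map v) := by
  have : (Scheme.Modules.pullback a).map v =
      ((trIso a b c h).app F).hom ≫ trHom a b c h v ≫ ((trIso a b c h).app G).inv := by
    rw [trHom, Category.assoc, Category.assoc, Iso.hom_inv_id, Category.comp_id, Iso.hom_inv_id_assoc]
  rw [this]
  infer_instance

variable {I : Type u} [SmallCategory I] (D : I ⥤ Scheme.{u}) (c : Cone D) {i : I}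
  {F G : (D.obj i).Modules}
  (hc : IsLimit c) [IsCofiltered I] [∀ (i j : I) (f : i ⟶ j), IsAffineHom (D.map f)]
  [CompactSpace (D.obj i)]

include hc in
/-- Isomorphic in the limit implies isomorphic at a stage. -/
theorem exists_iso_stage [QuasiSeparatedSpace (D.obj i)] (hFp : CohB1.IsFP F) (hGp : CohB1.IsFP G)
    (e : (Scheme.Modules.pullback (c.π.app i)).obj F ≅ (Scheme.Modules.pullback (c.π.app i)).obj G) :
    ∃ (j : I) (φ : j ⟶ i),
      Nonempty ((Scheme.Modules.pullback (D.map φ)).obj F ≅ (Scheme.Modules.pullback (D.map φ)).obj G) := by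
  have hG := QCoh.isQCoh_of_isFP hGp
  have hF := QCoh.isQCoh_of_isFP hFp
  obtain ⟨j, φ, v, hv⟩ := exists_trLimHom_eq D c hc hFp hG e.hom
  haveI : CompactSpace (D.obj j) := QuasiCompact.compactSpace_of_compactSpace (D.map φ)
  haveI : IsIso (trHom (c.π.app j) (D.map φ) (c.π.app i) (c.w φ) v) := by
    rw [show trHom (c.π.app j) (D.map φ) (c.π.app i) (c.w φ) v = e.hom from hv]; infer_instance
  haveI := isIso_of_isIso_trHom (c.π.app j) (D.map φ) (c.π.app i) (c.w φ) v
  obtain ⟨k, ψ, hψ⟩ := exists_isIso_stage D c hc (QCoh.isQCoh_pullback _ hF)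
    (QCoh.isFT_of_isFP (ModStLib.isFP_pullback (D.map φ) hFp)) (QCoh.isQCoh_pullback _ hG)
    (ModStLib.isFP_pullback (D.map φ) hGp) v
  let t := trIso (D.map ψ) (D.map φ) (D.map (ψ ≫ φ)) (D.map_comp ψ φ).symm
  exact ⟨k, ψ ≫ φ, ⟨(t.app F).symm ≪≫ asIso ((Scheme.Modules.pullback (D.map ψ)).map v) ≪≫ t.app G⟩⟩

theorem exists_iso_lim_of_stage {j : I} (φ : j ⟶ i)
    (e : (Scheme.Modules.pullback (D.map φ)).obj F ≅ (Scheme.Modules.pullback (D.map φ)).obj G) :
    Nonempty ((Scheme.Modules.pullback (c.π.app i)).obj F ≅ (Scheme.Modules.pullback (c.π.app i)).obj G) :=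
  ⟨((trIso (c.π.app j) (D.map φ) (c.π.app i) (c.w φ)).app F).symm ≪≫
    (Scheme.Modules.pullback (c.π.app j)).mapIso e ≪≫ (trIso (c.π.app j) (D.map φ) (c.π.app i) (c.w φ)).app G⟩

/-- Factoring through a surjection after inverse image, by the kernel. -/
theorem exists_factor_iff {X Y : Scheme.{u}} (g : X ⟶ Y) {A B₁ B₂ : Y.Modules} (p₁ : A ⟶ B₁) (p₂ : A ⟶ B₂)
    [Epi p₁] :
    (∃ k, (Scheme.Modules.pullback g).map p₁ ≫ k = (Scheme.Modules.pullback g).map p₂) ↔
      (Scheme.Modules.pullback g).map (kernel.ι p₁ ≫ p₂) = 0 := by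
  haveI : PreservesColimitsOfShape WalkingParallelPair (Scheme.Modules.pullback g) :=
    (Scheme.Modules.pullbackPushforwardAdjunction g).leftAdjoint_preservesColimits.preservesColimitsOfShape
  haveI : (Scheme.Modules.pullback g).PreservesZeroMorphisms :=
    Functor.preservesZeroMorphisms_of_additive _
  have hcol := CokernelCofork.mapIsColimit _ (Abelian.epiIsCokernelOfKernel _ (kernelIsKernel p₁))
    (Scheme.Modules.pullback g)
  constructor
  · rintro ⟨k, hk⟩
    rw [Functor.map_comp, ← hk, ← Category.assoc, ← Functor.map_comp, kernel.condition, Functor.map_zero,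
      zero_comp]
  · intro h
    rw [Functor.map_comp] at h
    obtain ⟨k, hk⟩ := CokernelCofork.IsColimit.desc' hcol _ h
    exact ⟨k, hk⟩

include hc in
/-- Factorisations through a quotient descend to a stage. -/
theorem factor_iff_eventually {A B₁ B₂ : (D.obj i).Modules} (hA : Coh.IsQCoh A) (hAt : CohB1.IsFT A)
    (hB₁ : CohB1.IsFP B₁) (hB₂ : Coh.IsQCoh B₂) (p₁ : A ⟶ B₁) (p₂ : A ⟶ B₂) [Epi p₁] :
    (∃ k, (Scheme.Modules.pullback (c.π.app i)).map p₁ ≫ k = (Scheme.Modules.pullback (c.π.app i)).map p₂) ↔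
      ∃ (j : I) (φ : j ⟶ i), ∃ k,
        (Scheme.Modules.pullback (D.map φ)).map p₁ ≫ k = (Scheme.Modules.pullback (D.map φ)).map p₂ := by
  simp only [exists_factor_iff]
  constructor
  · intro h
    obtain ⟨k, ψ, hψ⟩ := exists_trStageHom_eq D c hc (QCoh.isQCoh_kernel hA (QCoh.isQCoh_of_isFP hB₁) p₁)
      (isFT_kernel_of_epi p₁ hA hAt hB₁) hB₂ (𝟙 i)
      ((Scheme.Modules.pullback (D.map (𝟙 i))).map (kernel.ι p₁ ≫ p₂))
      ((Scheme.Modules.pullback (D.map (𝟙 i))).map 0) (by rw [trLimHom_map, trLimHom_map, h, Functor.map_zero])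
    rw [trStageHom_map, trStageHom_map, Functor.map_zero] at hψ
    exact ⟨k, ψ ≫ 𝟙 i, hψ⟩
  · rintro ⟨j, φ, h⟩
    rw [← trLimHom_map D c φ, h, ← Functor.map_zero (Scheme.Modules.pullback (D.map φ)) , trLimHom_map,
      Functor.map_zero]

end Groth.Agent.LimMod
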