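import Groth.Agent.LimMod.FPExtend
import Groth.Agent.LimMod.Iso
import Groth.Agent.LimMod.Exact

/-!
# Finitely presented modules descend to a stage
-/

universe u

set_option backward.isDefEq.respectTransparency false
set_option backward.isDefEq.respectTransparency.types false

open CategoryTheory CategoryTheory.Limits AlgebraicGeometry TopologicalSpace Opposite

noncomputable section

namespace Groth.Agent.LimMod

open Groth.Agent

/-- An affine cover indexed by a nonempty `Fin`. -/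
theorem exists_fin_succ_affine_cover (X : Scheme.{u}) [CompactSpace X] :
    ∃ (n : ℕ) (U : Fin (n + 1) → X.Opens), (∀ a, IsAffineOpen (U a)) ∧ ∀ x : X, ∃ a, x ∈ U a := by
  obtain ⟨n, U, hU, hcov⟩ := exists_fin_affine_cover X
  exact ⟨n, Fin.cons ⊥ U, fun a => Fin.cases (isAffineOpen_bot X) hU a,
    fun x => (hcov x).elim fun a ha => ⟨a.succ, by simpa using ha⟩⟩

/-- The cokernel of a map from finite type to finite presentation is of finite presentation. -/
theorem isFP_cokernel {X : Scheme.{u}} {A B : X.Modules} (hA : Coh.IsQCoh A) (hAt : CohB1.IsFT A)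
    (hB : CohB1.IsFP B) (f : A ⟶ B) : CohB1.IsFP (cokernel f) := by
  have hBq := QCoh.isQCoh_of_isFP hB
  have hC := QCoh.isQCoh_cokernel hA hBq f
  refine QCoh.isFP_of_finitePresentation hC (fun V : X.affineOpens => V.1) (iSup_affineOpens_eq_top X)
    (fun V => V.2) fun V => ?_
  haveI := QCoh.finitePresentation_of_isFP hB V.2
  haveI := QCoh.finite_of_isFT hA hAt V.2
  let l : Γ(B, V.1) →ₗ[Γ(X, V.1)] Γ(cokernel f, V.1) :=
    { toFun := (cokernel.π f).app V.1, map_add' := map_add _, map_smul' := Scheme.Modules.Hom.app_smul _ }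
  let m : Γ(A, V.1) →ₗ[Γ(X, V.1)] Γ(B, V.1) :=
    { toFun := f.app V.1, map_add' := map_add _, map_smul' := Scheme.Modules.Hom.app_smul _ }
  have hker : LinearMap.ker l = LinearMap.range m := by
    refine le_antisymm (fun x hx => ?_) ?_
    · obtain ⟨w, hw⟩ := QCoh.exists_kernel_lift (cokernel.π f) V.1 x hx
      haveI : Epi (Abelian.factorThruImage f) := inferInstance
      obtain ⟨a, ha⟩ := QCoh.app_surjective_of_epi hA (QCoh.isQCoh_kernel hBq hC (cokernel.π f))
        (Abelian.factorThruImage f) V.2 w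
      refine ⟨a, ?_⟩
      show f.app V.1 a = x
      rw [← hw, ← ha]
      exact (congrArg (fun φ => Scheme.Modules.Hom.app φ V.1 a) (Abelian.image.fac f)).symm
    · rintro _ ⟨a, rfl⟩
      exact congrArg (fun φ => Scheme.Modules.Hom.app φ V.1 a) (cokernel.condition f)
  exact Module.finitePresentation_of_surjective l (QCoh.app_surjective_of_epi hBq hC (cokernel.π f) V.2)
    (hker ▸ Module.Finite.iff_fg.1 inferInstance)

/-- The adjunct of a map out of an inverse image, on sections. -/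
theorem adjunct_app {X Y : Scheme.{u}} (g : X ⟶ Y) {G : Y.Modules} {N : X.Modules}
    (q : (Scheme.Modules.pullback g).obj G ⟶ N) (O : Y.Opens) (z : Γ(G, O)) :
    ((Scheme.Modules.pullbackPushforwardAdjunction g).homEquiv G N q).app O z =
      q.app (g ⁻¹ᵁ O) (QCoh.pullSec g G le_rfl z) := by
  have h := congrArg (fun φ => Scheme.Modules.Hom.app φ O z)
    ((Scheme.Modules.pullbackPushforwardAdjunction g).homEquiv_unit (f := q))
  refine h.trans ?_
  exact (congrArg (q.app (g ⁻¹ᵁ O)) (QCoh.map_id' _ _)).symm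

variable {I : Type u} [SmallCategory I] (D : I ⥤ Scheme.{u}) (c : Cone D) {i : I}
  (hc : IsLimit c) [IsCofiltered I] [∀ (i j : I) (f : i ⟶ j), IsAffineHom (D.map f)]
  [CompactSpace (D.obj i)] [QuasiSeparatedSpace (D.obj i)]

omit [CompactSpace (D.obj i)] [QuasiSeparatedSpace (D.obj i)] in
include hc in
/-- Finitely many sections in the limit come from one stage. -/
theorem exists_trLim_finite {F : (D.obj i).Modules} (hF : Coh.IsQCoh F) {P : Type*} [Finite P]
    (U : P → (D.obj i).Opens) (hU : ∀ p, IsAffineOpen (U p))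
    (y : ∀ p, Γ((Scheme.Modules.pullback (c.π.app i)).obj F, c.π.app i ⁻¹ᵁ U p)) :
    ∃ (j : I) (φ : j ⟶ i), ∀ p, ∃ z, trLim D c φ (lim_le D c φ (U p)) z = y p := by
  obtain ⟨n, ⟨e⟩⟩ := Finite.exists_equiv_fin P
  choose j φ z hz using fun p => exists_trLim_eq D c hc hF (hU p) (y p)
  obtain ⟨l, χ, hl⟩ := exists_below_fin (fun a => j (e.symm a)) (fun a => φ (e.symm a))
  refine ⟨l, χ, fun p => ?_⟩
  obtain ⟨a, rfl⟩ := e.symm.surjective p
  obtain ⟨g, hg⟩ := hl a
  obtain ⟨z', hz'⟩ := trLim_move D c hF (hU _) g hg (z (e.symm a))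
  exact ⟨z', hz'.trans (hz _)⟩

include hc in
/-- A quotient of finite presentation in the limit comes from a stage. -/
theorem exists_quotient_descend (F₀ : (D.obj i).Modules) (hF₀ : CohB1.IsFP F₀) {G : c.pt.Modules}
    (hG : CohB1.IsFP G) (p : (Scheme.Modules.pullback (c.π.app i)).obj F₀ ⟶ G) [Epi p] :
    ∃ (j : I) (φ : j ⟶ i) (Gj : (D.obj j).Modules) (pj : (Scheme.Modules.pullback (D.map φ)).obj F₀ ⟶ Gj)
      (e : (Scheme.Modules.pullback (c.π.app j)).obj Gj ≅ G), CohB1.IsFP Gj ∧ Epi pj ∧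
      ((trIso (c.π.app j) (D.map φ) (c.π.app i) (c.w φ)).app F₀).inv ≫
        (Scheme.Modules.pullback (c.π.app j)).map pj ≫ e.hom = p := by
  classical
  have hFq := QCoh.isQCoh_of_isFP hF₀
  have hGq := QCoh.isQCoh_of_isFP hG
  haveI : ∀ {i j : I} (f : i ⟶ j), IsAffineHom (D.map f) := fun f => inferInstance
  obtain ⟨n, U, hU, hcov⟩ := exists_fin_succ_affine_cover (D.obj i)
  have hπF := QCoh.isQCoh_pullback (c.π.app i) hFq
  have hKt := isFT_kernel_of_epi p hπF
    (QCoh.isFT_of_isFP (ModStLib.isFP_pullback (c.π.app i) hF₀)) hG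
  have hKq := QCoh.isQCoh_kernel hπF hGq p
  haveI hfin := fun a => QCoh.finite_of_isFT hKq hKt (isAffineOpen_lim D c hc (hU a))
  choose T hT using fun a => (hfin a).fg_top
  obtain ⟨j, φ, hz⟩ := exists_trLim_finite D c hc hFq (P := Σ a, {t // t ∈ T a}) (fun q => U q.1)
    (fun q => hU _) (fun q => (kernel.ι p).app _ q.2.1)
  choose z hz using hz
  haveI : CompactSpace (D.obj j) := QuasiCompact.compactSpace_of_compactSpace (D.map φ)
  haveI : QuasiSeparatedSpace (D.obj j) := quasiSeparatedSpace_of_quasiSeparated (D.map φ)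
  haveI := isAffineHom_π_app D c hc j
  let Fj := (Scheme.Modules.pullback (D.map φ)).obj F₀
  have hFj := QCoh.isQCoh_pullback (D.map φ) hFq
  let t := (trIso (c.π.app j) (D.map φ) (c.π.app i) (c.w φ)).app F₀
  let P' : (Scheme.Modules.pullback (c.π.app j)).obj Fj ⟶ G := t.hom ≫ p
  let adj := Scheme.Modules.pullbackPushforwardAdjunction (c.π.app j)
  let pb : Fj ⟶ (Scheme.Modules.pushforward (c.π.app j)).obj G := adj.homEquiv Fj G P'
  have hpush : Coh.IsQCoh ((Scheme.Modules.pushforward (c.π.app j)).obj G) := QCoh.isQCoh_pushforward _ hGq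
  have hH := QCoh.isQCoh_kernel hFj hpush pb
  have hlift : ∀ q : Σ a, {t // t ∈ T a}, ∃ w, (kernel.ι pb).app (D.map φ ⁻¹ᵁ U q.1) w = z q := fun q => by
    refine QCoh.exists_kernel_lift pb _ _ ((adjunct_app (c.π.app j) P' _ (z q)).trans ?_)
    have he : c.π.app j ⁻¹ᵁ (D.map φ ⁻¹ᵁ U q.1) ≤ c.π.app i ⁻¹ᵁ U q.1 := by
      rw [← Scheme.Hom.comp_preimage, c.w]
    have h1 : P'.app (c.π.app i ⁻¹ᵁ U q.1) (QCoh.pullSec (c.π.app j) Fj (lim_le D c φ (U q.1)) (z q)) = 0 := by
      show p.app _ (trLim D c φ (lim_le D c φ (U q.1)) (z q)) = 0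
      rw [hz q]
      refine (congrArg (fun ψ => Scheme.Modules.Hom.app ψ _ q.2.1) (kernel.condition p)).trans ?_
      rfl
    have h2 := congrArg (G.presheaf.map (homOfLE he).op) h1
    rw [map_zero, ← QCoh.map_app_comm P' (homOfLE he),
      ExistEasy.pullSec_res (c.π.app j) Fj (le_refl _) he (lim_le D c φ (U q.1)) le_rfl] at h2
    rwa [show Fj.presheaf.map (homOfLE (le_refl (D.map φ ⁻¹ᵁ U q.1))).op (z q) = z q from QCoh.map_id' _ _] at h2
  choose w hw using hlift
  obtain ⟨L, r, hL, hr⟩ := exists_fp_hom_mem_fin hH (fun a => D.map φ ⁻¹ᵁ U a)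
    (fun a => isAffineOpen_stage D φ (hU a))
    (fun a => (T a).attach.image fun t => w ⟨a, t⟩)
  let f' : L ⟶ Fj := r ≫ kernel.ι pb
  have hGj : CohB1.IsFP (cokernel f') :=
    isFP_cokernel (QCoh.isQCoh_of_isFP hL) (QCoh.isFT_of_isFP hL) (ModStLib.isFP_pullback (D.map φ) hF₀) f'
  have h0 : (Scheme.Modules.pullback (c.π.app j)).map f' ≫ P' = 0 := by
    have h3 : f' ≫ pb = 0 := by simp [f']
    apply (adj.homEquiv L G).injective
    rw [Adjunction.homEquiv_naturality_left, h3, adj.homEquiv_unit, Functor.map_zero, comp_zero]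
  haveI := pullback_preservesColimits (c.π.app j)
  haveI : (Scheme.Modules.pullback (c.π.app j)).PreservesZeroMorphisms :=
    Functor.preservesZeroMorphisms_of_additive _
  obtain ⟨d, hd⟩ := CokernelCofork.IsColimit.desc'
    (CokernelCofork.mapIsColimit _ (cokernelIsCokernel f') (Scheme.Modules.pullback (c.π.app j))) P' h0
  replace hd : (Scheme.Modules.pullback (c.π.app j)).map (cokernel.π f') ≫ d = P' := hd
  have hCq := QCoh.isQCoh_pullback (c.π.app j) (QCoh.isQCoh_of_isFP hGj)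
  haveI : Epi P' := epi_comp t.hom p
  haveI : Epi ((Scheme.Modules.pullback (c.π.app j)).map (cokernel.π f') ≫ d) := by rw [hd]; infer_instance
  haveI : Epi d := epi_of_epi ((Scheme.Modules.pullback (c.π.app j)).map (cokernel.π f')) d
  haveI : (Scheme.Modules.pullback (c.π.app j)).PreservesEpimorphisms :=
    Functor.preservesEpimorphisms_of_adjunction adj
  let S := (Scheme.Modules.pullback (c.π.app j)).map (cokernel.π f')
  have hS : Epi S := Functor.map_epi _ _
  haveI : Mono d := by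
    refine mono_of_injective d (fun a => c.π.app i ⁻¹ᵁ U a) (fun a => isAffineOpen_lim D c hc (hU a))
      (fun x => hcov _) hCq hGq fun a => ?_
    rw [injective_iff_map_eq_zero]
    intro x hx
    obtain ⟨x', rfl⟩ := QCoh.app_surjective_of_epi (QCoh.isQCoh_pullback _ hFj) hCq S
      (isAffineOpen_lim (i := i) D c hc (hU a)) x
    have h1 : p.app _ (t.hom.app _ x') = 0 :=
      ((congrArg (fun ψ => Scheme.Modules.Hom.app ψ (c.π.app i ⁻¹ᵁ U a) x') hd).symm).trans hx
    obtain ⟨κ, hκ⟩ := QCoh.exists_kernel_lift p _ _ h1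
    have hx' : x' = t.inv.app _ ((kernel.ι p).app _ κ) := by
      rw [hκ]
      exact (congrArg (fun ψ => Scheme.Modules.Hom.app ψ (c.π.app i ⁻¹ᵁ U a) x') t.hom_inv_id).symm
    rw [hx']
    have hκm : κ ∈ Submodule.span Γ(c.pt, c.π.app i ⁻¹ᵁ U a) (T a : Set Γ(kernel p, c.π.app i ⁻¹ᵁ U a)) := by
      exact (hT a).symm ▸ (Submodule.mem_top : κ ∈ (⊤ : Submodule Γ(c.pt, c.π.app i ⁻¹ᵁ U a) Γ(kernel p, c.π.app i ⁻¹ᵁ U a)))
    clear hκ hx'
    induction hκm using Submodule.span_induction with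
    | zero => simp only [map_zero]
    | add b b' _ _ hb hb' => rw [map_add, map_add, map_add, hb, hb', add_zero]
    | smul s b _ hb =>
      rw [Scheme.Modules.Hom.app_smul (kernel.ι p), Scheme.Modules.Hom.app_smul t.inv,
        Scheme.Modules.Hom.app_smul S, hb, smul_zero]
    | mem b hb =>
      obtain ⟨v, hv⟩ := hr a (w ⟨a, ⟨b, hb⟩⟩) (Finset.mem_image.2 ⟨⟨b, hb⟩, Finset.mem_attach _ _, rfl⟩)
      have e1 : t.inv.app _ ((kernel.ι p).app _ b) =
          QCoh.pullSec (c.π.app j) Fj (lim_le D c φ (U a)) (f'.app _ v) := by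
        rw [show f'.app (D.map φ ⁻¹ᵁ U a) v = z ⟨a, ⟨b, hb⟩⟩ from (congrArg ((kernel.ι pb).app (D.map φ ⁻¹ᵁ U a)) hv).trans (hw ⟨a, ⟨b, hb⟩⟩),
          show (kernel.ι p).app (c.π.app i ⁻¹ᵁ U a) b = trLim D c φ (lim_le D c φ (U a)) (z ⟨a, ⟨b, hb⟩⟩) from
            (hz ⟨a, ⟨b, hb⟩⟩).symm]
        exact congrArg (fun ψ => Scheme.Modules.Hom.app ψ (c.π.app i ⁻¹ᵁ U a)
          (QCoh.pullSec (c.π.app j) Fj (lim_le D c φ (U a)) (z ⟨a, ⟨b, hb⟩⟩))) t.hom_inv_id
      rw [e1]
      refine (ExistEasy.pullSec_natural (c.π.app j) (cokernel.π f') _ _).trans ?_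
      rw [show (cokernel.π f').app _ (f'.app _ v) = 0 from
        congrArg (fun ψ => Scheme.Modules.Hom.app ψ (D.map φ ⁻¹ᵁ U a) v) (cokernel.condition f')]
      exact pullSec_zero _ _ _
  haveI : IsIso d := isIso_of_mono_of_epi d
  refine ⟨j, φ, cokernel f', cokernel.π f', asIso d, hGj, inferInstance, ?_⟩
  rw [asIso_hom, hd]
  exact t.inv_hom_id_assoc p

include hc in
/-- A module of finite presentation in the limit comes from a stage. -/
theorem exists_module_descend {F : c.pt.Modules} (hF : CohB1.IsFP F) :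
    ∃ (j : I) (_ : j ⟶ i) (Fj : (D.obj j).Modules), CohB1.IsFP Fj ∧
      Nonempty ((Scheme.Modules.pullback (c.π.app j)).obj Fj ≅ F) := by
  classical
  have hFq := QCoh.isQCoh_of_isFP hF
  haveI : ∀ {i j : I} (f : i ⟶ j), IsAffineHom (D.map f) := fun f => inferInstance
  haveI := isAffineHom_π_app D c hc i
  obtain ⟨n, U, hU, hcov⟩ := exists_fin_succ_affine_cover (D.obj i)
  haveI hfin := fun a => QCoh.finite_of_isFT hFq (QCoh.isFT_of_isFP hF) (isAffineOpen_lim D c hc (hU a))
  choose T hT using fun a => (hfin a).fg_top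
  obtain ⟨G, r, hG, hr⟩ := exists_fp_hom_mem_fin
    (F := (Scheme.Modules.pushforward (c.π.app i)).obj F) (QCoh.isQCoh_pushforward _ hFq) U hU T
  let adj := Scheme.Modules.pullbackPushforwardAdjunction (c.π.app i)
  let q : (Scheme.Modules.pullback (c.π.app i)).obj G ⟶ F := (adj.homEquiv G F).symm r
  have hrq : adj.homEquiv G F q = r := Equiv.apply_symm_apply _ _
  have hqe : Epi q := by
    refine epi_of_surjective q (fun a => c.π.app i ⁻¹ᵁ U a) (fun a => isAffineOpen_lim D c hc (hU a))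
      (fun x => hcov _) (QCoh.isQCoh_pullback _ (QCoh.isQCoh_of_isFP hG)) hFq fun a y => ?_
    have hy : y ∈ Submodule.span Γ(c.pt, c.π.app i ⁻¹ᵁ U a) (T a : Set Γ(F, c.π.app i ⁻¹ᵁ U a)) := by
      exact (hT a).symm ▸ (Submodule.mem_top : y ∈ (⊤ : Submodule Γ(c.pt, c.π.app i ⁻¹ᵁ U a) Γ(F, c.π.app i ⁻¹ᵁ U a)))
    induction hy using Submodule.span_induction with
    | zero => exact ⟨0, map_zero _⟩
    | add b b' _ _ hb hb' =>
      obtain ⟨u, hu⟩ := hb
      obtain ⟨v, hv⟩ := hb'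
      exact ⟨u + v, by rw [map_add, hu, hv]⟩
    | smul s b _ hb =>
      obtain ⟨u, hu⟩ := hb
      exact ⟨s • u, by rw [Scheme.Modules.Hom.app_smul, hu]⟩
    | mem b hb =>
      obtain ⟨g, hg⟩ := hr a b hb
      refine ⟨QCoh.pullSec (c.π.app i) G le_rfl g, ?_⟩
      rw [← adjunct_app, hrq]
      exact hg
  obtain ⟨j, φ, Gj, pj, e, hGj, -, -⟩ := exists_quotient_descend D c hc G hG hF q
  exact ⟨j, φ, Gj, hGj, ⟨e⟩⟩

end Groth.Agent.LimMod
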