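import Groth.Agent.ArtFunLib.FamilyHom

/-! Morphisms of modules from families on a basis of affine opens. -/

set_option autoImplicit false
set_option backward.isDefEq.respectTransparency false
universe u

open CategoryTheory AlgebraicGeometry Opposite TopologicalSpace
open Groth.Agent.ArtFunLib.FamilyHom (map_map map_refl)

namespace Groth.Agent.LimMod

variable {X : Scheme.{u}} {M N : X.Modules} (P : X.Opens → Prop)
  (hP : ∀ (V : X.Opens) (x : X), x ∈ V → ∃ W : X.Opens, P W ∧ x ∈ W ∧ W ≤ V)

include hP in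
/-- Two sections agree if they agree on the opens of a basis. -/
theorem ext_basis (N : X.Modules) (V : X.Opens) (s t : Γ(N, V))
    (h : ∀ (W : X.Opens) (hW : W ≤ V), P W →
      N.presheaf.map (homOfLE hW).op s = N.presheaf.map (homOfLE hW).op t) : s = t := by
  refine TopCat.Sheaf.eq_of_locally_eq' ⟨N.presheaf, Scheme.Modules.isSheaf N⟩
    (fun i : {W : X.Opens // P W ∧ W ≤ V} => i.1) V (fun i => homOfLE i.2.2) (fun x hx => ?_) s t
    (fun i => h i.1 i.2.2 i.2.1)
  obtain ⟨W, hW, hxW, hWV⟩ := hP V x hx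
  exact Opens.mem_iSup.2 ⟨⟨W, hW, hWV⟩, hxW⟩

include hP in
/-- Two morphisms agree if they agree on the opens of a basis. -/
theorem hom_ext_basis (a b : M ⟶ N) (h : ∀ (W : X.Opens), P W → ∀ s : Γ(M, W), a.app W s = b.app W s) :
    a = b := by
  ext V s
  refine ext_basis P hP N V _ _ fun W hW hPW => ?_
  exact (ConcreteCategory.congr_hom (a.mapPresheaf.naturality (homOfLE hW).op) s).symm.trans
    ((h W hPW _).trans (ConcreteCategory.congr_hom (b.mapPresheaf.naturality (homOfLE hW).op) s))

include hP in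
/-- A compatible linear family on a basis extends to a morphism. -/
theorem exists_hom_of_basis (f : ∀ U : X.Opens, P U → (Γ(M, U) →+ Γ(N, U)))
    (hnat : ∀ (U W : X.Opens) (hU : P U) (hW : P W) (h : W ≤ U) (s : Γ(M, U)),
      N.presheaf.map (homOfLE h).op (f U hU s) = f W hW (M.presheaf.map (homOfLE h).op s))
    (hlin : ∀ (U : X.Opens) (hU : P U) (r : Γ(X, U)) (s : Γ(M, U)), f U hU (r • s) = r • f U hU s) :
    ∃ φ : M ⟶ N, ∀ (U : X.Opens) (hU : P U) (s : Γ(M, U)), φ.app U s = f U hU s := by
  have hg : ∀ (V : X.Opens) (s : Γ(M, V)), ∃ t : Γ(N, V), ∀ (W : X.Opens) (hW : W ≤ V) (hPW : P W),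
      N.presheaf.map (homOfLE hW).op t = f W hPW (M.presheaf.map (homOfLE hW).op s) := by
    intro V s
    obtain ⟨t, ht, -⟩ := TopCat.Sheaf.existsUnique_gluing' ⟨N.presheaf, Scheme.Modules.isSheaf N⟩
      (fun i : {W : X.Opens // P W ∧ W ≤ V} => i.1) V (fun i => homOfLE i.2.2)
      (fun x hx => by
        obtain ⟨W, hW, hxW, hWV⟩ := hP V x hx
        exact Opens.mem_iSup.2 ⟨⟨W, hW, hWV⟩, hxW⟩)
      (fun i => f i.1 i.2.1 (M.presheaf.map (homOfLE i.2.2).op s))
      (fun i j => ext_basis P hP N _ _ _ fun W hW hPW => by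
        show N.presheaf.map _ (N.presheaf.map (homOfLE inf_le_left).op _) =
          N.presheaf.map _ (N.presheaf.map (homOfLE inf_le_right).op _)
        rw [map_map, map_map, hnat i.1 W i.2.1 hPW (hW.trans inf_le_left),
          hnat j.1 W j.2.1 hPW (hW.trans inf_le_right), map_map, map_map])
    exact ⟨t, fun W hW hPW => ht ⟨W, hPW, hW⟩⟩
  choose g hg' using hg
  have huniq : ∀ (V : X.Opens) (s : Γ(M, V)) (t : Γ(N, V)),
      (∀ (W : X.Opens) (hW : W ≤ V) (hPW : P W),
        N.presheaf.map (homOfLE hW).op t = f W hPW (M.presheaf.map (homOfLE hW).op s)) →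
        g V s = t := fun V s t h => ext_basis P hP N V _ _ fun W hW hPW =>
      (hg' V s W hW hPW).trans (h W hW hPW).symm
  have hadd : ∀ V s s', g V (s + s') = g V s + g V s' := fun V s s' => huniq V _ _ fun W hW hPW => by
    rw [map_add, hg' V s W hW hPW, hg' V s' W hW hPW, map_add (M.presheaf.map _).hom, map_add]
  let G : ∀ V : X.Opens, Γ(M, V) →+ Γ(N, V) := fun V => AddMonoidHom.mk' (g V) (hadd V)
  refine ⟨⟨PresheafOfModules.homMk
    { app := fun V => AddCommGrpCat.ofHom (G V.unop)
      naturality := fun V V' i => by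
        ext s
        refine huniq V'.unop _ _ fun W hW hPW => ?_
        show N.presheaf.map (homOfLE hW).op (N.presheaf.map i (g V.unop s)) = _
        rw [show i = (homOfLE i.unop.le).op from Subsingleton.elim _ _]
        rw [map_map, hg' V.unop s W _ hPW]
        exact congrArg (f W hPW) (map_map M hW i.unop.le s).symm }
    (fun V (r : Γ(X, V.unop)) (s : Γ(M, V.unop)) => show g V.unop (r • s) = r • g V.unop s from
      huniq V.unop _ _ fun W hW hPW => by
        rw [Scheme.Modules.map_smul, Scheme.Modules.map_smul, hg' V.unop s W hW hPW, hlin])⟩,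
    fun U hU s => ?_⟩
  show g U s = f U hU s
  exact huniq U s _ fun W hW hPW => hnat U W hU hPW hW s

end Groth.Agent.LimMod
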