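import Groth.Agent.LimMod.Glue
import Groth.Agent.QCoh.Support
import Groth.Agent.QCoh.Localize

/-!
# Morphisms bijective after localizations
-/

universe u

set_option backward.isDefEq.respectTransparency false
set_option backward.isDefEq.respectTransparency.types false

open CategoryTheory CategoryTheory.Limits AlgebraicGeometry TopologicalSpace Opposite

namespace Groth.Agent.LimMod

open Groth.Agent

variable {X : Scheme.{u}} {K L : X.Modules} (φ : K ⟶ L) {V : X.Opens} (hV : IsAffineOpen V)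
  {ι : Type*} (f : ι → Γ(X, V))

theorem isUnit_res_of_le {g : Γ(X, V)} {O : X.Opens} (hO : O ≤ V) (hg : O ≤ X.basicOpen g) :
    IsUnit (X.presheaf.map (homOfLE hO).op g) := by
  have := (RingedSpace.isUnit_res_basicOpen X.toRingedSpace g).map (X.presheaf.map (homOfLE hg).op).hom
  exact (congrArg IsUnit (QCoh.ringMap_map (X := X) _ _ g)).mp this

include hV in
/-- On a basic open inside one of the `D(f l)`, a map bijective up to powers of `f` is bijective. -/
theorem bijective_app_basicOpen (hK : Coh.IsQCoh K) (hL : Coh.IsQCoh L)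
    (hsurj : ∀ l (y : Γ(L, V)), ∃ (N : ℕ) (x : Γ(K, V)), φ.app V x = f l ^ N • y)
    (hinj : ∀ l (x : Γ(K, V)), φ.app V x = 0 → ∃ N : ℕ, f l ^ N • x = 0) (h : Γ(X, V)) (l : ι)
    (hl : X.basicOpen h ≤ X.basicOpen (f l)) : Function.Bijective (φ.app (X.basicOpen h)) := by
  have hle := X.basicOpen_le h
  have huh := isUnit_res_of_le hle (le_refl (X.basicOpen h))
  have huf := isUnit_res_of_le hle hl
  constructor
  · intro a b hab
    rw [← sub_eq_zero]
    have h0 : φ.app _ (a - b) = 0 := by rw [map_sub, sub_eq_zero]; exact hab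
    obtain ⟨n, t, ht⟩ := QCoh.exists_pow_smul_eq_map hK hV h (a - b)
    have h1 : L.presheaf.map (homOfLE hle).op (φ.app V t) = 0 := by
      rw [← QCoh.map_app_comm φ (homOfLE hle), ht, Scheme.Modules.Hom.app_smul, h0, smul_zero]
    obtain ⟨N, hN⟩ := QCoh.exists_pow_smul_eq_zero hL hV h _ h1
    obtain ⟨N', hN'⟩ := hinj l (h ^ N • t) (by rw [Scheme.Modules.Hom.app_smul, hN])
    have h2 := congrArg (K.presheaf.map (homOfLE hle).op) hN'
    rw [map_zero, Scheme.Modules.map_smul, Scheme.Modules.map_smul, ht, map_pow, map_pow] at h2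
    exact (huh.pow n).smul_eq_zero.1 ((huh.pow N).smul_eq_zero.1 ((huf.pow N').smul_eq_zero.1 h2))
  · intro z
    obtain ⟨n, m, hm⟩ := QCoh.exists_pow_smul_eq_map hL hV h z
    obtain ⟨N, x, hx⟩ := hsurj l m
    have hu := (huf.pow N).mul (huh.pow n)
    refine ⟨(↑hu.unit⁻¹ : Γ(X, X.basicOpen h)) • K.presheaf.map (homOfLE hle).op x, ?_⟩
    rw [Scheme.Modules.Hom.app_smul, QCoh.map_app_comm φ (homOfLE hle), hx, Scheme.Modules.map_smul, hm,
      map_pow, smul_smul (X.presheaf.map (homOfLE hle).op (f l) ^ N), smul_smul, IsUnit.val_inv_mul, one_smul]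

include hV in
/-- A map bijective up to powers of `f l` is bijective on opens inside the union of the `D(f l)`. -/
theorem bijective_app_of_loc (hK : Coh.IsQCoh K) (hL : Coh.IsQCoh L)
    (hsurj : ∀ l (y : Γ(L, V)), ∃ (N : ℕ) (x : Γ(K, V)), φ.app V x = f l ^ N • y)
    (hinj : ∀ l (x : Γ(K, V)), φ.app V x = 0 → ∃ N : ℕ, f l ^ N • x = 0) (O : X.Opens) (hOV : O ≤ V)
    (hO : ∀ x ∈ O, ∃ l, x ∈ X.basicOpen (f l)) : Function.Bijective (φ.app O) := by
  let P : X.Opens → Prop := fun W => W ≤ O → ∃ (h : Γ(X, V)) (l : ι), W = X.basicOpen h ∧ X.basicOpen h ≤ X.basicOpen (f l)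
  have hP : ∀ (U : X.Opens) (x : X), x ∈ U → ∃ W : X.Opens, P W ∧ x ∈ W ∧ W ≤ U := by
    intro U x hx
    by_cases hxO : x ∈ O
    · obtain ⟨l, hl⟩ := hO x hxO
      obtain ⟨h, hh, hxh⟩ := hV.exists_basicOpen_le (V := U ⊓ X.basicOpen (f l))
        ⟨x, ⟨hx, hl⟩⟩ (hOV hxO)
      exact ⟨X.basicOpen h, fun _ => ⟨h, l, rfl, hh.trans inf_le_right⟩, hxh, hh.trans inf_le_left⟩
    · exact ⟨U, fun h => absurd (h hx) hxO, hx, le_rfl⟩
  have hinjO : ∀ (U : X.Opens), U ≤ O → Function.Injective (φ.app U) := by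
    intro U hU a b hab
    refine ext_basis P hP K U a b fun W hW hPW => ?_
    obtain ⟨h, l, rfl, hl⟩ := hPW (hW.trans hU)
    refine (bijective_app_basicOpen φ hV f hK hL hsurj hinj h l hl).1 ?_
    rw [QCoh.map_app_comm φ (homOfLE hW), QCoh.map_app_comm φ (homOfLE hW), hab]
  refine ⟨hinjO O le_rfl, fun z => ?_⟩
  have hlift : ∀ W : {W : X.Opens // P W ∧ W ≤ O}, ∃ y, φ.app W.1 y = L.presheaf.map (homOfLE W.2.2).op z := by
    rintro ⟨W, hPW, hWO⟩
    obtain ⟨h, l, rfl, hl⟩ := hPW hWO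
    exact (bijective_app_basicOpen φ hV f hK hL hsurj hinj h l hl).2 _
  choose y hy using hlift
  obtain ⟨t, ht, -⟩ := TopCat.Sheaf.existsUnique_gluing' ⟨K.presheaf, Scheme.Modules.isSheaf K⟩
    (fun W : {W : X.Opens // P W ∧ W ≤ O} => W.1) O (fun W => homOfLE W.2.2)
    (fun x hx => by
      obtain ⟨W, hW, hxW, hWO⟩ := hP O x hx
      exact Opens.mem_iSup.2 ⟨⟨W, hW, hWO⟩, hxW⟩) y (fun i j => hinjO _ (inf_le_left.trans i.2.2) (by
        show φ.app _ (K.presheaf.map (homOfLE inf_le_left).op _) = φ.app _ (K.presheaf.map (homOfLE inf_le_right).op _)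
        rw [QCoh.map_app_comm φ, QCoh.map_app_comm φ, hy, hy, QCoh.map_map, QCoh.map_map]
        rfl))
  refine ⟨t, ext_basis P hP L O _ _ fun W hW hPW => ?_⟩
  have h1 : K.presheaf.map (homOfLE hW).op t = y ⟨W, hPW, hW⟩ := ht ⟨W, hPW, hW⟩
  rw [← QCoh.map_app_comm φ (homOfLE hW), h1]
  exact hy ⟨W, hPW, hW⟩

end Groth.Agent.LimMod
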