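import Groth.Agent.LimMod.Exact
import Groth.Agent.MorLib.BaseChangeLim
import Groth.Prelude.Def_FlatFun

/-!
# Limit preserving subfunctors defined by conditions on base changes
-/

set_option autoImplicit false
set_option backward.isDefEq.respectTransparency false
set_option backward.isDefEq.respectTransparency.types false

universe u

open CategoryTheory CategoryTheory.Limits AlgebraicGeometry Opposite

noncomputable section

namespace Groth.Agent.LimMod

open Groth.Agent

/-- A condition on morphisms to `X` stable under composition which descends along limits gives a limit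
preserving functor. -/
theorem isLimitPreserving_genPSp {X S : Scheme.{u}} (f : X ⟶ S) [QuasiCompact f]
    (Q : ∀ ⦃Z : Scheme.{u}⦄, (Z ⟶ X) → Prop)
    (hQ : ∀ ⦃Z Z' : Scheme.{u}⦄ (a : Z' ⟶ Z) (g : Z ⟶ X), Q g → Q (a ≫ g))
    (hlim : ∀ {J : Type u} [SmallCategory J] [IsCofiltered J] (E : J ⥤ Scheme.{u}) (d : Cone E), IsLimit d →
      (∀ (i j : J) (φ : i ⟶ j), IsAffineHom (E.map φ)) → ∀ (o : J), CompactSpace (E.obj o) →
        ∀ g : E.obj o ⟶ X, Q (d.π.app o ≫ g) → ∃ (j : J) (φ : j ⟶ o), Q (E.map φ ≫ g)) :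
    AlgSp.IsLimitPreserving (FlatFun.genPSp S (fun T => Q (pullback.fst f T.hom))) := by
  have hstable : ∀ {T T' : Over S} (_ : T' ⟶ T), Q (pullback.fst f T.hom) → Q (pullback.fst f T'.hom) := by
    intro T T' k h
    have := hQ (pullback.map f T'.hom f T.hom (𝟙 X) k.left (𝟙 S) (by simp) (by simp)) _ h
    rwa [pullback.lift_fst, Category.comp_id] at this
  intro I _ _ D c hc hD hT
  refine ⟨Types.FilteredColimit.isColimitOf _ _ ?_ ?_⟩
  · rintro ⟨⟨T₀, k, hk⟩⟩
    have hpt : Q (pullback.fst f c.pt.hom) := hstable k hk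
    obtain ⟨i⟩ : Nonempty I := IsCofiltered.nonempty
    let D' : I ⥤ Scheme.{u} := D ⋙ Over.forget S
    haveI : ∀ j, IsAffine (D'.obj j) := hD
    haveI : ∀ {j k : I} (φ : j ⟶ k), IsAffineHom (D'.map φ) := fun φ => isAffineHom_of_isAffine _
    let xi : pullback f (D.obj i).hom ⟶ D'.obj i := pullback.snd f (D.obj i).hom
    haveI : CompactSpace (D'.obj i) := inferInstance
    haveI : CompactSpace ↥(pullback f (D.obj i).hom) := QuasiCompact.compactSpace_of_compactSpace xi
    let qX : pullback f c.pt.hom ⟶ pullback f (D.obj i).hom :=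
      pullback.map f c.pt.hom f (D.obj i).hom (𝟙 X) (c.π.app i).left (𝟙 S) (by simp) (by simp)
    have hX : IsPullback qX (pullback.snd f c.pt.hom) xi (((Over.forget S).mapCone c).π.app i) := by
      refine IsPullback.of_right ?_ (pullback.lift_snd _ _ _) (IsPullback.of_hasPullback f (D.obj i).hom)
      rw [pullback.lift_fst, Category.comp_id, Functor.mapCone_π_app, Over.forget_map, Over.w]
      exact IsPullback.of_hasPullback f c.pt.hom
    let o : Over i := Over.mk (𝟙 i)
    let g : (MorLib.BC.diag D' xi).obj o ⟶ X :=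
      pullback.fst xi (D'.map (𝟙 i)) ≫ pullback.fst f (D.obj i).hom
    obtain ⟨j, φ, hj⟩ := hlim (MorLib.BC.diag D' xi) (MorLib.BC.cone D' xi hX)
      (MorLib.BC.isLimitCone D' xi hX hc) (fun a b φ => inferInstance) o (MorLib.BC.compactSpace_obj D' xi o) g (by
        show Q (MorLib.BC.proj D' xi hX o ≫ pullback.fst xi (D'.map (𝟙 i)) ≫ pullback.fst f (D.obj i).hom)
        rw [show MorLib.BC.proj D' xi hX o ≫ pullback.fst xi (D'.map (𝟙 i)) ≫ pullback.fst f (D.obj i).hom =
          qX ≫ pullback.fst f (D.obj i).hom from by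
            rw [← Category.assoc]; exact congrArg (· ≫ _) (MorLib.BC.proj_fst D' xi hX o)]
        rw [pullback.lift_fst, Category.comp_id]
        exact hpt)
    have sq : IsPullback (pullback.fst xi (D'.map j.hom) ≫ pullback.fst f (D.obj i).hom)
        (pullback.snd xi (D'.map j.hom)) f (D.obj j.left).hom := by
      have := (IsPullback.of_hasPullback xi (D'.map j.hom)).paste_horiz (IsPullback.of_hasPullback f (D.obj i).hom)
      rwa [show D'.map j.hom ≫ (D.obj i).hom = (D.obj j.left).hom from Over.w (D.map j.hom)] at this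
    have h1 : Q (pullback.fst f (D.obj j.left).hom) := by
      have h2 := hQ sq.isoPullback.inv _ hj
      have he : (MorLib.BC.diag D' xi).map φ ≫ g = pullback.fst xi (D'.map j.hom) ≫ pullback.fst f (D.obj i).hom := by
        rw [← Category.assoc]
        exact congrArg (· ≫ _) (MorLib.BC.map_fst D' xi φ)
      rw [he] at h2
      rwa [IsPullback.isoPullback_inv_fst] at h2
    exact ⟨op j.left, ⟨⟨D.obj j.left, 𝟙 _, h1⟩⟩, @Subsingleton.elim _ (FlatFun.genPSp_subsingleton _ _ _) _ _⟩
  · intro a b xa xb _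
    obtain ⟨l, f₁, f₂, -⟩ := IsFilteredOrEmpty.cocone_objs a b
    exact ⟨l, f₁, f₂, @Subsingleton.elim _ (FlatFun.genPSp_subsingleton _ _ _) _ _⟩

theorem epi_precomp {X Z Z' : Scheme.{u}} (a : Z' ⟶ Z) (g : Z ⟶ X) {F G : X.Modules} (u : F ⟶ G)
    (h : Epi ((Scheme.Modules.pullback g).map u)) : Epi ((Scheme.Modules.pullback (a ≫ g)).map u) := by
  haveI : (Scheme.Modules.pullback a).PreservesEpimorphisms :=
    Functor.preservesEpimorphisms_of_adjunction (Scheme.Modules.pullbackPushforwardAdjunction _)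
  exact (map_eq_map_iff _ u (trIso a g (a ≫ g) rfl)).1 ((Scheme.Modules.pullback a).map_epi _)

variable {X S : Scheme.{u}} (f : X ⟶ S) [QuasiCompact f] {F G : X.Modules} (hF : Coh.IsQCoh F) (hG : Coh.IsQCoh G)
  (u : F ⟶ G)

include hF hG in
theorem isLimitPreserving_surj (hGt : CohB1.IsFT G) :
    AlgSp.IsLimitPreserving (FlatFun.genPSp S (fun T => Epi ((Scheme.Modules.pullback (pullback.fst f T.hom)).map u))) := by
  refine isLimitPreserving_genPSp f (fun Z g => Epi ((Scheme.Modules.pullback g).map u))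
    (fun Z Z' a g h => epi_precomp a g u h) fun E d hd hE o ho g h => ?_
  haveI := hE
  haveI := ho
  haveI : Epi ((Scheme.Modules.pullback (d.π.app o)).map ((Scheme.Modules.pullback g).map u)) :=
    (map_eq_map_iff _ u (trIso (d.π.app o) g _ rfl)).2 h
  obtain ⟨j, φ, hj⟩ := exists_epi_stage E d hd (QCoh.isQCoh_pullback g hF) (QCoh.isQCoh_pullback g hG)
    (FittX.isFT_pullback g hG hGt) ((Scheme.Modules.pullback g).map u)
  exact ⟨j, φ, (map_eq_map_iff _ u (trIso (E.map φ) g _ rfl)).1 hj⟩

include hF hG in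
theorem isLimitPreserving_zero (hFt : CohB1.IsFT F) :
    AlgSp.IsLimitPreserving (FlatFun.genPSp S (fun T => (Scheme.Modules.pullback (pullback.fst f T.hom)).map u = 0)) := by
  refine isLimitPreserving_genPSp f (fun Z g => (Scheme.Modules.pullback g).map u = 0)
    (fun Z Z' a g h => (comp_eq_zero_of a g _ rfl u).1 (by rw [h, Functor.map_zero])) fun E d hd hE o ho g h => ?_
  haveI := hE
  haveI := ho
  obtain ⟨j, φ, hj⟩ := exists_map_eq_zero E d hd (QCoh.isQCoh_pullback g hF) (FittX.isFT_pullback g hF hFt)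
    (QCoh.isQCoh_pullback g hG) ((Scheme.Modules.pullback g).map u) ((comp_eq_zero_of (d.π.app o) g _ rfl u).2 h)
  exact ⟨j, φ, (comp_eq_zero_of (E.map φ) g _ rfl u).1 hj⟩

include hF hG in
theorem isLimitPreserving_iso (hFt : CohB1.IsFT F) (hGp : CohB1.IsFP G) :
    AlgSp.IsLimitPreserving (FlatFun.genPSp S (fun T => IsIso ((Scheme.Modules.pullback (pullback.fst f T.hom)).map u))) := by
  refine isLimitPreserving_genPSp f (fun Z g => IsIso ((Scheme.Modules.pullback g).map u))
    (fun Z Z' a g h => (NatIso.isIso_map_iff (trIso a g _ rfl) u).1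
      (inferInstanceAs (IsIso ((Scheme.Modules.pullback a).map ((Scheme.Modules.pullback g).map u)))))
    fun E d hd hE o ho g h => ?_
  haveI := hE
  haveI := ho
  haveI : IsIso ((Scheme.Modules.pullback (d.π.app o)).map ((Scheme.Modules.pullback g).map u)) :=
    (NatIso.isIso_map_iff (trIso (d.π.app o) g _ rfl) u).2 h
  obtain ⟨j, φ, hj⟩ := exists_isIso_stage E d hd (QCoh.isQCoh_pullback g hF) (FittX.isFT_pullback g hF hFt)
    (QCoh.isQCoh_pullback g hG) (ModStLib.isFP_pullback g hGp) ((Scheme.Modules.pullback g).map u)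
  exact ⟨j, φ, (NatIso.isIso_map_iff (trIso (E.map φ) g _ rfl) u).1 hj⟩

end Groth.Agent.LimMod
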