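import Groth.Agent.ExistEasy.PP.PullSec
import Groth.Agent.LimMod.Glue

/-!
# Transporting sections and morphisms between inverse images
-/

universe u

set_option backward.isDefEq.respectTransparency false
set_option backward.isDefEq.respectTransparency.types false

open CategoryTheory CategoryTheory.Limits AlgebraicGeometry TopologicalSpace Opposite

noncomputable section

namespace Groth.Agent.LimMod

open Groth.Agent

section induction

variable {X Y : Scheme.{u}} (φ : X ⟶ Y) {M : Y.Modules}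

/-- Sections of an inverse image over an affine are generated by the inverse images of sections. -/
theorem pullSec_induction (hM : Coh.IsQCoh M) {W : X.Opens} (hW : IsAffineOpen W) {V : Y.Opens}
    (hV : IsAffineOpen V) (hle : W ≤ φ ⁻¹ᵁ V) (motive : Γ((Scheme.Modules.pullback φ).obj M, W) → Prop)
    (zero : motive 0) (sec : ∀ m, motive (QCoh.pullSec φ M hle m))
    (smul : ∀ (r : Γ(X, W)) z, motive z → motive (r • z))
    (add : ∀ a b, motive a → motive b → motive (a + b)) (z) : motive z := by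
  letI : Algebra Γ(Y, V) Γ(X, W) := (φ.appLE V W hle).hom.toAlgebra
  letI : Module Γ(Y, V) Γ((Scheme.Modules.pullback φ).obj M, W) :=
    Module.compHom _ (φ.appLE V W hle).hom
  haveI : IsScalarTower Γ(Y, V) Γ(X, W) Γ((Scheme.Modules.pullback φ).obj M, W) :=
    ⟨fun a b c => mul_smul ((φ.appLE V W hle).hom a) b c⟩
  obtain ⟨l, hl, hb⟩ := ExistEasy.exists_pullSec_baseChange φ hM hW hV hle
  exact hb.inductionOn z motive zero (fun m => hl m ▸ sec m) smul add

theorem pullSec_zero (M : Y.Modules) {W : X.Opens} {V : Y.Opens} (hle : W ≤ φ ⁻¹ᵁ V) :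
    QCoh.pullSec φ M hle 0 = 0 := by
  have h := QCoh.pullSec_add φ M hle 0 0
  rw [add_zero] at h
  exact left_eq_add.1 h

/-- The inverse image of sections, additively. -/
def pullSecHom (M : Y.Modules) {W : X.Opens} {V : Y.Opens} (hle : W ≤ φ ⁻¹ᵁ V) :
    Γ(M, V) →+ Γ((Scheme.Modules.pullback φ).obj M, W) :=
  AddMonoidHom.mk' (QCoh.pullSec φ M hle) (QCoh.pullSec_add φ M hle)

@[simp] theorem pullSecHom_apply {W : X.Opens} {V : Y.Opens} (hle : W ≤ φ ⁻¹ᵁ V) (m : Γ(M, V)) :
    pullSecHom φ M hle m = QCoh.pullSec φ M hle m := rfl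

end induction

variable {T T₁ T₀ : Scheme.{u}} (a : T ⟶ T₁) (b : T₁ ⟶ T₀) (c : T ⟶ T₀) (h : a ≫ b = c)

/-- The identification of iterated inverse images. -/
def trIso : Scheme.Modules.pullback b ⋙ Scheme.Modules.pullback a ≅ Scheme.Modules.pullback c :=
  Scheme.Modules.pullbackComp a b ≪≫ Scheme.Modules.pullbackCongr h

variable {G : T₀.Modules}

/-- Transport of sections along `a`. -/
def tr {O : T₁.Opens} {O' : T.Opens} (hle : O' ≤ a ⁻¹ᵁ O) :
    Γ((Scheme.Modules.pullback b).obj G, O) →+ Γ((Scheme.Modules.pullback c).obj G, O') :=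
  AddMonoidHom.mk' (fun x => ((trIso a b c h).hom.app G).app O' (QCoh.pullSec a _ hle x))
    fun x y => (congrArg (((trIso a b c h).hom.app G).app O') (QCoh.pullSec_add a _ hle x y)).trans
      (map_add (((trIso a b c h).hom.app G).app O').hom _ _)

theorem tr_apply {O : T₁.Opens} {O' : T.Opens} (hle : O' ≤ a ⁻¹ᵁ O)
    (x : Γ((Scheme.Modules.pullback b).obj G, O)) :
    tr a b c h hle x = ((trIso a b c h).hom.app G).app O' (QCoh.pullSec a _ hle x) := rfl

theorem tr_pullSec {U : T₀.Opens} {O : T₁.Opens} {O' : T.Opens} (h₁ : O ≤ b ⁻¹ᵁ U)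
    (hle : O' ≤ a ⁻¹ᵁ O) (h₂ : O' ≤ c ⁻¹ᵁ U) (m : Γ(G, U)) :
    tr a b c h hle (QCoh.pullSec b G h₁ m) = QCoh.pullSec c G h₂ m := by
  refine Eq.trans (congrArg (((Scheme.Modules.pullbackCongr h).hom.app G).app O')
    (ExistEasy.pullSec_comp a b G h₁ hle m)) ?_
  exact ExistEasy.pullSec_congr h G _ m

theorem tr_smul {O : T₁.Opens} {O' : T.Opens} (hle : O' ≤ a ⁻¹ᵁ O) (r : Γ(T₁, O))
    (x : Γ((Scheme.Modules.pullback b).obj G, O)) :
    tr a b c h hle (r • x) = a.appLE O O' hle r • tr a b c h hle x :=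
  (congrArg (((trIso a b c h).hom.app G).app O') (QCoh.pullSec_smul a _ hle r x)).trans
    (Scheme.Modules.Hom.app_smul ((trIso a b c h).hom.app G) _ _)

theorem tr_res {O O₁ : T₁.Opens} {O' O'₁ : T.Opens} (hO : O₁ ≤ O) (hO' : O'₁ ≤ O')
    (hle : O' ≤ a ⁻¹ᵁ O) (hle₁ : O'₁ ≤ a ⁻¹ᵁ O₁) (x : Γ((Scheme.Modules.pullback b).obj G, O)) :
    ((Scheme.Modules.pullback c).obj G).presheaf.map (homOfLE hO').op (tr a b c h hle x) =
      tr a b c h hle₁ (((Scheme.Modules.pullback b).obj G).presheaf.map (homOfLE hO).op x) :=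
  (QCoh.map_app_comm ((trIso a b c h).hom.app G) (homOfLE hO') _).symm.trans
    (congrArg (((trIso a b c h).hom.app G).app O'₁) (ExistEasy.pullSec_res a _ hO hO' hle hle₁ x))

theorem trIso_app_bijective (G : T₀.Modules) (O' : T.Opens) :
    Function.Bijective (((trIso a b c h).hom.app G).app O') := by
  let e := (trIso a b c h).app G
  exact Function.bijective_iff_has_inverse.2 ⟨e.inv.app O',
    fun x => congrArg (fun f => Scheme.Modules.Hom.app f O' x) e.hom_inv_id,
    fun x => congrArg (fun f => Scheme.Modules.Hom.app f O' x) e.inv_hom_id⟩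

/-- Sections over an affine upstairs are generated by the transported ones. -/
theorem tr_induction (hG : Coh.IsQCoh G) {O : T₁.Opens} (hO : IsAffineOpen O) {O' : T.Opens}
    (hO' : IsAffineOpen O') (hle : O' ≤ a ⁻¹ᵁ O)
    (motive : Γ((Scheme.Modules.pullback c).obj G, O') → Prop) (zero : motive 0)
    (sec : ∀ x, motive (tr a b c h hle x))
    (smul : ∀ (r : Γ(T, O')) z, motive z → motive (r • z))
    (add : ∀ x y, motive x → motive y → motive (x + y)) (z) : motive z := by
  obtain ⟨w, rfl⟩ := (trIso_app_bijective a b c h G O').2 z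
  refine pullSec_induction a (QCoh.isQCoh_pullback b hG) hO' hO hle
    (fun w => motive (((trIso a b c h).hom.app G).app O' w)) ?_ sec (fun r w hw => ?_) (fun x y hx hy => ?_) w
  · rw [map_zero]; exact zero
  · rw [Scheme.Modules.Hom.app_smul]; exact smul r _ hw
  · rw [map_add]; exact add _ _ hx hy

/-- Composites of transports. -/
theorem tr_tr {T' : Scheme.{u}} (a' : T' ⟶ T) (c' : T' ⟶ T₀) (h' : a' ≫ c = c') (a'' : T' ⟶ T₁)
    (ha : a' ≫ a = a'') (h'' : a'' ≫ b = c') (hG : Coh.IsQCoh G) {U : T₀.Opens} (hU : IsAffineOpen U)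
    {O : T₁.Opens} (hO : IsAffineOpen O) (h₁ : O ≤ b ⁻¹ᵁ U) {O' : T.Opens} {O'' : T'.Opens}
    (hle : O' ≤ a ⁻¹ᵁ O) (hle' : O'' ≤ a' ⁻¹ᵁ O') (hle'' : O'' ≤ a'' ⁻¹ᵁ O)
    (z : Γ((Scheme.Modules.pullback b).obj G, O)) :
    tr a' c c' h' hle' (tr a b c h hle z) = tr a'' b c' h'' hle'' z := by
  subst ha
  refine pullSec_induction b hG hO hU h₁
    (fun z => tr a' c c' h' hle' (tr a b c h hle z) = tr (a' ≫ a) b c' h'' hle'' z) (by simp) (fun m => ?_)
    (fun r z hz => ?_) (fun x y hx hy => ?_) z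
  · have h₂ : O' ≤ c ⁻¹ᵁ U := h ▸ hle.trans ((Opens.map a.base).monotone h₁)
    have h₃ : O'' ≤ c' ⁻¹ᵁ U := h' ▸ hle'.trans ((Opens.map a'.base).monotone h₂)
    rw [tr_pullSec a b c h h₁ hle h₂, tr_pullSec a' c c' h' h₂ hle' h₃,
      tr_pullSec (a' ≫ a) b c' h'' h₁ hle'' h₃]
  · rw [tr_smul, tr_smul, tr_smul, hz, ← CommRingCat.comp_apply, Scheme.Hom.appLE_comp_appLE]
  · rw [map_add, map_add, map_add, hx, hy]

variable {F : T₀.Modules}

/-- Transport of morphisms along `a`. -/
def trHom (u : (Scheme.Modules.pullback b).obj F ⟶ (Scheme.Modules.pullback b).obj G) :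
    (Scheme.Modules.pullback c).obj F ⟶ (Scheme.Modules.pullback c).obj G :=
  ((trIso a b c h).app F).inv ≫ (Scheme.Modules.pullback a).map u ≫ ((trIso a b c h).app G).hom

theorem trHom_app_tr (u : (Scheme.Modules.pullback b).obj F ⟶ (Scheme.Modules.pullback b).obj G)
    {O : T₁.Opens} {O' : T.Opens} (hle : O' ≤ a ⁻¹ᵁ O)
    (x : Γ((Scheme.Modules.pullback b).obj F, O)) :
    (trHom a b c h u).app O' (tr a b c h hle x) = tr a b c h hle (u.app O x) := by
  refine Eq.trans ?_ (congrArg (((trIso a b c h).hom.app G).app O')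
    (ExistEasy.pullSec_natural a u hle x))
  exact congrArg (fun t => ((trIso a b c h).hom.app G).app O' (((Scheme.Modules.pullback a).map u).app O' t))
    (congrArg (fun f => Scheme.Modules.Hom.app f O' (QCoh.pullSec a _ hle x))
      ((trIso a b c h).hom_inv_id_app F))

theorem trHom_map (k : F ⟶ G) :
    trHom a b c h ((Scheme.Modules.pullback b).map k) = (Scheme.Modules.pullback c).map k := by
  rw [trHom, Iso.app_inv, Iso.app_hom, show (Scheme.Modules.pullback a).map ((Scheme.Modules.pullback b).map k) =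
    (Scheme.Modules.pullback b ⋙ Scheme.Modules.pullback a).map k from rfl,
    (trIso a b c h).hom.naturality k, Iso.inv_hom_id_app_assoc]

theorem tr_natural (k : F ⟶ G) {O : T₁.Opens} {O' : T.Opens} (hle : O' ≤ a ⁻¹ᵁ O)
    (x : Γ((Scheme.Modules.pullback b).obj F, O)) :
    ((Scheme.Modules.pullback c).map k).app O' (tr a b c h hle x) =
      tr a b c h hle (((Scheme.Modules.pullback b).map k).app O x) := by
  rw [← trHom_map a b c h k, trHom_app_tr]

section ext

omit a c h

variable (hF : Coh.IsQCoh F) {N : T₁.Modules}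
  (u v : (Scheme.Modules.pullback b).obj F ⟶ N)

include hF in
theorem app_eq_of_pullSec {U : T₀.Opens} (hU : IsAffineOpen U) {W : T₁.Opens} (hW : IsAffineOpen W)
    (hle : W ≤ b ⁻¹ᵁ U) (S : Set Γ(F, U)) (hS : Submodule.span Γ(T₀, U) S = ⊤)
    (hSuv : ∀ m ∈ S, u.app W (QCoh.pullSec b F hle m) = v.app W (QCoh.pullSec b F hle m))
    (z : Γ((Scheme.Modules.pullback b).obj F, W)) : u.app W z = v.app W z := by
  refine pullSec_induction b hF hW hU hle (fun z => u.app W z = v.app W z) (by rw [map_zero, map_zero])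
    (fun m => ?_)
    (fun r z hz => by rw [Scheme.Modules.Hom.app_smul, Scheme.Modules.Hom.app_smul, hz])
    (fun x y hx hy => by rw [map_add, map_add, hx, hy]) z
  have hm : m ∈ Submodule.span Γ(T₀, U) S := by rw [hS]; trivial
  induction hm using Submodule.span_induction with
  | mem y hy => exact hSuv y hy
  | zero => rw [pullSec_zero, map_zero, map_zero]
  | add x y _ _ hx hy => rw [QCoh.pullSec_add, map_add, map_add, hx, hy]
  | smul r x _ hx => rw [QCoh.pullSec_smul, Scheme.Modules.Hom.app_smul, Scheme.Modules.Hom.app_smul, hx]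

include hF in
/-- Morphisms out of an inverse image are determined by inverse images of generators. -/
theorem hom_ext_pullSec {ι : Type*} (U : ι → T₀.Opens) (hU : ∀ i, IsAffineOpen (U i))
    (hcov : ∀ x : T₀, ∃ i, x ∈ U i) (S : ∀ i, Set Γ(F, U i))
    (hS : ∀ i, Submodule.span Γ(T₀, U i) (S i) = ⊤)
    (huv : ∀ i, ∀ m ∈ S i,
      u.app (b ⁻¹ᵁ U i) (QCoh.pullSec b F le_rfl m) = v.app (b ⁻¹ᵁ U i) (QCoh.pullSec b F le_rfl m)) :
    u = v := by
  refine hom_ext_basis (fun W : T₁.Opens => IsAffineOpen W ∧ ∃ i, W ≤ b ⁻¹ᵁ U i) (fun V x hx => ?_) u v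
    fun W hW s => ?_
  · obtain ⟨i, hi⟩ := hcov (b x)
    obtain ⟨_, ⟨W, hW, rfl⟩, hxW, hWV⟩ := T₁.isBasis_affineOpens.exists_subset_of_mem_open
      (show x ∈ V ⊓ b ⁻¹ᵁ U i from ⟨hx, hi⟩) (V ⊓ b ⁻¹ᵁ U i).2
    exact ⟨W, ⟨hW, i, fun y hy => (hWV hy).2⟩, hxW, fun y hy => (hWV hy).1⟩
  · obtain ⟨hW, i, hle⟩ := hW
    refine app_eq_of_pullSec b hF u v (hU i) hW hle (S i) (hS i) (fun m hm => ?_) s
    have hr : ((Scheme.Modules.pullback b).obj F).presheaf.map (homOfLE hle).op (QCoh.pullSec b F le_rfl m) =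
        QCoh.pullSec b F hle m := by
      rw [ExistEasy.pullSec_res b F le_rfl hle le_rfl hle]
      exact congrArg _ (QCoh.map_id' _ _)
    rw [← hr, QCoh.map_app_comm u (homOfLE hle), QCoh.map_app_comm v (homOfLE hle), huv i m hm]

end ext

end Groth.Agent.LimMod
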