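import Groth.Agent.LimMod.Algebra
import Groth.Agent.LimMod.Tr
import Mathlib.AlgebraicGeometry.AffineTransitionLimit

/-!
# Sections of modules at the stages of a limit with affine transition maps
-/

universe u

set_option backward.isDefEq.respectTransparency false
set_option backward.isDefEq.respectTransparency.types false

open CategoryTheory CategoryTheory.Limits AlgebraicGeometry TopologicalSpace Opposite TensorProduct

noncomputable section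

namespace Groth.Agent.LimMod

open Groth.Agent

variable {I : Type u} [SmallCategory I] (D : I ⥤ Scheme.{u}) (c : Cone D)

theorem lim_le {i j : I} (φ : j ⟶ i) (U : (D.obj i).Opens) :
    c.π.app i ⁻¹ᵁ U ≤ c.π.app j ⁻¹ᵁ (D.map φ ⁻¹ᵁ U) := by
  rw [← Scheme.Hom.comp_preimage, c.w]

theorem stage_le {i j k : I} (ψ : k ⟶ j) (φ : j ⟶ i) (U : (D.obj i).Opens) :
    D.map (ψ ≫ φ) ⁻¹ᵁ U ≤ D.map ψ ⁻¹ᵁ (D.map φ ⁻¹ᵁ U) := by
  rw [← Scheme.Hom.comp_preimage, ← D.map_comp]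

/-- Transport of sections to the limit. -/
def trLim {i j : I} (φ : j ⟶ i) {G : (D.obj i).Modules} {O : (D.obj j).Opens} {O' : c.pt.Opens}
    (hle : O' ≤ c.π.app j ⁻¹ᵁ O) :
    Γ((Scheme.Modules.pullback (D.map φ)).obj G, O) →+ Γ((Scheme.Modules.pullback (c.π.app i)).obj G, O') :=
  tr (c.π.app j) (D.map φ) (c.π.app i) (c.w φ) hle

/-- Transport of sections to a further stage. -/
def trStage {i j k : I} (ψ : k ⟶ j) (φ : j ⟶ i) {G : (D.obj i).Modules} {O : (D.obj j).Opens}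
    {O' : (D.obj k).Opens} (hle : O' ≤ D.map ψ ⁻¹ᵁ O) :
    Γ((Scheme.Modules.pullback (D.map φ)).obj G, O) →+
      Γ((Scheme.Modules.pullback (D.map (ψ ≫ φ))).obj G, O') :=
  tr (D.map ψ) (D.map φ) (D.map (ψ ≫ φ)) (D.map_comp ψ φ).symm hle

variable (hc : IsLimit c) [IsCofiltered I] [∀ (i j : I) (f : i ⟶ j), IsAffineHom (D.map f)]

omit [IsCofiltered I] in
theorem isAffineOpen_stage {i j : I} (φ : j ⟶ i) {U : (D.obj i).Opens} (hU : IsAffineOpen U) :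
    IsAffineOpen (D.map φ ⁻¹ᵁ U) := hU.preimage _

include hc in
theorem isAffineOpen_lim {i : I} {U : (D.obj i).Opens} (hU : IsAffineOpen U) :
    IsAffineOpen (c.π.app i ⁻¹ᵁ U) := by
  haveI : ∀ {i j : I} (f : i ⟶ j), IsAffineHom (D.map f) := fun f => inferInstance
  haveI := isAffineHom_π_app D c hc i
  exact hU.preimage _

include hc in
/-- Every function on the limit of an affine open comes from a stage. -/
theorem exists_ring_lift {i : I} {U : (D.obj i).Opens} (hU : IsAffineOpen U)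
    (s : Γ(c.pt, c.π.app i ⁻¹ᵁ U)) :
    ∃ (j : I) (φ : j ⟶ i) (t : Γ(D.obj j, D.map φ ⁻¹ᵁ U)),
      (c.π.app j).appLE (D.map φ ⁻¹ᵁ U) (c.π.app i ⁻¹ᵁ U) (lim_le D c φ U) t = s := by
  haveI : ∀ {i j : I} (f : i ⟶ j), IsAffineHom (D.map f) := fun f => inferInstance
  haveI (j : Over i) : IsAffine ((opensDiagram D i U).obj j) := hU.preimage (D.map j.hom)
  let V : c.pt.Opens := c.π.app i ⁻¹ᵁ U
  obtain ⟨j, t, ht⟩ := exists_appTop_π_eq_of_isAffine_of_isLimit _ _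
    (isLimitOpensCone D c hc i U) (V.topIso.inv s)
  let t' : Γ((D.map j.hom ⁻¹ᵁ U).toScheme, ⊤) := t
  refine ⟨j.left, j.hom, (D.map j.hom ⁻¹ᵁ U).topIso.hom t', ?_⟩
  have h : ((c.π.app j.left).resLE (D.map j.hom ⁻¹ᵁ U) V (lim_le D c j.hom U)).appTop t' = V.topIso.inv s := ht
  rw [Scheme.Hom.appTop, Scheme.Hom.resLE_app_top, CommRingCat.comp_apply, CommRingCat.comp_apply] at h
  have h' := congrArg V.topIso.hom h
  simp only [← CommRingCat.comp_apply, Category.assoc, Iso.inv_hom_id, Category.comp_id, CommRingCat.id_apply] at h'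
  exact h'

include hc in
/-- A function on a stage vanishing in the limit vanishes at a later stage. -/
theorem exists_ring_eq_zero {i : I} {U : (D.obj i).Opens} (hU : IsAffineOpen U) {j : I} (φ : j ⟶ i)
    (t : Γ(D.obj j, D.map φ ⁻¹ᵁ U))
    (h : (c.π.app j).appLE (D.map φ ⁻¹ᵁ U) (c.π.app i ⁻¹ᵁ U) (lim_le D c φ U) t = 0) :
    ∃ (k : I) (ψ : k ⟶ j),
      (D.map ψ).appLE (D.map φ ⁻¹ᵁ U) (D.map (ψ ≫ φ) ⁻¹ᵁ U) (stage_le D ψ φ U) t = 0 := by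
  haveI : ∀ {i j : I} (f : i ⟶ j), IsAffineHom (D.map f) := fun f => inferInstance
  have he : c.π.app j ⁻¹ᵁ (D.map φ ⁻¹ᵁ U) = c.π.app i ⁻¹ᵁ U := by rw [← Scheme.Hom.comp_preimage, c.w]
  have h0 : (c.π.app j).app (D.map φ ⁻¹ᵁ U) t = 0 := by
    have := congrArg (c.pt.presheaf.map (homOfLE he.le).op) h
    rw [map_zero] at this
    rw [Scheme.Hom.app_eq_appLE, ← this]
    exact (ConcreteCategory.congr_hom (Scheme.Hom.appLE_map (c.π.app j) (lim_le D c φ U) (homOfLE he.le).op) t).symm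
  obtain ⟨k, ψ, hψ⟩ := exists_app_map_eq_zero_of_isLimit D c hc (isAffineOpen_stage D φ hU).isCompact t h0
  refine ⟨k, ψ, ?_⟩
  rw [Scheme.Hom.appLE, CommRingCat.comp_apply, hψ, map_zero]

variable {i : I} {G : (D.obj i).Modules}

omit [∀ (i j : I) (f : i ⟶ j), IsAffineHom (D.map f)] in
/-- Any two stages over `i` lie under a third, compatibly over `i`. -/
theorem exists_common {j k : I} (φ : j ⟶ i) (φ' : k ⟶ i) :
    ∃ (l : I) (f : l ⟶ j) (g : l ⟶ k), f ≫ φ = g ≫ φ' := by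
  obtain ⟨l, f, g, hfg⟩ := IsCofiltered.cospan φ φ'
  exact ⟨l, f, g, hfg⟩

include hc in
/-- A section of a module vanishing in the limit vanishes at some stage. -/
theorem exists_pullSec_eq_zero (hG : Coh.IsQCoh G) {U : (D.obj i).Opens} (hU : IsAffineOpen U)
    (x : Γ(G, U)) (h : QCoh.pullSec (c.π.app i) G (le_refl (c.π.app i ⁻¹ᵁ U)) x = 0) :
    ∃ (j : I) (φ : j ⟶ i), QCoh.pullSec (D.map φ) G (le_refl (D.map φ ⁻¹ᵁ U)) x = 0 := by
  let A : (Σ j : I, j ⟶ i) → Type u := fun p => Γ(D.obj p.1, D.map p.2 ⁻¹ᵁ U)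
  letI : ∀ p, Algebra Γ(D.obj i, U) (A p) := fun p =>
    ((D.map p.2).appLE U (D.map p.2 ⁻¹ᵁ U) le_rfl).hom.toAlgebra
  letI : Algebra Γ(D.obj i, U) Γ(c.pt, c.π.app i ⁻¹ᵁ U) :=
    ((c.π.app i).appLE U (c.π.app i ⁻¹ᵁ U) le_rfl).hom.toAlgebra
  have hcomm : ∀ {k l : I} (φ : k ⟶ i) (ψ : l ⟶ k) (r : Γ(D.obj i, U)),
      (D.map ψ).appLE _ _ (stage_le D ψ φ U) ((D.map φ).appLE U (D.map φ ⁻¹ᵁ U) le_rfl r) =
        (D.map (ψ ≫ φ)).appLE U (D.map (ψ ≫ φ) ⁻¹ᵁ U) le_rfl r := by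
    intro k l φ ψ r
    rw [← CommRingCat.comp_apply, Scheme.Hom.appLE_comp_appLE]
    simp only [← D.map_comp]
  let L : ∀ p, A p →ₐ[Γ(D.obj i, U)] Γ(c.pt, c.π.app i ⁻¹ᵁ U) := fun p =>
    AlgHom.mk ((c.π.app p.1).appLE (D.map p.2 ⁻¹ᵁ U) (c.π.app i ⁻¹ᵁ U) (lim_le D c p.2 U)).hom fun r => by
      show (c.π.app p.1).appLE _ _ (lim_le D c p.2 U) ((D.map p.2).appLE U _ le_rfl r) =
        (c.π.app i).appLE U _ le_rfl r
      rw [← CommRingCat.comp_apply, Scheme.Hom.appLE_comp_appLE]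
      simp only [c.w]
      rfl
  let trA : ∀ {k l : I} (φ : k ⟶ i) (ψ : l ⟶ k) (φ' : l ⟶ i) (_ : ψ ≫ φ = φ'),
      A ⟨k, φ⟩ →ₐ[Γ(D.obj i, U)] A ⟨l, φ'⟩ := fun {k l} φ ψ φ' hφ =>
    AlgHom.mk ((D.map ψ).appLE (D.map φ ⁻¹ᵁ U) (D.map φ' ⁻¹ᵁ U) (hφ ▸ stage_le D ψ φ U)).hom fun r => by
      subst hφ; exact hcomm φ ψ r
  have hL : ∀ {k l : I} (φ : k ⟶ i) (ψ : l ⟶ k) (φ' : l ⟶ i) (hφ : ψ ≫ φ = φ'),
      (L ⟨l, φ'⟩).comp (trA φ ψ φ' hφ) = L ⟨k, φ⟩ := by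
    intro k l φ ψ φ' hφ
    refine AlgHom.ext fun t => ?_
    show (c.π.app l).appLE _ _ (lim_le D c φ' U) ((D.map ψ).appLE _ _ _ t) =
      (c.π.app k).appLE _ _ (lim_le D c φ U) t
    rw [← CommRingCat.comp_apply, Scheme.Hom.appLE_comp_appLE]
    simp only [c.w]
    rfl
  haveI : Nonempty (Σ j : I, j ⟶ i) := ⟨⟨i, 𝟙 i⟩⟩
  letI : Module Γ(D.obj i, U) Γ((Scheme.Modules.pullback (c.π.app i)).obj G, c.π.app i ⁻¹ᵁ U) :=
    Module.compHom _ ((c.π.app i).appLE U (c.π.app i ⁻¹ᵁ U) le_rfl).hom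
  letI : Algebra Γ(D.obj i, U) Γ(((Functor.const I).obj c.pt).obj i, c.π.app i ⁻¹ᵁ U) :=
    ((c.π.app i).appLE U (c.π.app i ⁻¹ᵁ U) le_rfl).hom.toAlgebra
  haveI : IsScalarTower Γ(D.obj i, U) Γ(((Functor.const I).obj c.pt).obj i, c.π.app i ⁻¹ᵁ U)
      Γ((Scheme.Modules.pullback (c.π.app i)).obj G, c.π.app i ⁻¹ᵁ U) :=
    ⟨fun a b z => mul_smul (((c.π.app i).appLE U (c.π.app i ⁻¹ᵁ U) le_rfl).hom a) b z⟩
  obtain ⟨l, hl, hb⟩ := ExistEasy.exists_pullSec_baseChange (c.π.app i) hG (isAffineOpen_lim D c hc hU) hU le_rfl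
  have h1 : (1 : Γ(c.pt, c.π.app i ⁻¹ᵁ U)) ⊗ₜ[Γ(D.obj i, U)] x = 0 := by
    refine hb.equiv.injective ?_
    rw [IsBaseChange.equiv_tmul, one_smul, map_zero, hl, h]
  obtain ⟨⟨j, φ⟩, hj⟩ := exists_one_tmul_eq_zero A L (fun s => by
      obtain ⟨j, φ, t, ht⟩ := exists_ring_lift D c hc hU s
      exact ⟨⟨j, φ⟩, t, ht⟩)
    (fun p q => by
      obtain ⟨l, f, g, hfg⟩ := exists_common p.2 q.2
      exact ⟨⟨l, f ≫ p.2⟩, trA p.2 f _ rfl, trA q.2 g _ hfg.symm, hL p.2 f _ rfl, hL q.2 g _ hfg.symm⟩)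
    (fun p t ht => by
      obtain ⟨k, ψ, hψ⟩ := exists_ring_eq_zero D c hc hU p.2 t ht
      exact ⟨⟨k, ψ ≫ p.2⟩, trA p.2 ψ _ rfl, hL p.2 ψ _ rfl, hψ⟩)
    x h1
  refine ⟨j, φ, ?_⟩
  letI : Module Γ(D.obj i, U) Γ((Scheme.Modules.pullback (D.map φ)).obj G, D.map φ ⁻¹ᵁ U) :=
    Module.compHom _ ((D.map φ).appLE U (D.map φ ⁻¹ᵁ U) le_rfl).hom
  letI : Algebra Γ(D.obj i, U) Γ(D.obj j, D.map φ ⁻¹ᵁ U) :=
    ((D.map φ).appLE U (D.map φ ⁻¹ᵁ U) le_rfl).hom.toAlgebra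
  haveI : IsScalarTower Γ(D.obj i, U) Γ(D.obj j, D.map φ ⁻¹ᵁ U)
      Γ((Scheme.Modules.pullback (D.map φ)).obj G, D.map φ ⁻¹ᵁ U) :=
    ⟨fun a b c => mul_smul (((D.map φ).appLE U (D.map φ ⁻¹ᵁ U) le_rfl).hom a) b c⟩
  obtain ⟨l', hl', hb'⟩ := ExistEasy.exists_pullSec_baseChange (D.map φ) hG (isAffineOpen_stage D φ hU) hU le_rfl
  have h2 := congrArg hb'.equiv hj
  rw [map_zero, IsBaseChange.equiv_tmul, one_smul, hl'] at h2
  exact h2

include hc in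
/-- A section at a stage vanishing in the limit vanishes at a later stage. -/
theorem exists_trStage_eq_zero (hG : Coh.IsQCoh G) {j : I} (φ : j ⟶ i) {O : (D.obj j).Opens}
    (hO : IsAffineOpen O) (z : Γ((Scheme.Modules.pullback (D.map φ)).obj G, O))
    {O' : c.pt.Opens} (hO' : c.π.app j ⁻¹ᵁ O ≤ O') (hle : O' ≤ c.π.app j ⁻¹ᵁ O)
    (h : trLim D c φ hle z = 0) :
    ∃ (k : I) (ψ : k ⟶ j), ∀ {O'' : (D.obj k).Opens} (hle' : O'' ≤ D.map ψ ⁻¹ᵁ O),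
      trStage D ψ φ hle' z = 0 := by
  obtain rfl : O' = c.π.app j ⁻¹ᵁ O := le_antisymm hle hO'
  have h0 : QCoh.pullSec (c.π.app j) ((Scheme.Modules.pullback (D.map φ)).obj G) hle z = 0 :=
    (trIso_app_bijective _ _ _ (c.w φ) G _).1 (h.trans (map_zero _).symm)
  obtain ⟨k, ψ, hψ⟩ := exists_pullSec_eq_zero D c hc (QCoh.isQCoh_pullback _ hG) hO z h0
  refine ⟨k, ψ, fun {O''} hle' => ?_⟩
  rw [trStage, tr_apply]
  have := ExistEasy.pullSec_res (D.map ψ) ((Scheme.Modules.pullback (D.map φ)).obj G) (le_refl O) hle'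
    le_rfl hle' z
  rw [hψ, map_zero, show (homOfLE (le_refl O)).op = 𝟙 (op O) from Subsingleton.elim _ _,
    CategoryTheory.Functor.map_id] at this
  exact (congrArg _ this.symm).trans (map_zero _)

end Groth.Agent.LimMod
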