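import Mathlib.LinearAlgebra.TensorProduct.RightExactness
import Mathlib.LinearAlgebra.DirectSum.Finsupp

/-!
# Vanishing of tensors in a directed family of algebras
-/

universe u

open TensorProduct

namespace Groth.Agent.LimMod

variable {R : Type u} [CommRing R] {J : Type*} (A : J → Type u) [∀ j, CommRing (A j)]
  [∀ j, Algebra R (A j)] {A' : Type u} [CommRing A'] [Algebra R A'] (L : ∀ j, A j →ₐ[R] A')
  (surj : ∀ s : A', ∃ j t, L j t = s)
  (dir : ∀ j k, ∃ l, ∃ (f : A j →ₐ[R] A l) (g : A k →ₐ[R] A l), (L l).comp f = L j ∧ (L l).comp g = L k)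
  (zero : ∀ j t, L j t = 0 → ∃ l, ∃ f : A j →ₐ[R] A l, (L l).comp f = L j ∧ f t = 0)

include surj dir in
theorem exists_rTensor_eq [Nonempty J] {M : Type u} [AddCommMonoid M] [Module R M] (y : A' ⊗[R] M) :
    ∃ (j : J) (z : A j ⊗[R] M), (L j).toLinearMap.rTensor M z = y := by
  induction y with
  | zero => exact ⟨Classical.arbitrary J, 0, map_zero _⟩
  | tmul s m =>
    obtain ⟨j, t, rfl⟩ := surj s
    exact ⟨j, t ⊗ₜ m, rfl⟩
  | add a b ha hb =>
    obtain ⟨j, z, rfl⟩ := ha
    obtain ⟨k, w, rfl⟩ := hb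
    obtain ⟨l, f, g, hf, hg⟩ := dir j k
    refine ⟨l, f.toLinearMap.rTensor M z + g.toLinearMap.rTensor M w, ?_⟩
    rw [map_add, ← LinearMap.rTensor_comp_apply, ← LinearMap.rTensor_comp_apply, ← hf, ← hg]
    rfl

include zero in
theorem exists_forall_map_eq_zero {ι : Type*} (s : Finset ι) (j : J) (t : ι → A j)
    (h : ∀ i ∈ s, L j (t i) = 0) :
    ∃ l, ∃ f : A j →ₐ[R] A l, (L l).comp f = L j ∧ ∀ i ∈ s, f (t i) = 0 := by
  classical
  induction s using Finset.induction_on with
  | empty => exact ⟨j, AlgHom.id R _, rfl, fun i hi => absurd hi (Finset.notMem_empty i)⟩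
  | insert i s hi ih =>
    obtain ⟨l, f, hf, hs⟩ := ih fun k hk => h k (Finset.mem_insert_of_mem hk)
    have hli : L l (f (t i)) = 0 := (DFunLike.congr_fun hf (t i)).trans (h i (Finset.mem_insert_self i s))
    obtain ⟨m, g, hg, hgt⟩ := zero l _ hli
    refine ⟨m, g.comp f, by rw [← AlgHom.comp_assoc, hg, hf], fun k hk => ?_⟩
    rcases Finset.mem_insert.1 hk with rfl | hk
    · exact hgt
    · rw [AlgHom.comp_apply, hs k hk, map_zero]

include surj dir zero in
/-- An element killed in the union of a directed family of algebras is killed in one of them. -/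
theorem exists_one_tmul_eq_zero [Nonempty J] {M : Type u} [AddCommGroup M] [Module R M] (x : M)
    (h : (1 : A') ⊗ₜ[R] x = 0) : ∃ j, (1 : A j) ⊗ₜ[R] x = 0 := by
  classical
  let π : (M →₀ R) →ₗ[R] M := Finsupp.linearCombination R id
  have hπ : Function.Surjective π := Finsupp.linearCombination_id_surjective R M
  let K := LinearMap.ker π
  have hex : Function.Exact K.subtype π := LinearMap.exact_subtype_ker_map π
  let e : M →₀ R := Finsupp.single x 1
  have he : π e = x := by simp [π, e]
  obtain ⟨w, hw⟩ : ((1 : A') ⊗ₜ[R] e) ∈ Set.range (K.subtype.lTensor A') := by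
    refine (lTensor_exact (N := M →₀ R) (M := K) A' hex hπ _).1 ?_
    rw [LinearMap.lTensor_tmul, he, h]
  obtain ⟨j, z, rfl⟩ := exists_rTensor_eq A L surj dir w
  let d : A j ⊗[R] (M →₀ R) := (1 : A j) ⊗ₜ[R] e - K.subtype.lTensor (A j) z
  let c : M →₀ A j := finsuppScalarRight R R (A j) M d
  have hd : (L j).toLinearMap.rTensor (M →₀ R) d = 0 := by
    rw [map_sub, LinearMap.rTensor_tmul, AlgHom.toLinearMap_apply, map_one, sub_eq_zero, ← hw,
      ← LinearMap.comp_apply, ← LinearMap.comp_apply, LinearMap.lTensor_comp_rTensor,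
      LinearMap.rTensor_comp_lTensor]
  have hnat : ∀ {B C : Type u} [CommRing B] [Algebra R B] [CommRing C] [Algebra R C] (f : B →ₐ[R] C)
      (d : B ⊗[R] (M →₀ R)) (i : M), finsuppScalarRight R R C M (f.toLinearMap.rTensor _ d) i =
        f (finsuppScalarRight R R B M d i) := by
    intro B C _ _ _ _ f d i
    induction d with
    | zero => simp
    | tmul b p => simp
    | add a b ha hb => rw [map_add, map_add, map_add, Finsupp.add_apply, Finsupp.add_apply, map_add, ha, hb]
  obtain ⟨l, f, hf, hfc⟩ := exists_forall_map_eq_zero A L zero c.support j (fun i => c i) fun i _ => by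
    rw [← hnat (L j) d i, hd, map_zero, Finsupp.zero_apply]
  have hfd : f.toLinearMap.rTensor (M →₀ R) d = 0 := by
    refine (finsuppScalarRight R R (A l) M).injective (Finsupp.ext fun i => ?_)
    rw [hnat f d i, map_zero, Finsupp.zero_apply]
    by_cases hi : i ∈ c.support
    · exact hfc i hi
    · rw [show finsuppScalarRight R R (A j) M d i = 0 from Finsupp.notMem_support_iff.1 hi, map_zero]
  refine ⟨l, ?_⟩
  rw [map_sub, LinearMap.rTensor_tmul, AlgHom.toLinearMap_apply, map_one, sub_eq_zero,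
    ← LinearMap.comp_apply, LinearMap.rTensor_comp_lTensor, ← LinearMap.lTensor_comp_rTensor,
    LinearMap.comp_apply] at hfd
  have := congrArg (π.lTensor (A l)) hfd
  rwa [LinearMap.lTensor_tmul, he, ← LinearMap.lTensor_comp_apply, hex.linearMap_comp_eq_zero, LinearMap.lTensor_zero,
    LinearMap.zero_apply] at this

end Groth.Agent.LimMod
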