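import Mathlib.Algebra.Module.FinitePresentation
import Mathlib.RingTheory.Localization.Integer
import Mathlib.Algebra.Module.LocalizedModule.Basic
import Mathlib.RingTheory.Finiteness.Finsupp

/-!
# A finitely presented module agreeing with a given one after finitely many localizations
-/

universe u

namespace Groth.Agent.LimMod

variable {A : Type u} [CommRing A] (f : A) {Al : Type u} [CommRing Al] [Algebra A Al]
  [IsLocalization.Away f Al]

theorem exists_pow_smul_eq {n : ℕ} (v : Fin n → Al) :
    ∃ (N : ℕ) (w : Fin n → A), ∀ a, algebraMap A Al (w a) = f ^ N • v a := by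
  obtain ⟨⟨b, N, rfl⟩, hb⟩ := IsLocalization.exist_integer_multiples (Submonoid.powers f) Finset.univ v
  choose w hw using fun a => hb a (Finset.mem_univ a)
  exact ⟨N, w, hw⟩

theorem exists_pow_smul_eq_zero {n : ℕ} (z : Fin n → A) (hz : ∀ a, algebraMap A Al (z a) = 0) :
    ∃ N, f ^ N • z = 0 := by
  choose s hs using fun a => (IsLocalization.map_eq_zero_iff (Submonoid.powers f) Al (z a)).1 (hz a)
  choose k hk using fun a => (s a).2
  refine ⟨∑ a, k a, funext fun a => ?_⟩
  obtain ⟨r, hr⟩ := Nat.exists_eq_add_of_le (Finset.single_le_sum (f := k) (fun _ _ => Nat.zero_le _) (Finset.mem_univ a))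
  have : f ^ k a * z a = 0 := by
    rw [show f ^ k a = ↑(s a) from hk a]; exact hs a
  show f ^ (∑ a, k a) * z a = 0
  rw [hr, pow_add, mul_right_comm, this, zero_mul]

variable {M : Type u} [AddCommGroup M] [Module A M] {Nl : Type u} [AddCommGroup Nl] [Module A Nl]
  [Module Al Nl] [IsScalarTower A Al Nl] (res : M →ₗ[A] Nl) [IsLocalizedModule (Submonoid.powers f) res]

include f in
/-- Finitely many elements generate the localization of a module with finitely generated localization. -/
theorem exists_finset_generate [Module.Finite Al Nl] :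
    ∃ T : Finset M, Submodule.span Al (res '' T) = ⊤ := by
  classical
  obtain ⟨T, hT⟩ := Module.Finite.fg_top (R := Al) (M := Nl)
  choose g hg using fun y : Nl => IsLocalizedModule.surj (Submonoid.powers f) res y
  refine ⟨T.image fun y => (g y).1, top_unique ?_⟩
  rw [← hT, Submodule.span_le]
  intro y hy
  obtain ⟨k, hk⟩ := (g y).2.2
  have hu : IsUnit (algebraMap A Al (f ^ k)) := by
    rw [map_pow]; exact (IsLocalization.Away.algebraMap_isUnit f).pow k
  have h1 : algebraMap A Al (f ^ k) • y = res (g y).1 := by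
    rw [algebraMap_smul, show f ^ k = ↑(g y).2 from hk]; exact hg y
  have h2 : y = (↑hu.unit⁻¹ : Al) • res (g y).1 := by
    rw [← h1, smul_smul, IsUnit.val_inv_mul, one_smul]
  rw [h2]
  exact Submodule.smul_mem _ _ (Submodule.subset_span ⟨_, Finset.mem_image_of_mem _ hy, rfl⟩)

/-- Relations generating the kernel after localization. -/
theorem exists_relations [Module.FinitePresentation Al Nl] {n : ℕ} (π : (Fin n → A) →ₗ[A] M)
    (hπ : Submodule.span Al (Set.range fun a => res (π (Pi.single a 1))) = ⊤) :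
    ∃ K : Finset (Fin n → A), (∀ k ∈ K, π k = 0) ∧
      ∀ x, res (π x) = 0 → ∃ N, f ^ N • x ∈ Submodule.span A (K : Set (Fin n → A)) := by
  classical
  let πl : (Fin n → Al) →ₗ[Al] Nl := Fintype.linearCombination Al fun a => res (π (Pi.single a 1))
  have hsurj : Function.Surjective πl := by
    rw [← LinearMap.range_eq_top, Fintype.range_linearCombination]
    exact hπ
  have hcomp : ∀ x : Fin n → A, πl (fun a => algebraMap A Al (x a)) = res (π x) := fun x => by
    conv_rhs => rw [show x = ∑ a, x a • (Pi.single a (1 : A) : Fin n → A) from pi_eq_sum_univ' x]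
    rw [map_sum, map_sum, Fintype.linearCombination_apply]
    exact Finset.sum_congr rfl fun a _ => by rw [algebraMap_smul, map_smul, map_smul]
  obtain ⟨V, hV⟩ := Module.FinitePresentation.fg_ker πl hsurj
  have hk : ∀ v ∈ V, ∃ (k : Fin n → A) (N : ℕ), π k = 0 ∧ (fun a => algebraMap A Al (k a)) = f ^ N • v := by
    intro v hv
    obtain ⟨N, w, hw⟩ := exists_pow_smul_eq f v
    have h0 : res (π w) = 0 := by
      rw [← hcomp, show (fun a => algebraMap A Al (w a)) = f ^ N • v from funext hw, LinearMap.map_smul_of_tower]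
      have : v ∈ LinearMap.ker πl := hV ▸ Submodule.subset_span hv
      rw [LinearMap.mem_ker.1 this, smul_zero]
    obtain ⟨⟨s, k, rfl⟩, hs⟩ := (IsLocalizedModule.eq_zero_iff (Submonoid.powers f) res).1 h0
    refine ⟨f ^ k • w, k + N, by rw [map_smul]; exact hs, funext fun a => ?_⟩
    rw [Pi.smul_apply, Pi.smul_apply, smul_eq_mul, map_mul, hw, Algebra.smul_def, Algebra.smul_def,
      ← mul_assoc, ← map_mul, pow_add]
  choose k N hk0 hkv using hk
  refine ⟨V.attach.image fun v => k v.1 v.2, fun x hx => ?_, fun x hx => ?_⟩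
  · obtain ⟨v, -, rfl⟩ := Finset.mem_image.1 hx
    exact hk0 _ _
  · let S := Submodule.span A ((V.attach.image fun v => k v.1 v.2 : Finset _) : Set (Fin n → A))
    have key : ∀ v ∈ Submodule.span Al (V : Set (Fin n → Al)), ∀ c : Al,
        ∃ (N : ℕ) (w : Fin n → A), w ∈ S ∧ (fun a => algebraMap A Al (w a)) = f ^ N • c • v := by
      intro v hv
      induction hv using Submodule.span_induction with
      | mem v hv =>
        intro c
        obtain ⟨r, s', hs⟩ := IsLocalization.exists_mk'_eq (Submonoid.powers f) c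
        obtain ⟨q, hq⟩ := s'.2
        refine ⟨N v hv + q, r • k v hv,
          S.smul_mem r (Submodule.subset_span (Finset.mem_image.2 ⟨⟨v, hv⟩, Finset.mem_attach _ _, rfl⟩)), ?_⟩
        funext a
        have h1 := congrFun (hkv v hv) a
        have h2 : algebraMap A Al (f ^ q) * c = algebraMap A Al r := by
          rw [← hs, show f ^ q = ↑s' from hq, IsLocalization.mk'_spec']
        simp only [Pi.smul_apply] at h1 ⊢
        simp only [Algebra.smul_def, smul_eq_mul, map_mul, pow_add,
          show algebraMap A A r = r from rfl, show algebraMap Al Al c = c from rfl] at h1 ⊢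
        rw [h1, ← h2]
        ring
      | zero => exact fun c => ⟨0, 0, S.zero_mem, by funext a; simp⟩
      | add v v' _ _ hv hv' =>
        intro c
        obtain ⟨N₁, w₁, hw₁, e₁⟩ := hv c
        obtain ⟨N₂, w₂, hw₂, e₂⟩ := hv' c
        refine ⟨N₁ + N₂, f ^ N₂ • w₁ + f ^ N₁ • w₂, S.add_mem (S.smul_mem _ hw₁) (S.smul_mem _ hw₂), ?_⟩
        funext a
        have h₁ := congrFun e₁ a
        have h₂ := congrFun e₂ a
        simp only [Pi.smul_apply, Pi.add_apply] at h₁ h₂ ⊢
        simp only [Algebra.smul_def, smul_eq_mul, map_mul, map_add,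
          pow_add, show ∀ r : A, algebraMap A A r = r from fun r => rfl] at h₁ h₂ ⊢
        rw [h₁, h₂]
        ring
      | smul d v _ hv =>
        intro c
        obtain ⟨N₁, w, hw, e⟩ := hv (c * d)
        exact ⟨N₁, w, hw, by rw [e, mul_smul]⟩
    have hmem : (fun a => algebraMap A Al (x a)) ∈ LinearMap.ker πl :=
      LinearMap.mem_ker.2 ((hcomp x).trans hx)
    rw [← hV] at hmem
    obtain ⟨N₁, w, hw, e⟩ := key _ hmem 1
    rw [one_smul] at e
    obtain ⟨N₂, hN₂⟩ := exists_pow_smul_eq_zero f (Al := Al) (f ^ N₁ • x - w) fun a => by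
      have h₁ := congrFun e a
      simp only [Pi.smul_apply, Pi.sub_apply] at h₁ ⊢
      simp only [Algebra.smul_def, smul_eq_mul, map_mul, map_sub,
        show ∀ r : A, algebraMap A A r = r from fun r => rfl] at h₁ ⊢
      rw [h₁, sub_self]
    refine ⟨N₂ + N₁, ?_⟩
    rw [pow_add, mul_smul, show f ^ N₂ • f ^ N₁ • x = f ^ N₂ • w from by rwa [smul_sub, sub_eq_zero] at hN₂]
    exact S.smul_mem _ hw

/-- A finitely presented module agreeing with `M` after finitely many localizations. -/
theorem exists_fp_approx {A : Type u} [CommRing A] {M : Type u} [AddCommGroup M] [Module A M] {ι : Type*}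
    [Finite ι] (f : ι → A) (Al : ι → Type u) [∀ l, CommRing (Al l)] [∀ l, Algebra A (Al l)]
    [∀ l, IsLocalization.Away (f l) (Al l)] (Nl : ι → Type u) [∀ l, AddCommGroup (Nl l)]
    [∀ l, Module A (Nl l)] [∀ l, Module (Al l) (Nl l)] [∀ l, IsScalarTower A (Al l) (Nl l)]
    [∀ l, Module.FinitePresentation (Al l) (Nl l)]
    (res : ∀ l, M →ₗ[A] Nl l) [∀ l, IsLocalizedModule (Submonoid.powers (f l)) (res l)] :
    ∃ (P : Type u) (_ : AddCommGroup P) (_ : Module A P), Module.FinitePresentation A P ∧
      ∃ α : P →ₗ[A] M, (∀ l m, ∃ (N : ℕ), f l ^ N • m ∈ LinearMap.range α) ∧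
        ∀ l p, α p = 0 → ∃ N : ℕ, f l ^ N • p = 0 := by
  classical
  haveI := Fintype.ofFinite ι
  choose T hT using fun l => exists_finset_generate (f l) (Al := Al l) (res l)
  let T' : Finset M := Finset.univ.biUnion T
  let g : Fin T'.card → M := fun a => (T'.equivFin.symm a).1
  let π : (Fin T'.card → A) →ₗ[A] M := Fintype.linearCombination A g
  have hπe : ∀ a, π (Pi.single a 1) = g a := fun a => by
    rw [Fintype.linearCombination_apply_single, one_smul]
  have hspan : ∀ l, Submodule.span (Al l) (Set.range fun a => res l (π (Pi.single a 1))) = ⊤ := fun l => by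
    refine top_unique ((hT l).ge.trans (Submodule.span_mono ?_))
    rintro _ ⟨m, hm, rfl⟩
    refine ⟨T'.equivFin ⟨m, Finset.mem_biUnion.2 ⟨l, Finset.mem_univ l, hm⟩⟩, ?_⟩
    show res l (π _) = _
    rw [hπe]
    simp [g]
  choose K hK0 hKx using fun l => exists_relations (f l) (Al := Al l) (res l) π (hspan l)
  let S := Submodule.span A ((Finset.univ.biUnion K : Finset _) : Set (Fin T'.card → A))
  have hS : S ≤ LinearMap.ker π := Submodule.span_le.2 fun k hk => by
    obtain ⟨l, -, hl⟩ := Finset.mem_biUnion.1 hk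
    exact hK0 l k hl
  refine ⟨(Fin T'.card → A) ⧸ S, inferInstance, inferInstance,
    Module.finitePresentation_of_surjective S.mkQ S.mkQ_surjective (by rw [Submodule.ker_mkQ]; exact Submodule.fg_span (Finset.finite_toSet _)),
    S.liftQ π hS, fun l m => ?_, fun l p hp => ?_⟩
  · rw [Submodule.range_liftQ]
    have hm : res l m ∈ Submodule.span (Al l) (Set.range fun a => res l (π (Pi.single a 1))) := by
      rw [hspan l]; trivial
    rw [Submodule.mem_span_range_iff_exists_fun] at hm
    obtain ⟨c, hc⟩ := hm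
    obtain ⟨N, w, hw⟩ := exists_pow_smul_eq (f l) c
    have h0 : res l (f l ^ N • m - π w) = 0 := by
      rw [map_sub, map_smul, sub_eq_zero, ← hc, Finset.smul_sum]
      conv_rhs => rw [show w = ∑ a, w a • (Pi.single a (1 : A) : Fin T'.card → A) from pi_eq_sum_univ' w]
      rw [map_sum, map_sum]
      refine Finset.sum_congr rfl fun a _ => ?_
      rw [map_smul, map_smul, ← smul_assoc, ← hw, algebraMap_smul]
    obtain ⟨⟨s, q, rfl⟩, hs⟩ := (IsLocalizedModule.eq_zero_iff (Submonoid.powers (f l)) (res l)).1 h0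
    refine ⟨q + N, f l ^ q • w, ?_⟩
    change f l ^ q • (f l ^ N • m - π w) = 0 at hs
    rw [smul_sub, sub_eq_zero, smul_smul, ← pow_add] at hs
    rw [map_smul, ← hs]
  · obtain ⟨x, rfl⟩ := S.mkQ_surjective p
    have hp' : π x = 0 := hp
    obtain ⟨N, hN⟩ := hKx l x (by rw [hp', map_zero])
    refine ⟨N, (Submodule.Quotient.mk_eq_zero S).2 ?_⟩
    exact Submodule.span_mono (fun k hk => Finset.mem_coe.2 (Finset.mem_biUnion.2 ⟨l, Finset.mem_univ l, hk⟩)) hN

end Groth.Agent.LimMod
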