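import Groth.Agent.QCoh.ExtendFT
import Mathlib.CategoryTheory.Filtered.Basic

/-!
# A criterion for a filtered cocone of modules to be a colimit
-/

universe u

set_option backward.isDefEq.respectTransparency false
set_option backward.isDefEq.respectTransparency.types false

open CategoryTheory CategoryTheory.Limits AlgebraicGeometry TopologicalSpace Opposite

noncomputable section

namespace Groth.Agent.LimMod.ColimCrit

open Groth.Agent.QCoh

variable {X : Scheme.{u}} {J : Type u} [SmallCategory J] [IsFiltered J] {D : J ⥤ X.Modules}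
  (c : Cocone D)

omit [IsFiltered J] in
theorem eq_of_rs {T : X.Modules} {U : X.Opens} {a b : Γ(T, U)}
    (h : ∀ x ∈ U, ∃ (V : X.Opens) (i : V ≤ U), x ∈ V ∧ rs T i a = rs T i b) : a = b := by
  refine sub_eq_zero.1 (eq_zero_of_locally U _ fun x hx => ?_)
  obtain ⟨V, i, hxV, hV⟩ := h x hx
  exact ⟨V, homOfLE i, hxV, by show rs T i (a - b) = 0; rw [rs, map_sub]; exact sub_eq_zero.2 hV⟩

omit [IsFiltered J] in
theorem app_rs {M N : X.Modules} (φ : M ⟶ N) {U V : X.Opens} (i : V ≤ U) (a : Γ(M, U)) :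
    φ.app V (rs M i a) = rs N i (φ.app U a) :=
  map_app_comm φ (homOfLE i) a

omit [IsFiltered J] in
theorem ι_rs (t : Cocone D) (j : J) {U V : X.Opens} (i : V ≤ U) (a : Γ(D.obj j, U)) :
    (t.ι.app j).app V (rs (D.obj j) i a) = rs t.pt i ((t.ι.app j).app U a) :=
  app_rs (N := t.pt) (t.ι.app j) i a

variable
  (hsurj : ∀ (W : X.Opens) (a : Γ(c.pt, W)), ∀ x ∈ W, ∃ (V : X.Opens) (i : V ≤ W) (j : J) (z : Γ(D.obj j, V)),
    x ∈ V ∧ (c.ι.app j).app V z = rs c.pt i a)
  (hinj : ∀ (j : J) (W : X.Opens) (z : Γ(D.obj j, W)), (c.ι.app j).app W z = 0 → ∀ x ∈ W,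
    ∃ (V : X.Opens) (i : V ≤ W) (j' : J) (f : j ⟶ j'), x ∈ V ∧ (D.map f).app V (rs (D.obj j) i z) = 0)

/-- `b` is the image of `a` under the map induced by `s`. -/
def Rel (s : Cocone D) {W : X.Opens} (a : Γ(c.pt, W)) (b : Γ(s.pt, W)) : Prop :=
  ∀ (V : X.Opens) (i : V ≤ W) (j : J) (z : Γ(D.obj j, V)), (c.ι.app j).app V z = rs c.pt i a →
    (s.ι.app j).app V z = rs s.pt i b

include hinj in
theorem compat (s : Cocone D) {V : X.Opens} {j j' : J} (z : Γ(D.obj j, V)) (z' : Γ(D.obj j', V))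
    (h : (c.ι.app j).app V z = (c.ι.app j').app V z') :
    (s.ι.app j).app V z = (s.ι.app j').app V z' := by
  have key : ∀ (t : Cocone D) {j j'' : J} (f : j ⟶ j'') (z : Γ(D.obj j, V)),
      (t.ι.app j'').app V ((D.map f).app V z) = (t.ι.app j).app V z := fun t _ _ f z =>
    congrArg (fun φ => Scheme.Modules.Hom.app φ V z) (t.w f)
  let k := IsFiltered.max j j'
  let d := (D.map (IsFiltered.leftToMax j j')).app V z - (D.map (IsFiltered.rightToMax j j')).app V z'
  have hd : (c.ι.app k).app V d = 0 := by rw [map_sub, key, key, h, sub_self]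
  have : (s.ι.app k).app V d = 0 := by
    refine eq_zero_of_locally V _ fun x hx => ?_
    obtain ⟨V', i, k', f, hxV', hf⟩ := hinj k V d hd x hx
    refine ⟨V', homOfLE i, hxV', ?_⟩
    show rs s.pt i ((s.ι.app k).app V d) = 0
    rw [← ι_rs]
    have := congrArg (fun φ => Scheme.Modules.Hom.app φ V' (rs (D.obj k) i d)) (s.w f)
    refine this.symm.trans ?_
    show (s.ι.app k').app V' ((D.map f).app V' (rs (D.obj k) i d)) = 0
    rw [hf, map_zero]
  rw [map_sub, key, key, sub_eq_zero] at this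
  exact this

omit [IsFiltered J] in
include hsurj in
theorem rel_unique (s : Cocone D) {W : X.Opens} {a : Γ(c.pt, W)} {b b' : Γ(s.pt, W)} (h : Rel c s a b)
    (h' : Rel c s a b') : b = b' := by
  refine eq_of_rs fun x hx => ?_
  obtain ⟨V, i, j, z, hxV, hz⟩ := hsurj W a x hx
  exact ⟨V, i, hxV, (h V i j z hz).symm.trans (h' V i j z hz)⟩

include hsurj hinj in
theorem exists_rel (s : Cocone D) {W : X.Opens} (a : Γ(c.pt, W)) : ∃ b, Rel c s a b := by
  choose V i j z hxV hz using fun x : W => hsurj W a x.1 x.2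
  obtain ⟨b, hb, -⟩ := TopCat.Sheaf.existsUnique_gluing' ⟨s.pt.presheaf, s.pt.isSheaf⟩ V W
    (fun x => homOfLE (i x)) (fun x hx => Opens.mem_iSup.2 ⟨⟨x, hx⟩, hxV ⟨x, hx⟩⟩)
    (fun x => (s.ι.app (j x)).app (V x) (z x)) (fun x y => by
      show rs s.pt inf_le_left ((s.ι.app (j x)).app (V x) (z x)) =
        rs s.pt inf_le_right ((s.ι.app (j y)).app (V y) (z y))
      rw [← ι_rs, ← ι_rs]
      refine compat c hinj s _ _ ?_
      rw [ι_rs, ι_rs, hz, hz, rs_rs, rs_rs])
  refine ⟨b, fun U hU j' z' hz' => eq_of_rs (T := s.pt) fun x hx => ?_⟩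
  refine ⟨U ⊓ V ⟨x, hU hx⟩, inf_le_left, ⟨hx, hxV _⟩, ?_⟩
  have h1 : rs s.pt (inf_le_right : U ⊓ V ⟨x, hU hx⟩ ≤ _) (rs s.pt (i ⟨x, hU hx⟩) b) =
      rs s.pt inf_le_right ((s.ι.app (j ⟨x, hU hx⟩)).app _ (z ⟨x, hU hx⟩)) :=
    congrArg (rs s.pt inf_le_right) (hb ⟨x, hU hx⟩)
  rw [rs_rs] at h1
  rw [rs_rs, h1, ← ι_rs, ← ι_rs]
  refine compat c hinj s _ _ ?_
  rw [ι_rs, ι_rs, hz', hz, rs_rs, rs_rs]

include hsurj hinj in
/-- The criterion. -/
theorem nonempty_isColimit : Nonempty (IsColimit c) := by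
  let lift (s : Cocone D) (W : X.Opens) (a : Γ(c.pt, W)) : Γ(s.pt, W) := (exists_rel c hsurj hinj s a).choose
  have hl : ∀ (s : Cocone D) (W : X.Opens) (a : Γ(c.pt, W)), Rel c s a (lift s W a) :=
    fun s W a => (exists_rel c hsurj hinj s a).choose_spec
  have hadd : ∀ (s : Cocone D) (W : X.Opens) (a a' : Γ(c.pt, W)), lift s W (a + a') = lift s W a + lift s W a' := by
    intro s W a a'
    refine eq_of_rs fun x hx => ?_
    obtain ⟨V, i, j, z, hxV, hz⟩ := hsurj W a x hx
    obtain ⟨V', i', j', z', hxV', hz'⟩ := hsurj W a' x hx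
    let k := IsFiltered.max j j'
    let q := (D.map (IsFiltered.leftToMax j j')).app (V ⊓ V') (rs (D.obj j) inf_le_left z)
    let q' := (D.map (IsFiltered.rightToMax j j')).app (V ⊓ V') (rs (D.obj j') inf_le_right z')
    let hle : V ⊓ V' ≤ W := inf_le_left.trans i
    have key : ∀ {j j'' : J} (f : j ⟶ j'') (y : Γ(D.obj j, V ⊓ V')),
        (c.ι.app j'').app _ ((D.map f).app _ y) = (c.ι.app j).app _ y := fun f y =>
      congrArg (fun φ => Scheme.Modules.Hom.app φ (V ⊓ V') y) (c.w f)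
    have hq : (c.ι.app k).app _ q = rs c.pt hle a := by rw [key, ι_rs, hz, rs_rs]
    have hq' : (c.ι.app k).app _ q' = rs c.pt hle a' := by rw [key, ι_rs, hz', rs_rs]
    have hqq : (c.ι.app k).app _ (q + q') = rs c.pt hle (a + a') := by rw [map_add, hq, hq', rs, rs, rs, map_add]
    refine ⟨V ⊓ V', hle, ⟨hxV, hxV'⟩, ?_⟩
    rw [← hl s W (a + a') _ hle k (q + q') hqq, map_add, hl s W a _ hle k q hq, hl s W a' _ hle k q' hq',
      rs, rs, rs, map_add]
  have hsmul : ∀ (s : Cocone D) (W : X.Opens) (r : Γ(X, W)) (a : Γ(c.pt, W)),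
      lift s W (r • a) = r • lift s W a := by
    intro s W r a
    refine eq_of_rs fun x hx => ?_
    obtain ⟨V, i, j, z, hxV, hz⟩ := hsurj W a x hx
    refine ⟨V, i, hxV, ?_⟩
    have hq : (c.ι.app j).app V (rf X i r • z) = rs c.pt i (r • a) := by
      rw [Scheme.Modules.Hom.app_smul, hz, rs_smul]
    rw [← hl s W (r • a) V i j _ hq, Scheme.Modules.Hom.app_smul, hl s W a V i j z hz, rs_smul]
  have hnat : ∀ (s : Cocone D) (W W' : X.Opens) (h : W' ≤ W) (a : Γ(c.pt, W)),
      lift s W' (rs c.pt h a) = rs s.pt h (lift s W a) := by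
    intro s W W' h a
    refine rel_unique c hsurj s (hl s W' _) fun V i j z hz => ?_
    rw [rs_rs]
    rw [rs_rs] at hz
    exact hl s W a V _ j z hz
  let desc (s : Cocone D) : c.pt ⟶ s.pt :=
    ⟨PresheafOfModules.homMk
      { app := fun W => AddCommGrpCat.ofHom (AddMonoidHom.mk' (lift s W.unop) (hadd s W.unop))
        naturality := fun W W' i => by
          ext a
          exact hnat s W.unop W'.unop i.unop.le a }
      fun W r a => hsmul s W.unop r a⟩
  exact ⟨IsColimit.mk desc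
    (fun s j => Scheme.Modules.hom_ext _ _ fun W => by
      ext z
      show lift s W ((c.ι.app j).app W z) = (s.ι.app j).app W z
      refine ((hl s W _ W le_rfl j z (rs_self _ _).symm).trans (rs_self _ _)).symm)
    fun s m hm => Scheme.Modules.hom_ext _ _ fun W => by
      ext a
      show m.app W a = lift s W a
      refine rel_unique c hsurj s (fun V i j z hz => ?_) (hl s W a)
      rw [← app_rs, ← hz]
      exact (congrArg (fun φ => Scheme.Modules.Hom.app φ V z) (hm j)).symm⟩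

end Groth.Agent.LimMod.ColimCrit
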