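import Groth.Agent.LimMod.ColimCrit
import Groth.Agent.LimMod.Descend
import Groth.Agent.QcqsColim.FTSub
import Groth.Agent.H9ChowK.SigmaCoh
import Groth.Agent.QuotRep.CoreProper

/-!
# Quasi-coherent modules as filtered colimits of finitely presented ones
-/

universe u

set_option backward.isDefEq.respectTransparency false
set_option backward.isDefEq.respectTransparency.types false

open CategoryTheory CategoryTheory.Limits AlgebraicGeometry TopologicalSpace Opposite

noncomputable section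

namespace Groth.Agent.LimMod.FPC

open Groth.Agent Groth.Agent.QCoh Groth.Agent.QcqsColim

variable {X : Scheme.{u}}

/-- Submodules of finite type and maps: some submodule of finite type contains the image. -/
theorem exists_ft_ge [CompactSpace X] [QuasiSeparatedSpace X] {K K' : X.Modules} (hK' : Coh.IsQCoh K') (ψ : K ⟶ K')
    (N : FTIndex K) : ∃ N' : FTIndex K', ∀ (O : X.Opens) (s : Γ(K, O)), s ∈ N.1.mem O → ψ.app O s ∈ N'.1.mem O := by
  classical
  choose V hV hxV _ T hT using fun x : X => N.2 x trivial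
  obtain ⟨F, hF⟩ := isCompact_univ.elim_finite_subcover (fun x => (V x : Set X)) (fun x => (V x).2)
    (fun x _ => Set.mem_iUnion.2 ⟨x, hxV x⟩)
  choose M hM hTM using fun x => exists_ftOn_contains hK' (hV x) (extStep_qcqs (hV x).isCompact)
    (ψ.app (V x) '' T x) ((hT x).fin.image _)
  obtain ⟨N', hN'⟩ := Directed.finset_le (f := fun a : FTIndex K' => a) (fun a b => exists_ge_ge a b)
    (F.image fun x => (⟨M x, hM x⟩ : FTIndex K'))
  refine ⟨N', fun O s hs => N'.1.of_locally O _ fun y hy => ?_⟩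
  obtain ⟨x, hxF, hyx⟩ := Set.mem_iUnion₂.1 (hF (Set.mem_univ y))
  have hle : ∀ O, (M x).mem O ≤ N'.1.mem O := hN' ⟨M x, hM x⟩ (Finset.mem_image_of_mem _ hxF)
  obtain ⟨P, hP, hyP, hPs⟩ := (hT x).gen (O ⊓ V x) inf_le_right (rs K inf_le_left s)
    (N.1.map_mem inf_le_left hs) y ⟨hy, hyx⟩
  rw [rs_rs] at hPs
  refine ⟨P, hP.trans inf_le_left, hyP, ?_⟩
  show rs K' (hP.trans inf_le_left) (ψ.app O s) ∈ N'.1.mem P
  rw [← ColimCrit.app_rs]
  suffices key : ∀ w, w ∈ Submodule.span Γ(X, P) (rs K (hP.trans inf_le_right) '' T x) → ψ.app P w ∈ N'.1.mem P from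
    key _ hPs
  intro w hw
  induction hw using Submodule.span_induction with
  | mem w hw =>
    obtain ⟨t, ht, rfl⟩ := hw
    rw [ColimCrit.app_rs]
    exact N'.1.map_mem _ (hle _ (hTM x ⟨t, ht, rfl⟩))
  | zero => rw [map_zero]; exact zero_mem _
  | add a b _ _ ha hb => rw [map_add]; exact add_mem ha hb
  | smul r a _ ha => rw [Scheme.Modules.Hom.app_smul]; exact Submodule.smul_mem _ _ ha

section

variable {F : X.Modules} {Λ : Type u} [Preorder Λ] (P : Λ ⥤ X.Modules) (p : P ⟶ (Functor.const Λ).obj F)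

/-- The map of `P l` to `F`. -/
def pm (l : Λ) : P.obj l ⟶ F := p.app l

theorem pm_map {l m : Λ} (f : l ⟶ m) : P.map f ≫ pm P p m = pm P p l :=
  (p.naturality f).trans (Category.comp_id _)

/-- The kernels of the maps to `F`. -/
def ker (l : Λ) : X.Modules := kernel (pm P p l)

/-- The maps of kernels. -/
def kerMap {l m : Λ} (f : l ⟶ m) : ker P p l ⟶ ker P p m :=
  kernel.lift _ (kernel.ι (pm P p l) ≫ P.map f) (by
    rw [Category.assoc, pm_map]; exact kernel.condition _)

theorem kerMap_ι {l m : Λ} (f : l ⟶ m) :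
    kerMap P p f ≫ kernel.ι (pm P p m) = kernel.ι (pm P p l) ≫ P.map f :=
  kernel.lift_ι _ _ _

theorem kerMap_id (l : Λ) : kerMap P p (𝟙 l) = 𝟙 _ := by
  rw [← cancel_mono (kernel.ι (pm P p l)), kerMap_ι, P.map_id, Category.comp_id]
  exact (Category.id_comp _).symm

theorem kerMap_comp {l m n : Λ} (f : l ⟶ m) (g : m ⟶ n) :
    kerMap P p (f ≫ g) = kerMap P p f ≫ kerMap P p g := by
  rw [← cancel_mono (kernel.ι (pm P p n)), kerMap_ι, Category.assoc, kerMap_ι, reassoc_of% (kerMap_ι P p f),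
    P.map_comp]

/-- The indices: a stage and a submodule of finite type of the relations. -/
structure Idx : Type u where
  /-- The stage. -/
  l : Λ
  /-- The relations. -/
  N : FTIndex (ker P p l)

instance : Preorder (Idx P p) where
  le a b := ∃ h : a.l ≤ b.l, ∀ (O : X.Opens) (s : Γ(ker P p a.l, O)), s ∈ a.N.1.mem O →
    (kerMap P p (homOfLE h)).app O s ∈ b.N.1.mem O
  le_refl a := ⟨le_rfl, fun O s hs => by
    rw [Subsingleton.elim (homOfLE (le_refl a.l)) (𝟙 _), kerMap_id]; exact hs⟩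
  le_trans a b c hab hbc := ⟨hab.1.trans hbc.1, fun O s hs => by
    rw [← homOfLE_comp hab.1 hbc.1, kerMap_comp]
    exact hbc.2 O _ (hab.2 O s hs)⟩

/-- The relations at a stage. -/
def rel (a : Idx P p) : a.N.1.toModules ⟶ P.obj a.l := a.N.1.ι ≫ kernel.ι (pm P p a.l)

theorem rel_desc {a b : Idx P p} (h : a ≤ b) :
    rel P p a ≫ P.map (homOfLE h.1) ≫ cokernel.π (rel P p b) = 0 := by
  refine Scheme.Modules.hom_ext _ _ fun O => ?_
  ext z
  obtain ⟨t, ht⟩ := b.N.1.exists_app_eq (h.2 O _ (a.N.1.ι_app_mem O z))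
  have e : (P.map (homOfLE h.1)).app O ((rel P p a).app O z) = (rel P p b).app O t := by
    refine (congrArg (fun φ => Scheme.Modules.Hom.app φ O (a.N.1.ι.app O z))
      (kerMap_ι P p (homOfLE h.1)).symm).trans ?_
    show (kernel.ι (pm P p b.l)).app O ((kerMap P p _).app O (a.N.1.ι.app O z)) = _
    rw [← ht]
    rfl
  show (cokernel.π (rel P p b)).app O ((P.map (homOfLE h.1)).app O ((rel P p a).app O z)) = 0
  rw [e]
  exact congrArg (fun φ => Scheme.Modules.Hom.app φ O t) (cokernel.condition (rel P p b))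

/-- The finitely presented stages. -/
def quots : Idx P p ⥤ X.Modules where
  obj a := cokernel (rel P p a)
  map {a b} f := cokernel.desc _ (P.map (homOfLE (leOfHom f).1) ≫ cokernel.π _) (rel_desc P p (leOfHom f))
  map_id a := by
    rw [← cancel_epi (cokernel.π (rel P p a)), cokernel.π_desc, Category.comp_id]
    show P.map _ ≫ _ = _
    rw [Subsingleton.elim (homOfLE (leOfHom (𝟙 a)).1) (𝟙 _), P.map_id, Category.id_comp]
  map_comp {a b c} f g := by
    rw [← cancel_epi (cokernel.π (rel P p a)), cokernel.π_desc, cokernel.π_desc_assoc, Category.assoc,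
      cokernel.π_desc, ← Category.assoc, ← P.map_comp]
    rfl

/-- The map of the stages to `F`. -/
def quotsCocone : Cocone (quots P p) where
  pt := F
  ι :=
    { app := fun a => cokernel.desc _ (pm P p a.l) (by rw [rel, Category.assoc, kernel.condition, comp_zero])
      naturality := fun a b f => by
        refine Eq.trans ?_ (Category.comp_id _).symm
        show cokernel.desc _ _ _ ≫ cokernel.desc _ _ _ = cokernel.desc _ _ _
        rw [← cancel_epi (cokernel.π (rel P p a)), cokernel.π_desc_assoc, Category.assoc, cokernel.π_desc,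
          cokernel.π_desc, pm_map] }

variable [CompactSpace X] [QuasiSeparatedSpace X] [IsDirected Λ (· ≤ ·)] [Nonempty Λ]

instance : Nonempty (Idx P p) := ⟨⟨Classical.arbitrary Λ, Classical.arbitrary _⟩⟩

variable (hP : ∀ l, CohB1.IsFP (P.obj l)) (hF : Coh.IsQCoh F)

include hP hF in
omit [IsDirected Λ (· ≤ ·)] [Nonempty Λ] [CompactSpace X] [QuasiSeparatedSpace X] in
theorem isQCoh_ker (l : Λ) : Coh.IsQCoh (ker P p l) :=
  QCoh.isQCoh_kernel (QCoh.isQCoh_of_isFP (hP l)) hF _

include hP hF in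
omit [Nonempty Λ] in
theorem directed : IsDirected (Idx P p) (· ≤ ·) := ⟨fun a b => by
  obtain ⟨m, ha, hb⟩ := exists_ge_ge a.l b.l
  obtain ⟨A, hA⟩ := exists_ft_ge (isQCoh_ker P p hP hF m) (kerMap P p (homOfLE ha)) a.N
  obtain ⟨B, hB⟩ := exists_ft_ge (isQCoh_ker P p hP hF m) (kerMap P p (homOfLE hb)) b.N
  obtain ⟨C, hAC, hBC⟩ := exists_ge_ge A B
  exact ⟨⟨m, C⟩, ⟨ha, fun O s hs => hAC O (hA O s hs)⟩, ⟨hb, fun O s hs => hBC O (hB O s hs)⟩⟩⟩

include hP hF in
omit [CompactSpace X] [QuasiSeparatedSpace X] [IsDirected Λ (· ≤ ·)] [Nonempty Λ] in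
theorem isFP_quots (a : Idx P p) : CohB1.IsFP ((quots P p).obj a) :=
  LimMod.isFP_cokernel (isQCoh_of_ftOn (isQCoh_ker P p hP hF a.l) a.N.2)
    (isFT_of_ftOn (isQCoh_ker P p hP hF a.l) a.N.2) (hP a.l) _

omit [CompactSpace X] [QuasiSeparatedSpace X] [IsDirected Λ (· ≤ ·)] [Nonempty Λ] in
theorem π_quots_ι (a : Idx P p) : cokernel.π (rel P p a) ≫ (quotsCocone P p).ι.app a = pm P p a.l :=
  cokernel.π_desc _ _ _

variable (hsurj : ∀ (W : X.Opens) (s : Γ(F, W)), ∀ x ∈ W, ∃ (V : X.Opens) (i : V ≤ W) (l : Λ)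
  (z : Γ(P.obj l, V)), x ∈ V ∧ (pm P p l).app V z = rs F i s)

include hP hF hsurj in
theorem nonempty_isColimit : Nonempty (IsColimit (quotsCocone P p)) := by
  haveI := directed P p hP hF
  refine ColimCrit.nonempty_isColimit _ (fun W s x hx => ?_) fun a W z hz x hx => ?_
  · obtain ⟨V, i, l, t, hxV, ht⟩ := hsurj W s x hx
    let a : Idx P p := ⟨l, Classical.arbitrary _⟩
    refine ⟨V, i, a, (cokernel.π (rel P p a)).app V t, hxV, Eq.trans ?_ ht⟩
    exact congrArg (fun φ => Scheme.Modules.Hom.app φ V t) (π_quots_ι P p a)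
  · obtain ⟨V, i, hxV, t, ht⟩ := exists_local_preimage (cokernel.π (rel P p a)) z hx
    obtain ⟨W', hW', hxW', hle⟩ := exists_isAffineOpen_mem_and_subset (X := X) (x := x) (U := V) hxV
    have hle' : W' ≤ V := hle
    have h1 : (pm P p a.l).app V t = rs F i (((quotsCocone P p).ι.app a).app W z) := by
      rw [← π_quots_ι P p a]
      show ((quotsCocone P p).ι.app a).app V ((cokernel.π (rel P p a)).app V t) = _
      rw [ht]
      exact ColimCrit.ι_rs (quotsCocone P p) a i z
    have hpt : (pm P p a.l).app W' (rs (P.obj a.l) hle' t) = 0 := by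
      rw [ColimCrit.app_rs, h1, hz, rs, rs, map_zero]
      exact map_zero _
    obtain ⟨w, hw⟩ := exists_kernel_lift (pm P p a.l) W' _ hpt
    obtain ⟨M, hM, hwM⟩ := exists_ftOn_contains (isQCoh_ker P p hP hF a.l) hW'
      (extStep_qcqs hW'.isCompact) {(show Γ(ker P p a.l, W') from w)} (Set.finite_singleton _)
    obtain ⟨C, hAC, hMC⟩ := exists_ge_ge a.N (⟨M, hM⟩ : FTIndex (ker P p a.l))
    let b : Idx P p := ⟨a.l, C⟩
    have hab : a ≤ b := ⟨le_rfl, fun O s hs => by
      rw [Subsingleton.elim (homOfLE (le_refl a.l)) (𝟙 _), kerMap_id]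
      exact hAC O hs⟩
    refine ⟨W', hle'.trans i, b, homOfLE hab, hxW', ?_⟩
    obtain ⟨t', ht'⟩ := C.1.exists_app_eq (hMC W' (hwM rfl))
    have hz' : rs ((quots P p).obj a) (hle'.trans i) z =
        (cokernel.π (rel P p a)).app W' (rs (P.obj a.l) hle' t) := by
      rw [ColimCrit.app_rs, ht, rs_rs]
      rfl
    rw [hz']
    show (cokernel.π (rel P p a) ≫ (quots P p).map (homOfLE hab)).app W' _ = 0
    rw [show cokernel.π (rel P p a) ≫ (quots P p).map (homOfLE hab) =
      P.map (homOfLE hab.1) ≫ cokernel.π (rel P p b) from cokernel.π_desc _ _ _,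
      Subsingleton.elim (homOfLE hab.1) (𝟙 _), P.map_id, Category.id_comp, ← hw]
    rw [← ht']
    exact congrArg (fun φ => Scheme.Modules.Hom.app φ W' t') (cokernel.condition (rel P p b))

end

/-- A finite coproduct of finitely presented modules is finitely presented. -/
theorem isFP_sigma [QuasiSeparatedSpace X] {α : Type u} (hα : Finite α) :
    ∀ (G : α → X.Modules), (∀ a, CohB1.IsFP (G a)) → CohB1.IsFP (∐ G) := by
  haveI := hα
  refine Finite.induction_empty_option (P := fun α : Type u =>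
    ∀ (G : α → X.Modules), (∀ a, CohB1.IsFP (G a)) → CohB1.IsFP (∐ G)) ?_ ?_ ?_ α
  · intro α β e ih G hG
    exact QuotRep.isFP_of_iso' (Sigma.whiskerEquiv (g := G) e fun a => Iso.refl _) (ih (fun a => G (e a)) fun a => hG (e a))
  · intro G hG
    have h0 : 𝟙 (∐ G) = 0 := Sigma.hom_ext _ _ fun a => a.elim
    refine QCoh.isFP_of_finitePresentation (H9ChowK.isQCoh_sigma G fun a => a.elim)
      (fun V : X.affineOpens => V.1) (iSup_affineOpens_eq_top X) (fun V => V.2) fun V => ?_
    haveI : Subsingleton Γ(∐ G, V.1) := subsingleton_of_forall_eq 0 fun z =>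
      congrArg (fun φ : ∐ G ⟶ ∐ G => Scheme.Modules.Hom.app φ V.1 z) h0
    infer_instance
  · intro α _ ih G hG
    let e : G none ⊞ (∐ fun a => G (some a)) ≅ ∐ G :=
      { hom := biprod.desc (Sigma.ι G none) (Sigma.desc fun a => Sigma.ι G (some a))
        inv := Sigma.desc fun a => match a with
          | none => biprod.inl
          | some a => Sigma.ι (fun a => G (some a)) a ≫ biprod.inr
        hom_inv_id := by
          apply biprod.hom_ext'
          · simp
          · apply Sigma.hom_ext; intro a; simp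
        inv_hom_id := by
          apply Sigma.hom_ext; intro a
          cases a <;> simp }
    exact QuotRep.isFP_of_iso' e (isFP_biprod (hG none) (ih (fun a => G (some a)) fun a => hG (some a)))

end Groth.Agent.LimMod.FPC
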