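import Groth.Agent.LimMod.FPExtend
import Groth.Agent.LimMod.Descend
import Groth.Agent.KFlatLib.Scheme.ExtZero
import Groth.Agent.CohGabLib.RestrictLoc
import Groth.Agent.QCoh.ExtendFT
import Groth.Agent.FibDepth.Local
import Groth.Agent.QuotRep.CoreProper
import Mathlib

/-!
# Extending finitely presented modules together with a map
-/

attribute [-instance] CategoryTheory.catToReflQuiver

universe u

set_option backward.isDefEq.respectTransparency false
set_option backward.isDefEq.respectTransparency.types false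

open CategoryTheory CategoryTheory.Limits AlgebraicGeometry TopologicalSpace Opposite

noncomputable section

namespace Groth.Agent.LimMod

open Groth.Agent

variable {X : Scheme.{u}}

/-- Finite presentation of the restriction gives finite presentation near the points of the open. -/
theorem fpOn_of_isFP_restrict {F : X.Modules} {U : X.Opens} (h : CohB1.IsFP (F.restrict U.ι)) : FPOn F U := by
  intro x hx
  obtain ⟨_, ⟨V, hV, rfl⟩, hxV, -⟩ := (U : Scheme.{u}).isBasis_affineOpens.exists_subset_of_mem_open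
    (Set.mem_univ (⟨x, hx⟩ : U)) isOpen_univ
  refine ⟨U.ι ''ᵁ V, hV.image_of_isOpenImmersion U.ι, ⟨⟨x, hx⟩, hxV, rfl⟩, ?_, ?_⟩
  · rintro _ ⟨q, -, rfl⟩
    exact q.2
  · have h0 := QCoh.finitePresentation_of_isFP h hV
    convert h0 using 1
    all_goals first
      | rfl
      | (apply Module.ext'
         intro r m
         exact (congrArg (fun z : Γ(X, U.ι ''ᵁ V) => z • (m : Γ(F, U.ι ''ᵁ V)))
           (show (U.ι.appIso V).inv r = r by rw [Scheme.Opens.ι_appIso]; rfl)).symm)
      | skip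

/-- Extension of a finitely presented module on a quasi-compact open together with a map. -/
theorem exists_fp_extend_map [CompactSpace X] [QuasiSeparatedSpace X] {F : X.Modules} (hF : Coh.IsQCoh F)
    {U : X.Opens} (hU : IsCompact (U : Set X)) {G : (U : Scheme.{u}).Modules} (hG : CohB1.IsFP G)
    (φ : G ⟶ F.restrict U.ι) :
    ∃ (G' : X.Modules) (φ' : G' ⟶ F) (e : G'.restrict U.ι ≅ G), CohB1.IsFP G' ∧
      e.hom ≫ φ = (Scheme.Modules.restrictFunctor U.ι).map φ' := by
  haveI := QCoh.quasiCompact_ι_of_compact U hU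
  let R := Scheme.Modules.restrictFunctor U.ι
  let J := Scheme.Modules.pushforward U.ι
  let adj := Scheme.Modules.restrictAdjunction U.ι
  have hFU : Coh.IsQCoh (F.restrict U.ι) := QCoh.isQCoh_restrict U.ι hF
  have hjG : Coh.IsQCoh (J.obj G) := QCoh.isQCoh_pushforward U.ι (QCoh.isQCoh_of_isFP hG)
  have hjF : Coh.IsQCoh (J.obj (R.obj F)) := QCoh.isQCoh_pushforward U.ι hFU
  let f : J.obj G ⊞ F ⟶ J.obj (R.obj F) := biprod.desc (J.map φ) (-adj.unit.app F)
  have hsum : Coh.IsQCoh (J.obj G ⊞ F) := QCoh.isQCoh_X₂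
    (S := ShortComplex.mk (biprod.inl : J.obj G ⟶ J.obj G ⊞ F) biprod.snd biprod.inl_snd)
    (ShortComplex.Splitting.ofHasBinaryBiproduct _ _).shortExact hjG hF
  have hP : Coh.IsQCoh (kernel f) := QCoh.isQCoh_kernel hsum hjF f
  let a : kernel f ⟶ J.obj G := kernel.ι f ≫ biprod.fst
  let b : kernel f ⟶ F := kernel.ι f ≫ biprod.snd
  have hsq : a ≫ J.map φ = b ≫ adj.unit.app F := by
    have : kernel.ι f ≫ (biprod.fst ≫ J.map φ + biprod.snd ≫ (-adj.unit.app F)) = 0 :=
      (congrArg (kernel.ι f ≫ ·) biprod.desc_eq).symm.trans (kernel.condition f)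
    rw [Preadditive.comp_add, Preadditive.comp_neg, Preadditive.comp_neg, add_neg_eq_zero] at this
    simpa [a, b] using this
  have hu : IsIso (R.map (adj.unit.app F)) := by
    have : R.map (adj.unit.app F) ≫ adj.counit.app (R.obj F) = 𝟙 _ := adj.left_triangle_components F
    exact IsIso.of_isIso_fac_right this
  have ha : IsIso (R.map a) := by
    refine CohGabLib.isIso_restrict_of_bijective a fun V hV _ => ⟨?_, fun g => ?_⟩
    · intro z z' hz
      haveI := hu
      have h2 : b.app V z = b.app V z' := by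
        refine (CohGabLib.bijective_app_of_isIso_restrict (adj.unit.app F) hV).1 ?_
        refine ((congr(($hsq).app V z) : _).symm.trans ?_).trans (congr(($hsq).app V z') : _)
        exact congrArg ((J.map φ).app V) hz
      refine QCoh.app_injective (kernel.ι f) V ?_
      have h1 : ∀ w, (biprod.inl : J.obj G ⟶ J.obj G ⊞ F).app V (a.app V w) + (biprod.inr : F ⟶ J.obj G ⊞ F).app V (b.app V w) = (kernel.ι f).app V w := fun w =>
        congrArg (fun ψ : J.obj G ⊞ F ⟶ _ => Scheme.Modules.Hom.app ψ V ((kernel.ι f).app V w)) biprod.total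
      rw [← h1 z, ← h1 z', h2, hz]
    · haveI := hu
      obtain ⟨s, hs⟩ := (CohGabLib.bijective_app_of_isIso_restrict (adj.unit.app F) hV).2 ((J.map φ).app V g)
      obtain ⟨k, hk⟩ := CohGabLib.exists_kernel_section f
        ((biprod.inl : J.obj G ⟶ J.obj G ⊞ F).app V g + (biprod.inr : F ⟶ J.obj G ⊞ F).app V s) (by
          rw [map_add]
          refine (congrArg₂ (· + ·) (congrArg (fun ψ => Scheme.Modules.Hom.app ψ V g) (biprod.inl_desc (J.map φ) (-adj.unit.app F)))
            (congrArg (fun ψ => Scheme.Modules.Hom.app ψ V s) (biprod.inr_desc (J.map φ) (-adj.unit.app F)))).trans ?_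
          exact (congrArg (fun w => (J.map φ).app V g + -w) hs).trans (add_neg_cancel _))
      refine ⟨k, ?_⟩
      show (biprod.fst : J.obj G ⊞ F ⟶ J.obj G).app V ((kernel.ι f).app V k) = g
      rw [hk, map_add]
      refine (congrArg₂ (· + ·) (congrArg (fun ψ => Scheme.Modules.Hom.app ψ V g) biprod.inl_fst)
        (congrArg (fun ψ => Scheme.Modules.Hom.app ψ V s) biprod.inr_fst)).trans ?_
      show g + 0 = g
      rw [add_zero]
  let c : R.obj (kernel f) ≅ G := asIso (R.map a) ≪≫ asIso (adj.counit.app G)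
  have hfp : FPOn (kernel f) U := fpOn_of_isFP_restrict (QuotRep.isFP_of_iso' c.symm hG)
  obtain ⟨E, q, hE, hb⟩ := exists_fp_extend hP hU hfp
  haveI : IsIso (R.map q) := CohGabLib.isIso_restrict_of_bijective q fun V hV _ => hb V hV
  refine ⟨E, q ≫ b, asIso (R.map q) ≪≫ c, hE, ?_⟩
  show (R.map q ≫ R.map a ≫ adj.counit.app G) ≫ φ = R.map (q ≫ b)
  rw [Category.assoc, Category.assoc]
  refine (congrArg (R.map q ≫ ·) ?_).trans (R.map_comp q b).symm
  rw [show adj.counit.app G ≫ φ = R.map (J.map φ) ≫ adj.counit.app (R.obj F) from (adj.counit.naturality φ).symm,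
    ← Functor.map_comp_assoc, hsq, Functor.map_comp_assoc]
  exact (congrArg (R.map b ≫ ·) (adj.left_triangle_components F)).trans (Category.comp_id _)

/-- A finite type module, finitely presented on a quasi-compact open, is a quotient of a finitely
presented module with no kernel over the open. -/
theorem exists_fp_epi_iso [CompactSpace X] [QuasiSeparatedSpace X] {F : X.Modules} (hF : Coh.IsQCoh F)
    (hft : CohB1.IsFT F) {U : X.Opens} (hU : IsCompact (U : Set X)) (hfp : CohB1.IsFP (F.restrict U.ι)) :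
    ∃ (G : X.Modules) (φ : G ⟶ F), CohB1.IsFP G ∧ Epi φ ∧
      IsIso ((Scheme.Modules.restrictFunctor U.ι).map φ) := by
  classical
  let R := Scheme.Modules.restrictFunctor U.ι
  obtain ⟨E, q, hE, hq⟩ := exists_fp_extend hF hU (fpOn_of_isFP_restrict hfp)
  obtain ⟨t, ht⟩ := isCompact_univ.elim_finite_subcover (fun V : X.affineOpens => (V.1 : Set X))
    (fun V => V.1.2) (fun x _ => by
      obtain ⟨_, ⟨V, hV, rfl⟩, hxV, -⟩ := X.isBasis_affineOpens.exists_subset_of_mem_open
        (Set.mem_univ x) isOpen_univ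
      exact Set.mem_iUnion.2 ⟨⟨V, hV⟩, hxV⟩)
  let V : Fin (t.card + 1) → X.Opens := Fin.cons ⊥ fun a => (t.equivFin.symm a).1.1
  have hV : ∀ a, IsAffineOpen (V a) := fun a => Fin.cases (isAffineOpen_bot X) (fun a => (t.equivFin.symm a).1.2) a
  have hcov : ∀ x : X, ∃ a, x ∈ V a := fun x => by
    obtain ⟨W, hW, hxW⟩ := Set.mem_iUnion₂.1 (ht (Set.mem_univ x))
    exact ⟨(t.equivFin ⟨W, hW⟩).succ, by simpa [V] using hxW⟩
  choose S hS using fun a => (QCoh.finite_of_isFT hF hft (hV a)).fg_top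
  obtain ⟨G₁, p, hG₁, hp⟩ := exists_fp_hom_mem_fin hF V hV S
  have hA : CohB1.IsFP (E ⊞ G₁) := isFP_biprod hE hG₁
  have hAq := QCoh.isQCoh_of_isFP hA
  let d : E ⊞ G₁ ⟶ F := biprod.desc q p
  have hd : Epi d := by
    refine epi_of_surjective d V hV hcov hAq hF fun a => ?_
    let l : Γ(E ⊞ G₁, V a) →ₗ[Γ(X, V a)] Γ(F, V a) :=
      { toFun := d.app (V a), map_add' := map_add _, map_smul' := Scheme.Modules.Hom.app_smul _ }
    refine LinearMap.range_eq_top (f := l).1 (top_unique ?_)
    rw [← hS a, Submodule.span_le]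
    intro s hs
    obtain ⟨z, hz⟩ := hp a s hs
    exact ⟨(biprod.inr : G₁ ⟶ E ⊞ G₁).app _ z,
      (congrArg (fun ψ => Scheme.Modules.Hom.app ψ (V a) z) (biprod.inr_desc q p)).trans hz⟩
  have hK : Coh.IsQCoh (kernel d) := QCoh.isQCoh_kernel hAq hF d
  let r : kernel d ⟶ G₁ := kernel.ι d ≫ biprod.snd
  have hdsum : ∀ (O : X.Opens) (e : Γ(E, O)) (g : Γ(G₁, O)),
      d.app O ((biprod.inl : E ⟶ E ⊞ G₁).app O e + (biprod.inr : G₁ ⟶ E ⊞ G₁).app O g) = q.app O e + p.app O g := by
    intro O e g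
    rw [map_add]
    exact congrArg₂ (· + ·) (congrArg (fun ψ => Scheme.Modules.Hom.app ψ O e) (biprod.inl_desc q p))
      (congrArg (fun ψ => Scheme.Modules.Hom.app ψ O g) (biprod.inr_desc q p))
  have htot : ∀ (O : X.Opens) (z : Γ(E ⊞ G₁, O)), (biprod.inl : E ⟶ E ⊞ G₁).app O ((biprod.fst : E ⊞ G₁ ⟶ E).app O z)
      + (biprod.inr : G₁ ⟶ E ⊞ G₁).app O ((biprod.snd : E ⊞ G₁ ⟶ G₁).app O z) = z := fun O z =>
    congrArg (fun ψ : E ⊞ G₁ ⟶ _ => Scheme.Modules.Hom.app ψ O z) biprod.total
  have hr : IsIso (R.map r) := by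
    refine CohGabLib.isIso_restrict_of_bijective r fun O hO _ => ⟨?_, fun g => ?_⟩
    · refine (injective_iff_map_eq_zero _).2 fun z hz => ?_
      have hz' : (biprod.snd : E ⊞ G₁ ⟶ G₁).app O ((kernel.ι d).app O z) = 0 := hz
      have h0 : d.app O ((kernel.ι d).app O z) = 0 :=
        congrArg (fun ψ => Scheme.Modules.Hom.app ψ O z) (kernel.condition d)
      rw [← htot O ((kernel.ι d).app O z), hdsum, hz', map_zero, add_zero] at h0
      refine QCoh.app_injective (kernel.ι d) O ?_
      rw [map_zero, ← htot O ((kernel.ι d).app O z), hz', (hq O hO).1 (h0.trans (map_zero (q.app O).hom).symm),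
        map_zero, map_zero, add_zero]
    · obtain ⟨e, he⟩ := (hq O hO).2 (-p.app O g)
      obtain ⟨k, hk⟩ := CohGabLib.exists_kernel_section d
        ((biprod.inl : E ⟶ E ⊞ G₁).app O e + (biprod.inr : G₁ ⟶ E ⊞ G₁).app O g)
        (by rw [hdsum, he, neg_add_cancel])
      refine ⟨k, ?_⟩
      show (biprod.snd : E ⊞ G₁ ⟶ G₁).app O ((kernel.ι d).app O k) = g
      rw [hk, map_add]
      refine (congrArg₂ (· + ·) (congrArg (fun ψ => Scheme.Modules.Hom.app ψ O e) biprod.inl_snd)
        (congrArg (fun ψ => Scheme.Modules.Hom.app ψ O g) biprod.inr_snd)).trans ?_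
      show 0 + g = g
      rw [zero_add]
  obtain ⟨K', ψ, e, hK', he⟩ := exists_fp_extend_map hK hU
    (QuotRep.isFP_of_iso' (asIso (R.map r)).symm (FibDepth.isFP_restrict G₁ U hG₁)) (𝟙 _)
  have hz : (ψ ≫ kernel.ι d) ≫ d = 0 := by rw [Category.assoc, kernel.condition, comp_zero]
  refine ⟨cokernel (ψ ≫ kernel.ι d), cokernel.desc _ d hz,
    isFP_cokernel (QCoh.isQCoh_of_isFP hK') (QCoh.isFT_of_isFP hK') hA _, ?_, ?_⟩
  · exact epi_of_epi_fac (cokernel.π_desc _ d hz)
  · let g := cokernel.desc (ψ ≫ kernel.ι d) d hz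
    haveI : IsIso (R.map ψ) := by rw [← he, Category.comp_id]; infer_instance
    haveI : Epi (R.map g) := by
      haveI := R.map_epi d
      exact epi_of_epi_fac (show R.map (cokernel.π _) ≫ R.map g = R.map d by rw [← Functor.map_comp, cokernel.π_desc])
    haveI : Mono (R.map g) := by
      refine CategoryTheory.Preadditive.mono_of_cancel_zero _ fun {T} w hw => ?_
      obtain ⟨T', π, hπ, w', hw'⟩ := (epi_iff_surjective_up_to_refinements (R.map (cokernel.π (ψ ≫ kernel.ι d)))).1
        inferInstance w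
      have h0 : w' ≫ R.map d = 0 := by
        rw [show R.map d = R.map (cokernel.π (ψ ≫ kernel.ι d)) ≫ R.map g by rw [← Functor.map_comp, cokernel.π_desc],
          ← Category.assoc, ← hw', Category.assoc, hw, comp_zero]
      obtain ⟨v, hv⟩ := KernelFork.IsLimit.lift' (isLimitOfHasKernelOfPreservesLimit R d) w' h0
      have hv' : v ≫ R.map (kernel.ι d) = w' := hv
      have hk : R.map (kernel.ι d) ≫ R.map (cokernel.π (ψ ≫ kernel.ι d)) = 0 := by
        rw [← cancel_epi (R.map ψ), ← Functor.map_comp, ← Functor.map_comp, ← Category.assoc, cokernel.condition,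
          Functor.map_zero, comp_zero]
      rw [← cancel_epi π, comp_zero, hw', ← hv']
      exact (Category.assoc _ _ _).trans ((congrArg (v ≫ ·) hk).trans comp_zero)
    exact isIso_of_mono_of_epi (R.map g)

end Groth.Agent.LimMod
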