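import Groth.Agent.LimMod.Stage2

/-!
# Equality of morphisms descends to a stage
-/

universe u

set_option backward.isDefEq.respectTransparency false
set_option backward.isDefEq.respectTransparency.types false

open CategoryTheory CategoryTheory.Limits AlgebraicGeometry TopologicalSpace Opposite

noncomputable section

namespace Groth.Agent.LimMod

open Groth.Agent

/-- A quasi-compact scheme has a finite cover by affine opens. -/
theorem exists_fin_affine_cover (X : Scheme.{u}) [CompactSpace X] :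
    ∃ (n : ℕ) (U : Fin n → X.Opens), (∀ a, IsAffineOpen (U a)) ∧ ∀ x : X, ∃ a, x ∈ U a := by
  classical
  obtain ⟨s, hs⟩ := isCompact_univ.elim_finite_subcover (fun U : X.affineOpens => (U.1 : Set X))
    (fun U => U.1.2) (fun x _ => by
      obtain ⟨_, ⟨U, hU, rfl⟩, hxU, -⟩ := X.isBasis_affineOpens.exists_subset_of_mem_open
        (Set.mem_univ x) isOpen_univ
      exact Set.mem_iUnion.2 ⟨⟨U, hU⟩, hxU⟩)
  refine ⟨s.card, fun a => (s.equivFin.symm a).1.1, fun a => (s.equivFin.symm a).1.2, fun x => ?_⟩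
  simp only [Set.univ_subset_iff, Set.eq_univ_iff_forall, Set.mem_iUnion] at hs
  obtain ⟨U, hU, hx⟩ := hs x
  exact ⟨s.equivFin ⟨U, hU⟩, by simpa using hx⟩

variable {I : Type u} [SmallCategory I] (D : I ⥤ Scheme.{u}) (c : Cone D) {i : I}
  {F G : (D.obj i).Modules}

/-- Transport of morphisms to the limit. -/
def trLimHom {j : I} (φ : j ⟶ i)
    (u : (Scheme.Modules.pullback (D.map φ)).obj F ⟶ (Scheme.Modules.pullback (D.map φ)).obj G) :
    (Scheme.Modules.pullback (c.π.app i)).obj F ⟶ (Scheme.Modules.pullback (c.π.app i)).obj G :=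
  trHom (c.π.app j) (D.map φ) (c.π.app i) (c.w φ) u

/-- Transport of morphisms to a further stage. -/
def trStageHom {j k : I} (ψ : k ⟶ j) (φ : j ⟶ i)
    (u : (Scheme.Modules.pullback (D.map φ)).obj F ⟶ (Scheme.Modules.pullback (D.map φ)).obj G) :
    (Scheme.Modules.pullback (D.map (ψ ≫ φ))).obj F ⟶ (Scheme.Modules.pullback (D.map (ψ ≫ φ))).obj G :=
  trHom (D.map ψ) (D.map φ) (D.map (ψ ≫ φ)) (D.map_comp ψ φ).symm u

theorem trLimHom_app_trLim {j : I} (φ : j ⟶ i)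
    (u : (Scheme.Modules.pullback (D.map φ)).obj F ⟶ (Scheme.Modules.pullback (D.map φ)).obj G)
    {O : (D.obj j).Opens} {O' : c.pt.Opens} (hle : O' ≤ c.π.app j ⁻¹ᵁ O)
    (x : Γ((Scheme.Modules.pullback (D.map φ)).obj F, O)) :
    (trLimHom D c φ u).app O' (trLim D c φ hle x) = trLim D c φ hle (u.app O x) :=
  trHom_app_tr _ _ _ _ u hle x

theorem trStageHom_app_trStage {j k : I} (ψ : k ⟶ j) (φ : j ⟶ i)
    (u : (Scheme.Modules.pullback (D.map φ)).obj F ⟶ (Scheme.Modules.pullback (D.map φ)).obj G)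
    {O : (D.obj j).Opens} {O' : (D.obj k).Opens} (hle : O' ≤ D.map ψ ⁻¹ᵁ O)
    (x : Γ((Scheme.Modules.pullback (D.map φ)).obj F, O)) :
    (trStageHom D ψ φ u).app O' (trStage D ψ φ hle x) = trStage D ψ φ hle (u.app O x) :=
  trHom_app_tr _ _ _ _ u hle x

theorem trLimHom_map {j : I} (φ : j ⟶ i) (k : F ⟶ G) :
    trLimHom D c φ ((Scheme.Modules.pullback (D.map φ)).map k) = (Scheme.Modules.pullback (c.π.app i)).map k :=
  trHom_map _ _ _ _ k

theorem trStageHom_map {j k : I} (ψ : k ⟶ j) (φ : j ⟶ i) (f : F ⟶ G) :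
    trStageHom D ψ φ ((Scheme.Modules.pullback (D.map φ)).map f) =
      (Scheme.Modules.pullback (D.map (ψ ≫ φ))).map f :=
  trHom_map _ _ _ _ f

variable (hc : IsLimit c) [IsCofiltered I] [∀ (i j : I) (f : i ⟶ j), IsAffineHom (D.map f)]

omit [∀ (i j : I) (f : i ⟶ j), IsAffineHom (D.map f)] in
/-- Finitely many stages over `j` lie under one. -/
theorem exists_below_fin {n : ℕ} {j : I} (k : Fin n → I) (ψ : ∀ a, k a ⟶ j) :
    ∃ (l : I) (χ : l ⟶ j), ∀ a, ∃ g : l ⟶ k a, g ≫ ψ a = χ := by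
  induction n with
  | zero => exact ⟨j, 𝟙 j, fun a => a.elim0⟩
  | succ n ih =>
    obtain ⟨l, χ, hl⟩ := ih (fun a => k a.castSucc) fun a => ψ a.castSucc
    obtain ⟨m, f, g, hfg⟩ := exists_common χ (ψ (Fin.last n))
    refine ⟨m, f ≫ χ, fun a => ?_⟩
    induction a using Fin.lastCases with
    | last => exact ⟨g, hfg.symm⟩
    | cast a =>
      obtain ⟨h, hh⟩ := hl a
      exact ⟨f ≫ h, by rw [Category.assoc, hh]⟩

include hc in
/-- Finitely many sections at a stage vanishing in the limit vanish at one later stage. -/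
theorem exists_trStage_forall_eq_zero (hG : Coh.IsQCoh G) {j : I} (φ : j ⟶ i) {n : ℕ}
    (U : Fin n → (D.obj i).Opens) (hU : ∀ a, IsAffineOpen (U a))
    (O : Fin n → (D.obj j).Opens) (hO : ∀ a, IsAffineOpen (O a)) (hOU : ∀ a, O a ≤ D.map φ ⁻¹ᵁ U a)
    (z : ∀ a, Γ((Scheme.Modules.pullback (D.map φ)).obj G, O a))
    (hz : ∀ a, trLim D c φ (le_refl (c.π.app j ⁻¹ᵁ O a)) (z a) = 0) :
    ∃ (k : I) (ψ : k ⟶ j), ∀ a {O' : (D.obj k).Opens} (hle : O' ≤ D.map ψ ⁻¹ᵁ O a),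
      trStage D ψ φ hle (z a) = 0 := by
  choose k ψ hψ using fun a => exists_trStage_eq_zero D c hc hG φ (hO a) (z a) le_rfl le_rfl (hz a)
  obtain ⟨l, χ, hl⟩ := exists_below_fin k ψ
  refine ⟨l, χ, fun a {O'} hle => ?_⟩
  obtain ⟨g, rfl⟩ := hl a
  have hle' : O' ≤ D.map g ⁻¹ᵁ (D.map (ψ a) ⁻¹ᵁ O a) := by
    rwa [← Scheme.Hom.comp_preimage, ← D.map_comp]
  have h' : D.map g ≫ D.map (ψ a ≫ φ) = D.map ((g ≫ ψ a) ≫ φ) := by
    rw [← D.map_comp, Category.assoc]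
  have key : tr (D.map g) (D.map (ψ a ≫ φ)) (D.map ((g ≫ ψ a) ≫ φ)) h' le_rfl
      (trStage D (ψ a) φ (le_refl (D.map (ψ a) ⁻¹ᵁ O a)) (z a)) =
      trStage D (g ≫ ψ a) φ (show D.map g ⁻¹ᵁ (D.map (ψ a) ⁻¹ᵁ O a) ≤ D.map (g ≫ ψ a) ⁻¹ᵁ O a by
        rw [← Scheme.Hom.comp_preimage, ← D.map_comp]) (z a) :=
    tr_tr _ _ _ _ _ _ _ _ (D.map_comp g (ψ a)).symm _ hG (hU a) (hO a) (hOU a) _ _ _ _
  rw [hψ a le_rfl, map_zero] at key
  have h2 := tr_res (D.map (g ≫ ψ a)) (D.map φ) (D.map ((g ≫ ψ a) ≫ φ)) (D.map_comp (g ≫ ψ a) φ).symm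
    (le_refl (O a)) hle' (show D.map g ⁻¹ᵁ (D.map (ψ a) ⁻¹ᵁ O a) ≤ D.map (g ≫ ψ a) ⁻¹ᵁ O a by
      rw [← Scheme.Hom.comp_preimage, ← D.map_comp]) hle (z a)
  rw [show (homOfLE (le_refl (O a))).op = 𝟙 (op (O a)) from Subsingleton.elim _ _,
    CategoryTheory.Functor.map_id] at h2
  refine Eq.trans h2.symm ?_
  exact (congrArg _ key.symm).trans (map_zero _)

include hc in
/-- Finitely many sections at a stage vanishing in the limit vanish at one later stage. -/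
theorem exists_trStage_finite_eq_zero (hG : Coh.IsQCoh G) {j : I} (φ : j ⟶ i) {P : Type*} [Finite P]
    (U : P → (D.obj i).Opens) (hU : ∀ p, IsAffineOpen (U p))
    (z : ∀ p, Γ((Scheme.Modules.pullback (D.map φ)).obj G, D.map φ ⁻¹ᵁ U p))
    (hz : ∀ p, trLim D c φ (le_refl (c.π.app j ⁻¹ᵁ (D.map φ ⁻¹ᵁ U p))) (z p) = 0) :
    ∃ (k : I) (ψ : k ⟶ j), ∀ p, trStage D ψ φ (stage_le D ψ φ (U p)) (z p) = 0 := by
  obtain ⟨n, ⟨e⟩⟩ := Finite.exists_equiv_fin P
  obtain ⟨k, ψ, hψ⟩ := exists_trStage_forall_eq_zero D c hc hG φ (fun a => U (e.symm a)) (fun a => hU _)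
    (fun a => D.map φ ⁻¹ᵁ U (e.symm a)) (fun a => isAffineOpen_stage D φ (hU _)) (fun a => le_rfl)
    (fun a => z (e.symm a)) fun a => hz _
  refine ⟨k, ψ, fun p => ?_⟩
  obtain ⟨a, rfl⟩ := e.symm.surjective p
  exact hψ a _

include hc in
/-- Two morphisms at a stage agreeing in the limit agree at a later stage. -/
theorem exists_trStageHom_eq [CompactSpace (D.obj i)] (hF : Coh.IsQCoh F) (hFt : CohB1.IsFT F)
    (hG : Coh.IsQCoh G) {j : I} (φ : j ⟶ i)
    (u v : (Scheme.Modules.pullback (D.map φ)).obj F ⟶ (Scheme.Modules.pullback (D.map φ)).obj G)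
    (h : trLimHom D c φ u = trLimHom D c φ v) :
    ∃ (k : I) (ψ : k ⟶ j), trStageHom D ψ φ u = trStageHom D ψ φ v := by
  classical
  obtain ⟨n, U, hU, hcov⟩ := exists_fin_affine_cover (D.obj i)
  haveI hfin : ∀ a, Module.Finite Γ(D.obj i, U a) Γ(F, U a) := fun a => QCoh.finite_of_isFT hF hFt (hU a)
  choose S hS using fun a => (hfin a).fg_top
  let P := Σ a : Fin n, {m : Γ(F, U a) // m ∈ S a}
  let e := Fintype.equivFin P
  let O : Fin (Fintype.card P) → (D.obj j).Opens := fun p => D.map φ ⁻¹ᵁ U (e.symm p).1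
  let z : ∀ p, Γ((Scheme.Modules.pullback (D.map φ)).obj G, O p) := fun p =>
    u.app (O p) (QCoh.pullSec (D.map φ) F le_rfl (e.symm p).2.1) -
      v.app (O p) (QCoh.pullSec (D.map φ) F le_rfl (e.symm p).2.1)
  obtain ⟨k, ψ, hψ⟩ := exists_trStage_forall_eq_zero D c hc hG φ (fun p => U (e.symm p).1)
    (fun p => hU _) O (fun p => isAffineOpen_stage D φ (hU _)) (fun p => le_rfl) z fun p => by
      rw [map_sub, ← trLimHom_app_trLim, ← trLimHom_app_trLim, h, sub_self]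
  refine ⟨k, ψ, hom_ext_pullSec (D.map (ψ ≫ φ)) hF _ _ U hU hcov (fun a => (S a : Set Γ(F, U a))) hS
    fun a m hm => ?_⟩
  obtain ⟨p, hp⟩ := e.symm.surjective ⟨a, m, hm⟩
  have hz := hψ p (O' := D.map (ψ ≫ φ) ⁻¹ᵁ U (e.symm p).1) (stage_le D ψ φ (U (e.symm p).1))
  rw [map_sub, sub_eq_zero, ← trStageHom_app_trStage, ← trStageHom_app_trStage,
    trStage_pullSec D ψ φ le_rfl (stage_le D ψ φ (U (e.symm p).1)) le_rfl] at hz
  rw [hp] at hz
  exact hz

end Groth.Agent.LimMod
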