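import Groth.Agent.LimMod.Hom
import Mathlib.RingTheory.Finiteness.Basic
import Mathlib.Algebra.Module.FinitePresentation

/-!
# Semilinear maps out of finitely presented sections descend to a stage
-/

universe u

set_option backward.isDefEq.respectTransparency false
set_option backward.isDefEq.respectTransparency.types false

open CategoryTheory CategoryTheory.Limits AlgebraicGeometry TopologicalSpace Opposite

noncomputable section

namespace Groth.Agent.LimMod

open Groth.Agent

variable {I : Type u} [SmallCategory I] (D : I ⥤ Scheme.{u}) (c : Cone D) {i : I}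
  {F G : (D.obj i).Modules}

theorem trLim_move (hG : Coh.IsQCoh G) {U : (D.obj i).Opens} (hU : IsAffineOpen U)
    [∀ (i j : I) (f : i ⟶ j), IsAffineHom (D.map f)] {j k : I} {φ : j ⟶ i}
    (g : k ⟶ j) {χ : k ⟶ i} (h : g ≫ φ = χ)
    (z : Γ((Scheme.Modules.pullback (D.map φ)).obj G, D.map φ ⁻¹ᵁ U)) :
    ∃ z', trLim D c χ (lim_le D c χ U) z' = trLim D c φ (lim_le D c φ U) z := by
  subst h
  exact ⟨trStage D g φ (stage_le D g φ U) z,
    trLim_trStage D c hG g φ hU (isAffineOpen_stage D φ hU) le_rfl _ _ _ z⟩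

variable (hc : IsLimit c) [IsCofiltered I] [∀ (i j : I) (f : i ⟶ j), IsAffineHom (D.map f)]

include hc in
/-- Sections of a finitely presented module map to the sections of a module at a stage. -/
theorem exists_local_lift (hG : Coh.IsQCoh G) {U : (D.obj i).Opens} (hU : IsAffineOpen U)
    [hfp : Module.FinitePresentation Γ(D.obj i, U) Γ(F, U)]
    (H : Γ(F, U) →+ Γ((Scheme.Modules.pullback (c.π.app i)).obj G, c.π.app i ⁻¹ᵁ U))
    (hH : ∀ (r : Γ(D.obj i, U)) m, H (r • m) = (c.π.app i).appLE U _ le_rfl r • H m) :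
    ∃ (j : I) (φ : j ⟶ i) (lam : Γ(F, U) →+ Γ((Scheme.Modules.pullback (D.map φ)).obj G, D.map φ ⁻¹ᵁ U)),
      (∀ (r : Γ(D.obj i, U)) m, lam (r • m) = (D.map φ).appLE U _ le_rfl r • lam m) ∧
      ∀ m, trLim D c φ (lim_le D c φ U) (lam m) = H m := by
  classical
  obtain ⟨n, π, hπ⟩ := Module.Finite.exists_fin' Γ(D.obj i, U) Γ(F, U)
  let e : Fin n → (Fin n → Γ(D.obj i, U)) := fun a => Pi.single a 1
  choose j φ z hz using fun a => exists_trLim_eq D c hc hG hU (H (π (e a)))
  obtain ⟨l, χ, hl⟩ := exists_below_fin j φ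
  choose g hg using hl
  choose z' hz' using fun a => trLim_move D c hG hU (g a) (hg a) (z a)
  obtain ⟨s, hs⟩ := Module.FinitePresentation.fg_ker π hπ
  let O : (D.obj l).Opens := D.map χ ⁻¹ᵁ U
  let N := (Scheme.Modules.pullback (D.map χ)).obj G
  let rel : (Fin n → Γ(D.obj i, U)) → Γ(N, O) := fun r =>
    ∑ a, (D.map χ).appLE U O le_rfl (r a) • z' a
  have hrel : ∀ r, trLim D c χ (lim_le D c χ U) (rel r) = H (π r) := by
    intro r
    conv_rhs => rw [show r = ∑ a, r a • e a from (pi_eq_sum_univ' r)]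
    rw [map_sum, map_sum, map_sum]
    refine Finset.sum_congr rfl fun a _ => ?_
    rw [trLim_smul, hz' a, hz a, map_smul, hH, ← CommRingCat.comp_apply, Scheme.Hom.appLE_comp_appLE]
    simp only [c.w]
    rfl
  let v : Fin s.card → (Fin n → Γ(D.obj i, U)) := fun p => (s.equivFin.symm p).1
  have hv : ∀ p, π (v p) = 0 := fun p => by
    have : v p ∈ Submodule.span Γ(D.obj i, U) (s : Set (Fin n → Γ(D.obj i, U))) :=
      Submodule.subset_span (s.equivFin.symm p).2
    rw [hs] at this
    exact this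
  obtain ⟨k, ψ, hψ⟩ := exists_trStage_forall_eq_zero D c hc hG χ (fun _ : Fin s.card => U) (fun _ => hU)
    (fun _ => O) (fun _ => isAffineOpen_stage D χ hU) (fun _ => le_rfl) (fun p => rel (v p)) (fun p => by
      have h0 := (hrel (v p)).trans ((congrArg H (hv p)).trans (map_zero H))
      have he : c.π.app l ⁻¹ᵁ O = c.π.app i ⁻¹ᵁ U := by rw [← Scheme.Hom.comp_preimage, c.w]
      have := tr_res (c.π.app l) (D.map χ) (c.π.app i) (c.w χ) (le_refl O) he.le
        (lim_le D c χ U) (le_refl (c.π.app l ⁻¹ᵁ O)) (rel (v p))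
      rw [show (homOfLE (le_refl O)).op = 𝟙 (op O) from Subsingleton.elim _ _,
        CategoryTheory.Functor.map_id] at this
      refine Eq.trans this.symm ?_
      exact (congrArg _ h0).trans (map_zero _))
  let O' : (D.obj k).Opens := D.map (ψ ≫ χ) ⁻¹ᵁ U
  let N' := (Scheme.Modules.pullback (D.map (ψ ≫ χ))).obj G
  letI : Module Γ(D.obj i, U) Γ(N', O') :=
    Module.compHom _ ((D.map (ψ ≫ χ)).appLE U O' le_rfl).hom
  let w : Fin n → Γ(N', O') := fun a => trStage D ψ χ (stage_le D ψ χ U) (z' a)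
  let lift : (Fin n → Γ(D.obj i, U)) →ₗ[Γ(D.obj i, U)] Γ(N', O') :=
    Fintype.linearCombination Γ(D.obj i, U) w
  have hlift : ∀ r, lift r = trStage D ψ χ (stage_le D ψ χ U) (rel r) := by
    intro r
    rw [Fintype.linearCombination_apply, map_sum]
    refine Finset.sum_congr rfl fun a _ => ?_
    rw [trStage_smul, ← CommRingCat.comp_apply, Scheme.Hom.appLE_comp_appLE]
    simp only [← D.map_comp]
    rfl
  have hker : LinearMap.ker π ≤ LinearMap.ker lift := by
    rw [← hs, Submodule.span_le]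
    intro r hr
    obtain ⟨p, hp⟩ := s.equivFin.symm.surjective ⟨r, hr⟩
    show lift r = 0
    rw [hlift, show r = v p from (congrArg Subtype.val hp).symm]
    exact hψ p _
  let lam := ((LinearMap.ker π).liftQ lift hker).comp (π.quotKerEquivOfSurjective hπ).symm.toLinearMap
  have hlam : ∀ r, lam (π r) = lift r := fun r => by
    rw [LinearMap.comp_apply, show (π.quotKerEquivOfSurjective hπ).symm.toLinearMap (π r) =
      Submodule.Quotient.mk r from (LinearEquiv.symm_apply_eq _).2 rfl]
    rfl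
  refine ⟨k, ψ ≫ χ, lam.toAddMonoidHom, fun r m => lam.map_smul r m, fun m => ?_⟩
  obtain ⟨r, rfl⟩ := hπ m
  show trLim D c _ _ (lam (π r)) = _
  rw [hlam, hlift, trLim_trStage D c hG ψ χ hU (isAffineOpen_stage D χ hU) le_rfl _ _ (lim_le D c χ U), hrel]

end Groth.Agent.LimMod
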