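import Groth.Agent.LimMod.Tr

/-!
# Morphisms out of an inverse image from semilinear maps on an affine cover
-/

universe u

set_option backward.isDefEq.respectTransparency false
set_option backward.isDefEq.respectTransparency.types false

open CategoryTheory CategoryTheory.Limits AlgebraicGeometry TopologicalSpace Opposite

noncomputable section

namespace Groth.Agent.LimMod

open Groth.Agent

variable {T₁ T₀ : Scheme.{u}} (b : T₁ ⟶ T₀) {F : T₀.Modules} {N : T₁.Modules}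

/-- Linear maps on sections of an inverse image agreeing on inverse images of sections agree. -/
theorem linear_ext (hF : Coh.IsQCoh F) {U : T₀.Opens} (hU : IsAffineOpen U) {W : T₁.Opens}
    (hW : IsAffineOpen W) (hle : W ≤ b ⁻¹ᵁ U)
    (A B : Γ((Scheme.Modules.pullback b).obj F, W) →+ Γ(N, W))
    (hA : ∀ (r : Γ(T₁, W)) x, A (r • x) = r • A x) (hB : ∀ (r : Γ(T₁, W)) x, B (r • x) = r • B x)
    (S : Set Γ(F, U)) (hS : Submodule.span Γ(T₀, U) S = ⊤)
    (h : ∀ m ∈ S, A (QCoh.pullSec b F hle m) = B (QCoh.pullSec b F hle m)) : A = B := by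
  refine AddMonoidHom.ext fun x => ?_
  refine pullSec_induction b hF hW hU hle (fun x => A x = B x) (by rw [map_zero, map_zero]) (fun m => ?_)
    (fun r z hz => by rw [hA, hB, hz]) (fun x y hx hy => by rw [map_add, map_add, hx, hy]) x
  have hm : m ∈ Submodule.span Γ(T₀, U) S := by rw [hS]; trivial
  induction hm using Submodule.span_induction with
  | mem y hy => exact h y hy
  | zero => rw [pullSec_zero, map_zero, map_zero]
  | add x y _ _ hx hy => rw [QCoh.pullSec_add, map_add, map_add, hx, hy]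
  | smul r x _ hx => rw [QCoh.pullSec_smul, hA, hB, hx]

/-- Linear maps on sections are compatible with a transport as soon as they are so on generators. -/
theorem tr_linear {T : Scheme.{u}} (a : T ⟶ T₁) (c : T ⟶ T₀) (hab : a ≫ b = c) {G : T₀.Modules}
    (hF : Coh.IsQCoh F) {U : T₀.Opens} (hU : IsAffineOpen U) {W : T₁.Opens} (hW : IsAffineOpen W)
    (hle : W ≤ b ⁻¹ᵁ U) {W' : T.Opens} (hle' : W' ≤ a ⁻¹ᵁ W) (hc : W' ≤ c ⁻¹ᵁ U)
    (A : Γ((Scheme.Modules.pullback b).obj F, W) →+ Γ((Scheme.Modules.pullback b).obj G, W))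
    (B : Γ((Scheme.Modules.pullback c).obj F, W') →+ Γ((Scheme.Modules.pullback c).obj G, W'))
    (hA : ∀ (r : Γ(T₁, W)) x, A (r • x) = r • A x) (hB : ∀ (r : Γ(T, W')) x, B (r • x) = r • B x)
    (h : ∀ m, B (QCoh.pullSec c F hc m) = tr a b c hab hle' (A (QCoh.pullSec b F hle m)))
    (x : Γ((Scheme.Modules.pullback b).obj F, W)) :
    B (tr a b c hab hle' x) = tr a b c hab hle' (A x) := by
  refine pullSec_induction b hF hW hU hle (fun x => B (tr a b c hab hle' x) = tr a b c hab hle' (A x))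
    (by simp) (fun m => by rw [tr_pullSec a b c hab hle hle' hc, h]) (fun r z hz => ?_)
    (fun x y hx hy => by rw [map_add, map_add, map_add, map_add, hx, hy]) x
  rw [tr_smul, hB, hA, tr_smul, hz]

/-- The extension of a semilinear map from an affine to the affines over it. -/
theorem exists_family (hF : Coh.IsQCoh F) {U : T₀.Opens} (hU : IsAffineOpen U)
    (lam : Γ(F, U) →+ Γ(N, b ⁻¹ᵁ U))
    (hlam : ∀ (r : Γ(T₀, U)) m, lam (r • m) = b.appLE U (b ⁻¹ᵁ U) le_rfl r • lam m) :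
    ∃ Φ : ∀ (W : T₁.Opens), IsAffineOpen W → W ≤ b ⁻¹ᵁ U →
        (Γ((Scheme.Modules.pullback b).obj F, W) →+ Γ(N, W)),
      (∀ W hW hle (r : Γ(T₁, W)) x, Φ W hW hle (r • x) = r • Φ W hW hle x) ∧
      (∀ W hW (hle : W ≤ b ⁻¹ᵁ U) m,
        Φ W hW hle (QCoh.pullSec b F hle m) = N.presheaf.map (homOfLE hle).op (lam m)) ∧
      (∀ W W' hW hW' hle hle' (h : W' ≤ W) x, N.presheaf.map (homOfLE h).op (Φ W hW hle x) =
        Φ W' hW' hle' (((Scheme.Modules.pullback b).obj F).presheaf.map (homOfLE h).op x)) := by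
  have key : ∀ W, IsAffineOpen W → ∀ (hle : W ≤ b ⁻¹ᵁ U),
      ∃ Φ : Γ((Scheme.Modules.pullback b).obj F, W) →+ Γ(N, W),
        (∀ (r : Γ(T₁, W)) x, Φ (r • x) = r • Φ x) ∧
        ∀ m, Φ (QCoh.pullSec b F hle m) = N.presheaf.map (homOfLE hle).op (lam m) := by
    intro W hW hle
    letI : Algebra Γ(T₀, U) Γ(T₁, W) := (b.appLE U W hle).hom.toAlgebra
    letI : Module Γ(T₀, U) Γ((Scheme.Modules.pullback b).obj F, W) :=
      Module.compHom _ (b.appLE U W hle).hom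
    haveI : IsScalarTower Γ(T₀, U) Γ(T₁, W) Γ((Scheme.Modules.pullback b).obj F, W) :=
      ⟨fun a' c d => mul_smul ((b.appLE U W hle).hom a') c d⟩
    letI : Module Γ(T₀, U) Γ(N, W) := Module.compHom _ (b.appLE U W hle).hom
    haveI : IsScalarTower Γ(T₀, U) Γ(T₁, W) Γ(N, W) :=
      ⟨fun a' c d => mul_smul ((b.appLE U W hle).hom a') c d⟩
    obtain ⟨l, hl, hb⟩ := ExistEasy.exists_pullSec_baseChange b hF hW hU hle
    let g : Γ(F, U) →ₗ[Γ(T₀, U)] Γ(N, W) :=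
      { toFun := fun m => N.presheaf.map (homOfLE hle).op (lam m)
        map_add' := fun x y => by rw [map_add, map_add]
        map_smul' := fun r m => by
          show N.presheaf.map (homOfLE hle).op (lam (r • m)) = b.appLE U W hle r • (N.presheaf.map (homOfLE hle).op (lam m))
          rw [hlam, Scheme.Modules.map_smul, ← CommRingCat.comp_apply, Scheme.Hom.appLE_map] }
    exact ⟨(hb.lift g).toAddMonoidHom, fun r x => (hb.lift g).map_smul r x,
      fun m => hl m ▸ hb.lift_eq g m⟩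
  choose Φ hlin hsec using key
  refine ⟨Φ, hlin, hsec, fun W W' hW hW' hle hle' h x => ?_⟩
  refine pullSec_induction b hF hW hU hle (fun x => N.presheaf.map (homOfLE h).op (Φ W hW hle x) =
    Φ W' hW' hle' (((Scheme.Modules.pullback b).obj F).presheaf.map (homOfLE h).op x))
    (by simp) (fun m => ?_) (fun r z hz => ?_) (fun x y hx hy => ?_) x
  · rw [hsec, ExistEasy.pullSec_res b F (le_refl U) h hle hle']
    refine (QCoh.map_map (M := N) (homOfLE h) (homOfLE hle) _).trans ?_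
    rw [show F.presheaf.map (homOfLE (le_refl U)).op m = m from QCoh.map_id' _ _, hsec]
    rfl
  · rw [hlin, Scheme.Modules.map_smul, Scheme.Modules.map_smul, hlin, hz]
  · rw [map_add, map_add, map_add, map_add, hx, hy]

/-- Semilinear maps on an affine cover agreeing on overlaps glue to a morphism. -/
theorem exists_hom_of_local (hF : Coh.IsQCoh F) {ι : Type*} (U : ι → T₀.Opens)
    (hcov : ∀ x : T₀, ∃ a, x ∈ U a)
    (Φ : ∀ a (W : T₁.Opens), IsAffineOpen W → W ≤ b ⁻¹ᵁ U a →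
      (Γ((Scheme.Modules.pullback b).obj F, W) →+ Γ(N, W)))
    (hlin : ∀ a W hW hle (r : Γ(T₁, W)) x, Φ a W hW hle (r • x) = r • Φ a W hW hle x)
    (hnat : ∀ a W W' hW hW' hle hle' (h : W' ≤ W) x, N.presheaf.map (homOfLE h).op (Φ a W hW hle x) =
        Φ a W' hW' hle' (((Scheme.Modules.pullback b).obj F).presheaf.map (homOfLE h).op x))
    (Q : ι → ι → Set T₀.Opens) (hQa : ∀ a a', ∀ O ∈ Q a a', IsAffineOpen O ∧ O ≤ U a ⊓ U a')
    (hQc : ∀ a a' (x : T₀), x ∈ U a ⊓ U a' → ∃ O ∈ Q a a', x ∈ O)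
    (S : ∀ O : T₀.Opens, Set Γ(F, O)) (hS : ∀ a a', ∀ O ∈ Q a a', Submodule.span Γ(T₀, O) (S O) = ⊤)
    (hQ : ∀ a a', ∀ O ∈ Q a a', ∀ (hO : IsAffineOpen (b ⁻¹ᵁ O)) (ha : b ⁻¹ᵁ O ≤ b ⁻¹ᵁ U a)
      (ha' : b ⁻¹ᵁ O ≤ b ⁻¹ᵁ U a'), ∀ m ∈ S O,
      Φ a _ hO ha (QCoh.pullSec b F le_rfl m) = Φ a' _ hO ha' (QCoh.pullSec b F le_rfl m))
    [IsAffineHom b] :
    ∃ v : (Scheme.Modules.pullback b).obj F ⟶ N,
      ∀ a (W : T₁.Opens) (hW : IsAffineOpen W) (hle : W ≤ b ⁻¹ᵁ U a) x, v.app W x = Φ a W hW hle x := by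
  let P : T₁.Opens → Prop := fun W => IsAffineOpen W ∧ ∃ a, W ≤ b ⁻¹ᵁ U a
  have hP : ∀ (V : T₁.Opens) (x : T₁), x ∈ V → ∃ W : T₁.Opens, P W ∧ x ∈ W ∧ W ≤ V := fun V x hx => by
    obtain ⟨a, ha⟩ := hcov (b x)
    obtain ⟨_, ⟨W, hW, rfl⟩, hxW, hWV⟩ := T₁.isBasis_affineOpens.exists_subset_of_mem_open
      (show x ∈ V ⊓ b ⁻¹ᵁ U a from ⟨hx, ha⟩) (V ⊓ b ⁻¹ᵁ U a).2
    exact ⟨W, ⟨hW, a, fun y hy => (hWV hy).2⟩, hxW, fun y hy => (hWV hy).1⟩
  have agree : ∀ a a' W hW hle hle' x, Φ a W hW hle x = Φ a' W hW hle' x := by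
    intro a a' W hW hle hle' x
    refine ext_basis (fun W' : T₁.Opens => IsAffineOpen W' ∧ (W' ≤ W → ∃ O ∈ Q a a', W' ≤ b ⁻¹ᵁ O))
      (fun V y hy => ?_) N W _ _ fun W' hW'W hW' => ?_
    · by_cases hyW : y ∈ W
      · obtain ⟨O, hO, hyO⟩ := hQc a a' (b y) ⟨hle hyW, hle' hyW⟩
        obtain ⟨_, ⟨W', hW', rfl⟩, hyW', hW'V⟩ := T₁.isBasis_affineOpens.exists_subset_of_mem_open
          (show y ∈ V ⊓ b ⁻¹ᵁ O from ⟨hy, hyO⟩) (V ⊓ b ⁻¹ᵁ O).2
        exact ⟨W', ⟨hW', fun _ => ⟨O, hO, fun z hz => (hW'V hz).2⟩⟩, hyW', fun z hz => (hW'V hz).1⟩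
      · obtain ⟨_, ⟨W', hW', rfl⟩, hyW', hW'V⟩ :=
          T₁.isBasis_affineOpens.exists_subset_of_mem_open hy V.2
        exact ⟨W', ⟨hW', fun h => absurd (h hyW') hyW⟩, hyW', hW'V⟩
    · obtain ⟨O, hO, hW'O⟩ := hW'.2 hW'W
      have hbO := (hQa a a' O hO).1.preimage b
      have ha : b ⁻¹ᵁ O ≤ b ⁻¹ᵁ U a := (Opens.map b.base).monotone ((hQa a a' O hO).2.trans inf_le_left)
      have ha' : b ⁻¹ᵁ O ≤ b ⁻¹ᵁ U a' := (Opens.map b.base).monotone ((hQa a a' O hO).2.trans inf_le_right)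
      rw [hnat a W W' hW hW'.1 hle (hW'W.trans hle) hW'W, hnat a' W W' hW hW'.1 hle' (hW'W.trans hle') hW'W]
      refine DFunLike.congr_fun (linear_ext b hF (hQa a a' O hO).1 hW'.1 hW'O
        (Φ a W' hW'.1 (hW'W.trans hle)) (Φ a' W' hW'.1 (hW'W.trans hle'))
        (hlin _ _ _ _) (hlin _ _ _ _) (S O) (hS a a' O hO) fun m hm => ?_) _
      have hr : ((Scheme.Modules.pullback b).obj F).presheaf.map (homOfLE hW'O).op (QCoh.pullSec b F le_rfl m) =
          QCoh.pullSec b F hW'O m := by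
        rw [ExistEasy.pullSec_res b F le_rfl hW'O le_rfl hW'O]
        exact congrArg _ (QCoh.map_id' _ _)
      rw [← hr, ← hnat a _ W' hbO hW'.1 ha _ hW'O, ← hnat a' _ W' hbO hW'.1 ha' _ hW'O,
        hQ a a' O hO hbO ha ha' m hm]
  choose sel hsel using fun (W : T₁.Opens) (hW : P W) => hW.2
  obtain ⟨v, hv⟩ := exists_hom_of_basis P hP (fun W hW => Φ (sel W hW) W hW.1 (hsel W hW))
    (fun U' W hU' hW h s => by
      rw [hnat _ U' W hU'.1 hW.1 _ (h.trans (hsel U' hU')) h]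
      exact agree _ _ W _ _ _ _)
    (fun U' hU' r s => hlin _ _ _ _ r s)
  exact ⟨v, fun a W hW hle x => (hv W ⟨hW, a, hle⟩ x).trans (agree _ _ W _ _ _ _)⟩

end Groth.Agent.LimMod
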