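import Groth.Agent.LimMod.Stage

/-!
# Every section in the limit comes from a stage
-/

universe u

set_option backward.isDefEq.respectTransparency false
set_option backward.isDefEq.respectTransparency.types false

open CategoryTheory CategoryTheory.Limits AlgebraicGeometry TopologicalSpace Opposite

noncomputable section

namespace Groth.Agent.LimMod

open Groth.Agent

variable {I : Type u} [SmallCategory I] (D : I ⥤ Scheme.{u}) (c : Cone D) {i : I} {G : (D.obj i).Modules}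

theorem trLim_pullSec {j : I} (φ : j ⟶ i) {U : (D.obj i).Opens} {O : (D.obj j).Opens} {O' : c.pt.Opens}
    (h₁ : O ≤ D.map φ ⁻¹ᵁ U) (hle : O' ≤ c.π.app j ⁻¹ᵁ O) (h₂ : O' ≤ c.π.app i ⁻¹ᵁ U) (m : Γ(G, U)) :
    trLim D c φ hle (QCoh.pullSec (D.map φ) G h₁ m) = QCoh.pullSec (c.π.app i) G h₂ m :=
  tr_pullSec _ _ _ _ h₁ hle h₂ m

theorem trStage_pullSec {j k : I} (ψ : k ⟶ j) (φ : j ⟶ i) {U : (D.obj i).Opens} {O : (D.obj j).Opens}
    {O' : (D.obj k).Opens} (h₁ : O ≤ D.map φ ⁻¹ᵁ U) (hle : O' ≤ D.map ψ ⁻¹ᵁ O)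
    (h₂ : O' ≤ D.map (ψ ≫ φ) ⁻¹ᵁ U) (m : Γ(G, U)) :
    trStage D ψ φ hle (QCoh.pullSec (D.map φ) G h₁ m) = QCoh.pullSec (D.map (ψ ≫ φ)) G h₂ m :=
  tr_pullSec _ _ _ _ h₁ hle h₂ m

theorem trLim_smul {j : I} (φ : j ⟶ i) {O : (D.obj j).Opens} {O' : c.pt.Opens}
    (hle : O' ≤ c.π.app j ⁻¹ᵁ O) (r : Γ(D.obj j, O)) (x : Γ((Scheme.Modules.pullback (D.map φ)).obj G, O)) :
    trLim D c φ hle (r • x) = (c.π.app j).appLE O O' hle r • trLim D c φ hle x :=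
  tr_smul _ _ _ _ hle r x

theorem trStage_smul {j k : I} (ψ : k ⟶ j) (φ : j ⟶ i) {O : (D.obj j).Opens}
    {O' : (D.obj k).Opens} (hle : O' ≤ D.map ψ ⁻¹ᵁ O) (r : Γ(D.obj j, O))
    (x : Γ((Scheme.Modules.pullback (D.map φ)).obj G, O)) :
    trStage D ψ φ hle (r • x) = (D.map ψ).appLE O O' hle r • trStage D ψ φ hle x :=
  tr_smul _ _ _ _ hle r x

/-- Transport to a further stage and then to the limit. -/
theorem trLim_trStage (hG : Coh.IsQCoh G) {j k : I} (ψ : k ⟶ j) (φ : j ⟶ i) {U : (D.obj i).Opens}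
    (hU : IsAffineOpen U) {O : (D.obj j).Opens} (hO : IsAffineOpen O) (h₁ : O ≤ D.map φ ⁻¹ᵁ U)
    {O' : (D.obj k).Opens} {O'' : c.pt.Opens} (hle : O' ≤ D.map ψ ⁻¹ᵁ O) (hle' : O'' ≤ c.π.app k ⁻¹ᵁ O')
    (hle'' : O'' ≤ c.π.app j ⁻¹ᵁ O) (z : Γ((Scheme.Modules.pullback (D.map φ)).obj G, O)) :
    trLim D c (ψ ≫ φ) hle' (trStage D ψ φ hle z) = trLim D c φ hle'' z :=
  tr_tr _ _ _ _ _ _ _ _ (c.w ψ) _ hG hU hO h₁ hle hle' hle'' z

variable (hc : IsLimit c) [IsCofiltered I] [∀ (i j : I) (f : i ⟶ j), IsAffineHom (D.map f)]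

include hc in
/-- Every section in the limit over an affine of a stage comes from a stage. -/
theorem exists_trLim_eq (hG : Coh.IsQCoh G) {U : (D.obj i).Opens} (hU : IsAffineOpen U)
    (y : Γ((Scheme.Modules.pullback (c.π.app i)).obj G, c.π.app i ⁻¹ᵁ U)) :
    ∃ (j : I) (φ : j ⟶ i) (z : Γ((Scheme.Modules.pullback (D.map φ)).obj G, D.map φ ⁻¹ᵁ U)),
      trLim D c φ (lim_le D c φ U) z = y := by
  have move : ∀ {j k : I} (φ : j ⟶ i) (ψ : k ⟶ j) (φ' : k ⟶ i) (_ : ψ ≫ φ = φ')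
      (z : Γ((Scheme.Modules.pullback (D.map φ)).obj G, D.map φ ⁻¹ᵁ U)),
      ∃ z', trLim D c φ' (lim_le D c φ' U) z' = trLim D c φ (lim_le D c φ U) z := by
    intro j k φ ψ φ' hφ z
    subst hφ
    exact ⟨trStage D ψ φ (stage_le D ψ φ U) z, trLim_trStage D c hG ψ φ hU (isAffineOpen_stage D φ hU)
      le_rfl _ _ _ z⟩
  refine pullSec_induction (c.π.app i) hG (isAffineOpen_lim D c hc hU) hU le_rfl
    (fun y => ∃ (j : I) (φ : j ⟶ i) (z : Γ((Scheme.Modules.pullback (D.map φ)).obj G, D.map φ ⁻¹ᵁ U)),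
      trLim D c φ (lim_le D c φ U) z = y) ⟨i, 𝟙 i, 0, map_zero _⟩ (fun m => ?_) (fun r z hz => ?_)
    (fun a b ha hb => ?_) y
  · exact ⟨i, 𝟙 i, _, trLim_pullSec D c (𝟙 i) le_rfl (lim_le D c _ U) le_rfl m⟩
  · obtain ⟨j, φ, z, rfl⟩ := hz
    obtain ⟨k, φ', t, rfl⟩ := exists_ring_lift D c hc hU r
    obtain ⟨l, f, g, hfg⟩ := exists_common φ φ'
    obtain ⟨z', hz'⟩ := move φ f (g ≫ φ') hfg z
    refine ⟨l, g ≫ φ', (D.map g).appLE _ _ (stage_le D g φ' U) t • z', ?_⟩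
    rw [trLim_smul, hz', ← CommRingCat.comp_apply, Scheme.Hom.appLE_comp_appLE]
    simp only [c.w]
    rfl
  · obtain ⟨j, φ, z, rfl⟩ := ha
    obtain ⟨k, φ', w, rfl⟩ := hb
    obtain ⟨l, f, g, hfg⟩ := exists_common φ φ'
    obtain ⟨z', hz'⟩ := move φ f (g ≫ φ') hfg z
    obtain ⟨w', hw'⟩ := move φ' g (g ≫ φ') rfl w
    exact ⟨l, g ≫ φ', z' + w', by rw [map_add, hz', hw']⟩

end Groth.Agent.LimMod
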