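import Groth.Agent.LimMod.SurjA

/-!
# Morphisms in the limit come from a stage
-/

universe u

set_option backward.isDefEq.respectTransparency false
set_option backward.isDefEq.respectTransparency.types false

open CategoryTheory CategoryTheory.Limits AlgebraicGeometry TopologicalSpace Opposite

noncomputable section

namespace Groth.Agent.LimMod

open Groth.Agent

variable {I : Type u} [SmallCategory I] (D : I ⥤ Scheme.{u}) (c : Cone D) {i : I}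
  {F G : (D.obj i).Modules}
  (hc : IsLimit c) [IsCofiltered I] [∀ (i j : I) (f : i ⟶ j), IsAffineHom (D.map f)]

omit [IsCofiltered I] in
/-- The extensions at two stages of a semilinear map are compatible. -/
theorem trStage_family (hF : Coh.IsQCoh F) {k l : I} (ψ : k ⟶ l) (χ : l ⟶ i) {U : (D.obj i).Opens}
    (hU : IsAffineOpen U) (lam : Γ(F, U) →+ Γ((Scheme.Modules.pullback (D.map χ)).obj G, D.map χ ⁻¹ᵁ U))
    {O : (D.obj i).Opens} (hO : IsAffineOpen O) (hj : D.map χ ⁻¹ᵁ O ≤ D.map χ ⁻¹ᵁ U)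
    (hk : D.map (ψ ≫ χ) ⁻¹ᵁ O ≤ D.map (ψ ≫ χ) ⁻¹ᵁ U)
    (A : Γ((Scheme.Modules.pullback (D.map χ)).obj F, D.map χ ⁻¹ᵁ O) →+
      Γ((Scheme.Modules.pullback (D.map χ)).obj G, D.map χ ⁻¹ᵁ O))
    (hA : ∀ (r : Γ(D.obj l, D.map χ ⁻¹ᵁ O)) x, A (r • x) = r • A x)
    (hAs : ∀ m, A (QCoh.pullSec (D.map χ) F hj m) =
      ((Scheme.Modules.pullback (D.map χ)).obj G).presheaf.map (homOfLE hj).op (lam m))
    (B : Γ((Scheme.Modules.pullback (D.map (ψ ≫ χ))).obj F, D.map (ψ ≫ χ) ⁻¹ᵁ O) →+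
      Γ((Scheme.Modules.pullback (D.map (ψ ≫ χ))).obj G, D.map (ψ ≫ χ) ⁻¹ᵁ O))
    (hB : ∀ (r : Γ(D.obj k, D.map (ψ ≫ χ) ⁻¹ᵁ O)) x, B (r • x) = r • B x)
    (hBs : ∀ m, B (QCoh.pullSec (D.map (ψ ≫ χ)) F hk m) =
      ((Scheme.Modules.pullback (D.map (ψ ≫ χ))).obj G).presheaf.map (homOfLE hk).op
        (trStage D ψ χ (stage_le D ψ χ U) (lam m)))
    (x : Γ((Scheme.Modules.pullback (D.map χ)).obj F, D.map χ ⁻¹ᵁ O)) :
    B (trStage D ψ χ (stage_le D ψ χ O) x) = trStage D ψ χ (stage_le D ψ χ O) (A x) := by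
  refine tr_linear (D.map χ) (D.map ψ) (D.map (ψ ≫ χ)) (D.map_comp ψ χ).symm hF hU
    (isAffineOpen_stage D χ hO) hj (stage_le D ψ χ O) hk A B hA hB (fun m => ?_) x
  rw [hBs, hAs]
  exact tr_res _ _ _ _ hj hk (stage_le D ψ χ U) (stage_le D ψ χ O) (lam m)

variable [CompactSpace (D.obj i)] [QuasiSeparatedSpace (D.obj i)]

include hc in
/-- Every morphism in the limit comes from a stage. -/
theorem exists_trLimHom_eq (hFp : CohB1.IsFP F) (hG : Coh.IsQCoh G)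
    (h : (Scheme.Modules.pullback (c.π.app i)).obj F ⟶ (Scheme.Modules.pullback (c.π.app i)).obj G) :
    ∃ (j : I) (φ : j ⟶ i) (u : (Scheme.Modules.pullback (D.map φ)).obj F ⟶ (Scheme.Modules.pullback (D.map φ)).obj G),
      trLimHom D c φ u = h := by
  classical
  have hF : Coh.IsQCoh F := QCoh.isQCoh_of_isFP hFp
  have hFt : CohB1.IsFT F := QCoh.isFT_of_isFP hFp
  obtain ⟨n, U, hU, hcov⟩ := exists_fin_affine_cover (D.obj i)
  obtain ⟨l, χ, lam, hlin, hlim⟩ := exists_lifts D c hc hFp hG U hU h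
  choose Φ hΦlin hΦsec hΦnat using fun a => exists_family (D.map χ) hF (hU a) (lam a) (hlin a)
  choose N Q hQa hQle hQcov using fun a a' => exists_finite_affines_le (U a ⊓ U a')
    (QuasiSeparatedSpace.inter_isCompact (U a : Set (D.obj i)) (U a') (U a).2 (hU a).isCompact (U a').2
      (hU a').isCompact)
  have hS : ∀ O : (D.obj i).Opens, ∃ S : Finset Γ(F, O),
      IsAffineOpen O → Submodule.span Γ(D.obj i, O) (S : Set Γ(F, O)) = ⊤ := fun O => by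
    by_cases hO : IsAffineOpen O
    · obtain ⟨S, hS⟩ := (QCoh.finite_of_isFT hF hFt hO).fg_top
      exact ⟨S, fun _ => hS⟩
    · exact ⟨∅, fun h => absurd h hO⟩
  choose S hS using hS
  let P := Σ (a : Fin n) (a' : Fin n) (q : Fin (N a a')), {m : Γ(F, Q a a' q) // m ∈ S (Q a a' q)}
  have hle : ∀ a a' q, D.map χ ⁻¹ᵁ Q a a' q ≤ D.map χ ⁻¹ᵁ U a ∧ D.map χ ⁻¹ᵁ Q a a' q ≤ D.map χ ⁻¹ᵁ U a' :=
    fun a a' q => ⟨(Opens.map (D.map χ).base).monotone ((hQle a a' q).trans inf_le_left),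
      (Opens.map (D.map χ).base).monotone ((hQle a a' q).trans inf_le_right)⟩
  let z : ∀ p : P, Γ((Scheme.Modules.pullback (D.map χ)).obj G, D.map χ ⁻¹ᵁ Q p.1 p.2.1 p.2.2.1) := fun p =>
    Φ p.1 _ (isAffineOpen_stage D χ (hQa _ _ _)) (hle _ _ _).1 (QCoh.pullSec (D.map χ) F le_rfl p.2.2.2.1) -
      Φ p.2.1 _ (isAffineOpen_stage D χ (hQa _ _ _)) (hle _ _ _).2 (QCoh.pullSec (D.map χ) F le_rfl p.2.2.2.1)
  obtain ⟨k, ψ, hψ⟩ := exists_trStage_finite_eq_zero D c hc hG χ (fun p : P => Q p.1 p.2.1 p.2.2.1)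
    (fun p => hQa _ _ _) z (fun p => by
      rw [map_sub,
        trLim_family_eq D c hF χ (hU _) (lam _) h (hlim _) (isAffineOpen_stage D χ (hQa _ _ _)) (hle _ _ _).1
          _ (hΦlin _ _ _ _) (hΦsec _ _ _ _),
        trLim_family_eq D c hF χ (hU _) (lam _) h (hlim _) (isAffineOpen_stage D χ (hQa _ _ _)) (hle _ _ _).2
          _ (hΦlin _ _ _ _) (hΦsec _ _ _ _), sub_self])
  choose Ψ hΨlin hΨsec hΨnat using fun a => exists_family (D.map (ψ ≫ χ)) hF (hU a)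
    ((trStage D ψ χ (stage_le D ψ χ (U a))).comp (lam a)) (trStage_comp_semilinear D ψ χ (lam a) (hlin a))
  obtain ⟨u, hu⟩ := exists_hom_of_local (D.map (ψ ≫ χ)) hF U hcov Ψ hΨlin hΨnat
    (fun a a' => Set.range (Q a a'))
    (by rintro a a' _ ⟨q, rfl⟩; exact ⟨hQa a a' q, hQle a a' q⟩)
    (fun a a' x hx => by
      obtain ⟨q, hq⟩ := hQcov a a' x hx
      exact ⟨_, ⟨q, rfl⟩, hq⟩)
    (fun O => (S O : Set Γ(F, O))) (by rintro a a' _ ⟨q, rfl⟩; exact hS _ (hQa a a' q))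
    (by
      rintro a a' _ ⟨q, rfl⟩ hO' ha ha' m hm
      have hz := hψ ⟨a, a', q, ⟨m, hm⟩⟩
      rw [map_sub, sub_eq_zero,
        ← trStage_family D hF ψ χ (hU a) (lam a) (hQa a a' q) (hle a a' q).1 ha _ (hΦlin a _ _ _)
          (hΦsec a _ _ _) _ (hΨlin a _ _ _) (hΨsec a _ hO' ha),
        ← trStage_family D hF ψ χ (hU a') (lam a') (hQa a a' q) (hle a a' q).2 ha' _ (hΦlin a' _ _ _)
          (hΦsec a' _ _ _) _ (hΨlin a' _ _ _) (hΨsec a' _ hO' ha'),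
        trStage_pullSec D ψ χ le_rfl (stage_le D ψ χ (Q a a' q)) le_rfl] at hz
      exact hz)
  refine ⟨k, ψ ≫ χ, u, hom_ext_pullSec (c.π.app i) hF _ _ U hU hcov (fun a => Set.univ)
    (fun a => Submodule.span_univ) fun a m _ => ?_⟩
  have h1 := trLimHom_app_trLim D c (ψ ≫ χ) u (lim_le D c (ψ ≫ χ) (U a))
    (QCoh.pullSec (D.map (ψ ≫ χ)) F le_rfl m)
  rw [trLim_pullSec D c (ψ ≫ χ) le_rfl (lim_le D c _ (U a)) le_rfl,
    hu a _ (isAffineOpen_stage D _ (hU a)) le_rfl, hΨsec] at h1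
  rw [h1]
  refine Eq.trans (congrArg (trLim D c (ψ ≫ χ) _) (QCoh.map_id' _ _)) ?_
  show trLim D c (ψ ≫ χ) _ (trStage D ψ χ _ (lam a m)) = _
  rw [trLim_trStage D c hG ψ χ (hU a) (isAffineOpen_stage D χ (hU a)) le_rfl _ _ (lim_le D c χ (U a)), hlim]

end Groth.Agent.LimMod
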