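import Groth.Agent.LimMod.Local
import Groth.Agent.LimMod.Lift
import Groth.Agent.QCoh.LocFree

/-!
# Local lifts of a morphism in the limit
-/

universe u

set_option backward.isDefEq.respectTransparency false
set_option backward.isDefEq.respectTransparency.types false

open CategoryTheory CategoryTheory.Limits AlgebraicGeometry TopologicalSpace Opposite

noncomputable section

namespace Groth.Agent.LimMod

open Groth.Agent

/-- A quasi-compact open is covered by finitely many affine opens inside it. -/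
theorem exists_finite_affines_le {X : Scheme.{u}} (V : X.Opens) (hV : IsCompact (V : Set X)) :
    ∃ (n : ℕ) (Q : Fin n → X.Opens), (∀ q, IsAffineOpen (Q q)) ∧ (∀ q, Q q ≤ V) ∧
      ∀ x ∈ V, ∃ q, x ∈ Q q := by
  classical
  obtain ⟨s, hs⟩ := hV.elim_finite_subcover (fun U : {U : X.affineOpens // U.1 ≤ V} => (U.1.1 : Set X))
    (fun U => U.1.1.2) (fun x hx => by
      obtain ⟨_, ⟨U, hU, rfl⟩, hxU, hUV⟩ := X.isBasis_affineOpens.exists_subset_of_mem_open hx V.2
      exact Set.mem_iUnion.2 ⟨⟨⟨U, hU⟩, hUV⟩, hxU⟩)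
  refine ⟨s.card, fun q => (s.equivFin.symm q).1.1.1, fun q => (s.equivFin.symm q).1.1.2,
    fun q => (s.equivFin.symm q).1.2, fun x hx => ?_⟩
  obtain ⟨U, hU, hxU⟩ := Set.mem_iUnion₂.1 (hs hx)
  exact ⟨s.equivFin ⟨U, hU⟩, by simpa using hxU⟩

variable {I : Type u} [SmallCategory I] (D : I ⥤ Scheme.{u}) (c : Cone D) {i : I}
  {F G : (D.obj i).Modules}

/-- A semilinear map followed by transport to a further stage is semilinear. -/
theorem trStage_comp_semilinear {j k : I} (ψ : k ⟶ j) (φ : j ⟶ i) {U : (D.obj i).Opens}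
    (lam : Γ(F, U) →+ Γ((Scheme.Modules.pullback (D.map φ)).obj G, D.map φ ⁻¹ᵁ U))
    (hlam : ∀ (r : Γ(D.obj i, U)) m, lam (r • m) = (D.map φ).appLE U _ le_rfl r • lam m)
    (r : Γ(D.obj i, U)) (m : Γ(F, U)) :
    (trStage D ψ φ (stage_le D ψ φ U)).comp lam (r • m) =
      (D.map (ψ ≫ φ)).appLE U _ le_rfl r • (trStage D ψ φ (stage_le D ψ φ U)).comp lam m := by
  show trStage D ψ φ _ (lam (r • m)) = _
  rw [hlam, trStage_smul, ← CommRingCat.comp_apply, Scheme.Hom.appLE_comp_appLE]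
  simp only [← D.map_comp]
  rfl

variable (hc : IsLimit c) [IsCofiltered I] [∀ (i j : I) (f : i ⟶ j), IsAffineHom (D.map f)]

include hc in
/-- Lifts of a morphism in the limit on the members of a finite affine cover, at one stage. -/
theorem exists_lifts (hFp : CohB1.IsFP F) (hG : Coh.IsQCoh G) {n : ℕ} (U : Fin n → (D.obj i).Opens)
    (hU : ∀ a, IsAffineOpen (U a))
    (h : (Scheme.Modules.pullback (c.π.app i)).obj F ⟶ (Scheme.Modules.pullback (c.π.app i)).obj G) :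
    ∃ (l : I) (χ : l ⟶ i) (lam : ∀ a, Γ(F, U a) →+ Γ((Scheme.Modules.pullback (D.map χ)).obj G, D.map χ ⁻¹ᵁ U a)),
      (∀ a (r : Γ(D.obj i, U a)) m, lam a (r • m) = (D.map χ).appLE (U a) _ le_rfl r • lam a m) ∧
      ∀ a m, trLim D c χ (lim_le D c χ (U a)) (lam a m) =
        h.app (c.π.app i ⁻¹ᵁ U a) (QCoh.pullSec (c.π.app i) F le_rfl m) := by
  haveI hfp : ∀ a, Module.FinitePresentation Γ(D.obj i, U a) Γ(F, U a) := fun a =>
    QCoh.finitePresentation_of_isFP hFp (hU a)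
  choose j φ lam hlam hlamh using fun a => exists_local_lift D c hc hG (hU a)
    ((h.app (c.π.app i ⁻¹ᵁ U a)).hom.comp (pullSecHom (c.π.app i) F (le_refl (c.π.app i ⁻¹ᵁ U a))))
    (fun r m => (congrArg (h.app (c.π.app i ⁻¹ᵁ U a))
      (QCoh.pullSec_smul (c.π.app i) F le_rfl r m)).trans (Scheme.Modules.Hom.app_smul h _ _))
  obtain ⟨l, χ, hl⟩ := exists_below_fin j φ
  have hlam' : ∀ a, ∃ lam' : Γ(F, U a) →+ Γ((Scheme.Modules.pullback (D.map χ)).obj G, D.map χ ⁻¹ᵁ U a),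
      (∀ (r : Γ(D.obj i, U a)) m, lam' (r • m) = (D.map χ).appLE (U a) _ le_rfl r • lam' m) ∧
      ∀ m, trLim D c χ (lim_le D c χ (U a)) (lam' m) =
        h.app (c.π.app i ⁻¹ᵁ U a) (QCoh.pullSec (c.π.app i) F le_rfl m) := by
    intro a
    obtain ⟨g, hg⟩ := hl a
    subst hg
    refine ⟨(trStage D g (φ a) (stage_le D g (φ a) (U a))).comp (lam a),
      trStage_comp_semilinear D g (φ a) (lam a) (hlam a), fun m => ?_⟩
    show trLim D c _ _ (trStage D g (φ a) _ (lam a m)) = _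
    rw [trLim_trStage D c hG g (φ a) (hU a) (isAffineOpen_stage D _ (hU a)) le_rfl _ _
      (lim_le D c (φ a) (U a)), hlamh]
    rfl
  choose lam' hlin hlim using hlam'
  exact ⟨l, χ, lam', hlin, hlim⟩

omit [IsCofiltered I] [∀ (i j : I) (f : i ⟶ j), IsAffineHom (D.map f)] in
/-- In the limit the extensions of lifts of `h` are `h`. -/
theorem trLim_family_eq (hF : Coh.IsQCoh F) {l : I} (χ : l ⟶ i) {U : (D.obj i).Opens} (hU : IsAffineOpen U)
    (lam : Γ(F, U) →+ Γ((Scheme.Modules.pullback (D.map χ)).obj G, D.map χ ⁻¹ᵁ U))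
    (h : (Scheme.Modules.pullback (c.π.app i)).obj F ⟶ (Scheme.Modules.pullback (c.π.app i)).obj G)
    (hlim : ∀ m, trLim D c χ (lim_le D c χ U) (lam m) =
      h.app (c.π.app i ⁻¹ᵁ U) (QCoh.pullSec (c.π.app i) F le_rfl m))
    {W : (D.obj l).Opens} (hW : IsAffineOpen W) (hle : W ≤ D.map χ ⁻¹ᵁ U)
    (A : Γ((Scheme.Modules.pullback (D.map χ)).obj F, W) →+ Γ((Scheme.Modules.pullback (D.map χ)).obj G, W))
    (hA : ∀ (r : Γ(D.obj l, W)) x, A (r • x) = r • A x)
    (hAs : ∀ m, A (QCoh.pullSec (D.map χ) F hle m) =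
      ((Scheme.Modules.pullback (D.map χ)).obj G).presheaf.map (homOfLE hle).op (lam m))
    (x : Γ((Scheme.Modules.pullback (D.map χ)).obj F, W)) :
    trLim D c χ (le_refl (c.π.app l ⁻¹ᵁ W)) (A x) =
      h.app (c.π.app l ⁻¹ᵁ W) (trLim D c χ (le_refl (c.π.app l ⁻¹ᵁ W)) x) := by
  have hWi : c.π.app l ⁻¹ᵁ W ≤ c.π.app i ⁻¹ᵁ U :=
    ((Opens.map (c.π.app l).base).monotone hle).trans (by rw [← Scheme.Hom.comp_preimage, c.w])
  refine (tr_linear (D.map χ) (c.π.app l) (c.π.app i) (c.w χ) hF hU hW hle le_rfl hWi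
    A (h.app (c.π.app l ⁻¹ᵁ W)).hom hA (fun r y => Scheme.Modules.Hom.app_smul h r y) (fun m => ?_) x).symm
  show h.app _ _ = _
  rw [hAs, ← tr_res (c.π.app l) (D.map χ) (c.π.app i) (c.w χ) hle hWi (lim_le D c χ U)]
  refine Eq.trans ?_ (congrArg _ (hlim m).symm)
  rw [← QCoh.map_app_comm h (homOfLE hWi), ExistEasy.pullSec_res (c.π.app i) F (le_refl U) hWi le_rfl hWi]
  exact congrArg _ (congrArg _ (QCoh.map_id' _ _).symm)

end Groth.Agent.LimMod
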